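/-
Hyperbolic frames with an anisotropic complement: coordinates, and isometries given by coordinates.
-/
import Cfsg.Agent.Lib.Perm.Trans.QuadSimple
import Cfsg.Agent.Lib.Classical.SLBasic

set_option autoImplicit false

namespace CfsgLib.Classical.OrthMin

open Matrix Module Cfsg.Geo CfsgLib.Perm.Trans CfsgLib.Perm.Trans.Quad

variable {ι : Type} [Fintype ι] [DecidableEq ι] {F : Type*} [Field F]

local notation "pol" => QuadraticMap.polar

/-- A hyperbolic frame whose orthogonal is anisotropic. -/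
structure Fr (Q : (ι → F) → F) (m : ℕ) where
  hQ : IsNondegenerateQuadraticForm Q
  hm : 3 ≤ m
  hι : 5 ≤ Fintype.card ι
  e : Fin m → ι → F
  f : Fin m → ι → F
  qe : ∀ i, Q (e i) = 0
  qf : ∀ i, Q (f i) = 0
  pee : ∀ i j, pol Q (e i) (e j) = 0
  pff : ∀ i j, pol Q (f i) (f j) = 0
  pef : ∀ i j, pol Q (e i) (f j) = if i = j then 1 else 0
  aniso : ∀ k, (∀ i, pol Q k (e i) = 0) → (∀ i, pol Q k (f i) = 0) → Q k = 0 → k = 0

variable {Q : (ι → F) → F} {m : ℕ} (S : Fr Q m)

namespace Fr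

theorem pfe (i j : Fin m) : pol Q (S.f i) (S.e j) = if i = j then 1 else 0 := by
  rw [pcomm, S.pef]; exact if_congr eq_comm rfl rfl

/-- The anisotropic complement. -/
def K : Submodule F (ι → F) where
  carrier := {k | (∀ i, pol Q k (S.e i) = 0) ∧ ∀ i, pol Q k (S.f i) = 0}
  zero_mem' := ⟨fun _ => pzero_left S.hQ _, fun _ => pzero_left S.hQ _⟩
  add_mem' := fun {a b} ha hb => ⟨fun i => by rw [padd_left S.hQ, ha.1, hb.1, add_zero],
    fun i => by rw [padd_left S.hQ, ha.2, hb.2, add_zero]⟩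
  smul_mem' := fun c a ha => ⟨fun i => by rw [psmul_left S.hQ, ha.1, mul_zero],
    fun i => by rw [psmul_left S.hQ, ha.2, mul_zero]⟩

/-- The first coordinates. -/
def al : (ι → F) →ₗ[F] (Fin m → F) where
  toFun x i := pol Q x (S.f i)
  map_add' x y := funext fun i => padd_left S.hQ x y _
  map_smul' c x := funext fun i => psmul_left S.hQ c x _

/-- The second coordinates. -/
def be : (ι → F) →ₗ[F] (Fin m → F) where
  toFun x i := pol Q x (S.e i)
  map_add' x y := funext fun i => padd_left S.hQ x y _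
  map_smul' c x := funext fun i => psmul_left S.hQ c x _

theorem al_apply (x : ι → F) (i : Fin m) : S.al x i = pol Q x (S.f i) := rfl

theorem be_apply (x : ι → F) (i : Fin m) : S.be x i = pol Q x (S.e i) := rfl

/-- The vector with given coordinates. -/
def vec (a b : Fin m → F) (k : ι → F) : ι → F := ∑ i, a i • S.e i + ∑ i, b i • S.f i + k

/-- The component in the complement. -/
def kp : (ι → F) →ₗ[F] (ι → F) :=
  LinearMap.id - (Fintype.linearCombination F S.e).comp S.al - (Fintype.linearCombination F S.f).comp S.be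

theorem kp_apply (x : ι → F) : S.kp x = x - ∑ i, S.al x i • S.e i - ∑ i, S.be x i • S.f i := by
  simp [kp, Fintype.linearCombination_apply]

theorem mk_coords (x : ι → F) : S.vec (S.al x) (S.be x) (S.kp x) = x := by
  rw [vec, kp_apply]; abel

include S in
theorem pol_sum_left {κ : Type} (s : Finset κ) (c : κ → F) (v : κ → ι → F) (w : ι → F) :
    pol Q (∑ i ∈ s, c i • v i) w = ∑ i ∈ s, c i * pol Q (v i) w := by
  classical
  induction s using Finset.induction with
  | empty => simpa using pzero_left S.hQ w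
  | insert a s ha ih => rw [Finset.sum_insert ha, Finset.sum_insert ha, padd_left S.hQ, psmul_left S.hQ, ih]

theorem pol_mk_left (a b : Fin m → F) (k w : ι → F) :
    pol Q (S.vec a b k) w = ∑ i, a i * pol Q (S.e i) w + ∑ i, b i * pol Q (S.f i) w + pol Q k w := by
  rw [vec, padd_left S.hQ, padd_left S.hQ, S.pol_sum_left, S.pol_sum_left]

theorem al_mk {k : ι → F} (hk : k ∈ S.K) (a b : Fin m → F) : S.al (S.vec a b k) = a := by
  funext j
  rw [al_apply, pol_mk_left, hk.2 j]
  simp [S.pef, S.pff]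

theorem be_mk {k : ι → F} (hk : k ∈ S.K) (a b : Fin m → F) : S.be (S.vec a b k) = b := by
  funext j
  rw [be_apply, pol_mk_left, hk.1 j]
  simp [S.pfe, S.pee]

theorem kp_mk {k : ι → F} (hk : k ∈ S.K) (a b : Fin m → F) : S.kp (S.vec a b k) = k := by
  rw [kp_apply, S.al_mk hk, S.be_mk hk, vec]; abel

theorem kp_mem (x : ι → F) : S.kp x ∈ S.K := by
  constructor <;> intro j <;>
    rw [kp_apply, psub_left S.hQ, psub_left S.hQ, S.pol_sum_left, S.pol_sum_left] <;>
    simp [S.pef, S.pfe, S.pee, S.pff, al_apply, be_apply]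

theorem eq_mk (x : ι → F) : ∃ a b k, k ∈ S.K ∧ x = S.vec a b k :=
  ⟨_, _, _, S.kp_mem x, (S.mk_coords x).symm⟩

theorem coords_ext {x y : ι → F} (h1 : S.al x = S.al y) (h2 : S.be x = S.be y) (h3 : S.kp x = S.kp y) : x = y := by
  rw [← S.mk_coords x, ← S.mk_coords y, h1, h2, h3]

theorem mk_add (a a' b b' : Fin m → F) (k k' : ι → F) :
    S.vec a b k + S.vec a' b' k' = S.vec (a + a') (b + b') (k + k') := by
  simp only [vec, Pi.add_apply, add_smul, Finset.sum_add_distrib]; abel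

theorem pol_mk {k k' : ι → F} (hk : k ∈ S.K) (hk' : k' ∈ S.K) (a a' b b' : Fin m → F) :
    pol Q (S.vec a b k) (S.vec a' b' k') = a ⬝ᵥ b' + b ⬝ᵥ a' + pol Q k k' := by
  have h1 : ∀ i, pol Q (S.e i) (S.vec a' b' k') = b' i := fun i => by
    rw [pcomm, ← be_apply, S.be_mk hk']
  have h2 : ∀ i, pol Q (S.f i) (S.vec a' b' k') = a' i := fun i => by
    rw [pcomm, ← al_apply, S.al_mk hk']
  have h3 : pol Q k (S.vec a' b' k') = pol Q k k' := by
    rw [pcomm, pol_mk_left]
    simp [pcomm _ k, hk.1, hk.2]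
  rw [pol_mk_left, h3]
  simp [h1, h2, dotProduct]

include S in
theorem q_sum_singular (v : Fin m → ι → F) (hv : ∀ i, Q (v i) = 0) (hp : ∀ i j, pol Q (v i) (v j) = 0)
    (c : Fin m → F) (s : Finset (Fin m)) : Q (∑ i ∈ s, c i • v i) = 0 := by
  classical
  induction s using Finset.induction with
  | empty => simpa using qzero S.hQ
  | insert a s ha ih =>
    rw [Finset.sum_insert ha, Quad.qadd S.hQ, Quad.qsmul S.hQ, hv, ih, psmul_left S.hQ, pcomm, S.pol_sum_left]
    simp [hp]

theorem q_mk {k : ι → F} (hk : k ∈ S.K) (a b : Fin m → F) : Q (S.vec a b k) = a ⬝ᵥ b + Q k := by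
  rw [vec, Quad.qadd S.hQ, Quad.qadd S.hQ, S.q_sum_singular _ S.qe S.pee, S.q_sum_singular _ S.qf S.pff,
    padd_left S.hQ, S.pol_sum_left, S.pol_sum_left, S.pol_sum_left]
  simp only [pcomm _ k, hk.1, hk.2, mul_zero, Finset.sum_const_zero, add_zero, zero_add]
  simp [pcomm (S.e _) (∑ i, b i • S.f i), S.pol_sum_left, S.pfe, dotProduct]

theorem q_coords (x : ι → F) : Q x = S.al x ⬝ᵥ S.be x + Q (S.kp x) := by
  conv_lhs => rw [← S.mk_coords x]
  exact S.q_mk (S.kp_mem x) _ _

theorem al_e (i : Fin m) : S.al (S.e i) = Pi.single i 1 := by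
  funext j; rw [al_apply, S.pef]; simp [Pi.single_apply, eq_comm]

theorem be_e (i : Fin m) : S.be (S.e i) = 0 := by
  funext j; rw [be_apply, S.pee]; rfl

theorem al_f (i : Fin m) : S.al (S.f i) = 0 := by
  funext j; rw [al_apply, S.pff]; rfl

theorem be_f (i : Fin m) : S.be (S.f i) = Pi.single i 1 := by
  funext j; rw [be_apply, S.pfe]; simp [Pi.single_apply, eq_comm]

theorem kp_e (i : Fin m) : S.kp (S.e i) = 0 := by
  rw [kp_apply, al_e, be_e]; simp [Pi.single_apply]

theorem kp_f (i : Fin m) : S.kp (S.f i) = 0 := by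
  rw [kp_apply, al_f, be_f]; simp [Pi.single_apply]

theorem al_K {k : ι → F} (hk : k ∈ S.K) : S.al k = 0 := funext hk.2

theorem be_K {k : ι → F} (hk : k ∈ S.K) : S.be k = 0 := funext hk.1

theorem kp_K {k : ι → F} (hk : k ∈ S.K) : S.kp k = k := by
  rw [kp_apply, S.al_K hk, S.be_K hk]; simp

theorem kp_zero_apply : S.kp 0 = 0 := map_zero _

end Fr

/-- An isometry from a linear map with a left inverse. -/
theorem exists_isoOf {Q : (ι → F) → F} (L L' : (ι → F) →ₗ[F] (ι → F)) (h : L.comp L' = LinearMap.id)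
    (hp : ∀ x, Q (L x) = Q x) :
    ∃ g : ↥(Cfsg.isometryGroup F Q), ∀ x, ((g : GL ι F) : Matrix ι ι F) *ᵥ x = L x := by
  have h' : L'.comp L = LinearMap.id := (LinearMap.comp_eq_id_comm F _).1 h
  exact ⟨⟨⟨LinearMap.toMatrix' L, LinearMap.toMatrix' L', by rw [← LinearMap.toMatrix'_comp, h, LinearMap.toMatrix'_id],
    by rw [← LinearMap.toMatrix'_comp, h', LinearMap.toMatrix'_id]⟩, mem_iso.2 fun x => by
      show Q (LinearMap.toMatrix' L *ᵥ x) = Q x
      rw [LinearMap.toMatrix'_mulVec, hp]⟩, fun x => by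
      show LinearMap.toMatrix' L *ᵥ x = L x
      rw [LinearMap.toMatrix'_mulVec]⟩

/-- The action of an element of the isometry group. -/
def iact {Q : (ι → F) → F} (g : ↥(Cfsg.isometryGroup F Q)) (x : ι → F) : ι → F :=
  ((g : GL ι F) : Matrix ι ι F) *ᵥ x

theorem iact_mul {Q : (ι → F) → F} (g h : ↥(Cfsg.isometryGroup F Q)) (x : ι → F) :
    iact (g * h) x = iact g (iact h x) := gl_mul_mulVec _ _ x

theorem iact_one {Q : (ι → F) → F} (x : ι → F) : iact (1 : ↥(Cfsg.isometryGroup F Q)) x = x := by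
  simp [iact]

theorem iso_ext' {Q : (ι → F) → F} {g h : ↥(Cfsg.isometryGroup F Q)} (e : ∀ x, iact g x = iact h x) : g = h :=
  Subtype.ext (gl_ext_vec e)

/-- The action of an element of `Ω`. -/
def act {Q : (ι → F) → F} (g : ↥(Cfsg.Omega F Q)) (x : ι → F) : ι → F := iact g.1 x

theorem act_mul {Q : (ι → F) → F} (g h : ↥(Cfsg.Omega F Q)) (x : ι → F) : act (g * h) x = act g (act h x) :=
  iact_mul _ _ x

theorem act_one {Q : (ι → F) → F} (x : ι → F) : act (1 : ↥(Cfsg.Omega F Q)) x = x := iact_one x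

theorem act_inv_act {Q : (ι → F) → F} (g : ↥(Cfsg.Omega F Q)) (x : ι → F) : act g⁻¹ (act g x) = x := by
  rw [← act_mul, inv_mul_cancel, act_one]

theorem act_act_inv {Q : (ι → F) → F} (g : ↥(Cfsg.Omega F Q)) (x : ι → F) : act g (act g⁻¹ x) = x := by
  rw [← act_mul, mul_inv_cancel, act_one]

theorem G_ext {Q : (ι → F) → F} {g h : ↥(Cfsg.Omega F Q)} (e : ∀ x, act g x = act h x) : g = h :=
  Subtype.ext (iso_ext' e)

theorem act_add {Q : (ι → F) → F} (g : ↥(Cfsg.Omega F Q)) (x y : ι → F) : act g (x + y) = act g x + act g y :=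
  mulVec_add _ _ _

theorem act_smul {Q : (ι → F) → F} (g : ↥(Cfsg.Omega F Q)) (c : F) (x : ι → F) : act g (c • x) = c • act g x :=
  mulVec_smul _ _ _

theorem act_zero {Q : (ι → F) → F} (g : ↥(Cfsg.Omega F Q)) : act g (0 : ι → F) = 0 := mulVec_zero _

theorem q_act {Q : (ι → F) → F} (g : ↥(Cfsg.Omega F Q)) (x : ι → F) : Q (act g x) = Q x := mem_iso.1 g.1.2 x

theorem pol_act {Q : (ι → F) → F} (g : ↥(Cfsg.Omega F Q)) (x y : ι → F) :
    pol Q (act g x) (act g y) = pol Q x y := iso_pol g.1.2 x y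

end CfsgLib.Classical.OrthMin
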