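/-
The Levi factor, the Siegel radical, sign changes and Eichler elements in coordinates.
-/
import Cfsg.Agent.Lib.Classical.OrthMin.Frame

set_option autoImplicit false

namespace CfsgLib.Classical.OrthMin

open Matrix Module Cfsg.Geo CfsgLib.Perm.Trans CfsgLib.Perm.Trans.Quad

variable {ι : Type} [Fintype ι] [DecidableEq ι] {F : Type*} [Field F]
variable {Q : (ι → F) → F} {m : ℕ} (S : Fr Q m)

local notation "pol" => QuadraticMap.polar

namespace Fr

/-- A map given on the two coordinate vectors, and the identity on the complement. -/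
def coordMap (A B C D : Matrix (Fin m) (Fin m) F) : (ι → F) →ₗ[F] (ι → F) where
  toFun x := S.vec (A *ᵥ S.al x + B *ᵥ S.be x) (C *ᵥ S.al x + D *ᵥ S.be x) (S.kp x)
  map_add' x y := by
    rw [map_add, map_add, map_add, mulVec_add, mulVec_add, mulVec_add, mulVec_add, mk_add]
    congr 1 <;> abel
  map_smul' c x := by
    simp only [map_smul, mulVec_smul, RingHom.id_apply, ← smul_add, vec, Pi.smul_apply, smul_eq_mul, mul_smul,
      ← Finset.smul_sum]

theorem coordMap_vec {k : ι → F} (hk : k ∈ S.K) (A B C D : Matrix (Fin m) (Fin m) F) (a b : Fin m → F) :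
    S.coordMap A B C D (S.vec a b k) = S.vec (A *ᵥ a + B *ᵥ b) (C *ᵥ a + D *ᵥ b) k := by
  show S.vec _ _ _ = _
  rw [S.al_mk hk, S.be_mk hk, S.kp_mk hk]

theorem coordMap_comp (A B C D A' B' C' D' : Matrix (Fin m) (Fin m) F) :
    (S.coordMap A B C D).comp (S.coordMap A' B' C' D') =
      S.coordMap (A * A' + B * C') (A * B' + B * D') (C * A' + D * C') (C * B' + D * D') := by
  refine LinearMap.ext fun x => ?_
  obtain ⟨a, b, k, hk, rfl⟩ := S.eq_mk x
  rw [LinearMap.comp_apply, coordMap_vec S hk, coordMap_vec S hk, coordMap_vec S hk]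
  simp only [mulVec_add, add_mulVec, ← mulVec_mulVec]
  congr 1 <;> abel

theorem coordMap_one : S.coordMap 1 0 0 1 = LinearMap.id := by
  refine LinearMap.ext fun x => ?_
  obtain ⟨a, b, k, hk, rfl⟩ := S.eq_mk x
  rw [coordMap_vec S hk]
  simp

/-- The conditions for a coordinate map to preserve the form. -/
def Pres (A B C D : Matrix (Fin m) (Fin m) F) : Prop :=
  ∀ a b : Fin m → F, (A *ᵥ a + B *ᵥ b) ⬝ᵥ (C *ᵥ a + D *ᵥ b) = a ⬝ᵥ b

theorem coordMap_pres {A B C D : Matrix (Fin m) (Fin m) F} (h : Pres A B C D) (x : ι → F) :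
    Q (S.coordMap A B C D x) = Q x := by
  obtain ⟨a, b, k, hk, rfl⟩ := S.eq_mk x
  rw [coordMap_vec S hk, S.q_mk hk, S.q_mk hk, h]

theorem pres_gl (g : GL (Fin m) F) : Pres g.1 0 0 (g⁻¹).1ᵀ := fun a b => by
  rw [zero_mulVec, zero_mulVec, add_zero, zero_add, mulVec_transpose, dotProduct_comm, ← dotProduct_mulVec,
    mulVec_mulVec, ← Units.val_mul, inv_mul_cancel, Units.val_one, one_mulVec, dotProduct_comm]

theorem exists_leI (g : GL (Fin m) F) :
    ∃ x : ↥(Cfsg.isometryGroup F Q), ∀ v, iact x v = S.coordMap g.1 0 0 (g⁻¹).1ᵀ v := by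
  refine exists_isoOf _ (S.coordMap (g⁻¹).1 0 0 g.1ᵀ) ?_ (S.coordMap_pres (pres_gl g))
  rw [coordMap_comp, ← coordMap_one]
  congr 1 <;> simp [← transpose_mul]

/-- The Levi factor. -/
noncomputable def leF (g : GL (Fin m) F) : ↥(Cfsg.isometryGroup F Q) := (S.exists_leI g).choose

theorem leF_act (g : GL (Fin m) F) (x : ι → F) : iact (S.leF g) x = S.coordMap g.1 0 0 (g⁻¹).1ᵀ x :=
  (S.exists_leI g).choose_spec x

theorem leF_vec {k : ι → F} (hk : k ∈ S.K) (g : GL (Fin m) F) (a b : Fin m → F) :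
    iact (S.leF g) (S.vec a b k) = S.vec (g.1 *ᵥ a) ((g⁻¹).1ᵀ *ᵥ b) k := by
  rw [leF_act, coordMap_vec S hk]; simp

/-- The Levi factor as a homomorphism. -/
noncomputable def leI : GL (Fin m) F →* ↥(Cfsg.isometryGroup F Q) where
  toFun := S.leF
  map_one' := iso_ext' fun x => by rw [leF_act, iact_one]; simp [S.coordMap_one]
  map_mul' g h := iso_ext' fun x => by
    rw [iact_mul, leF_act, leF_act, leF_act, ← LinearMap.comp_apply, coordMap_comp]
    congr 2 <;> simp [Units.val_mul, transpose_mul]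

theorem leI_vec {k : ι → F} (hk : k ∈ S.K) (g : GL (Fin m) F) (a b : Fin m → F) :
    iact (S.leI g) (S.vec a b k) = S.vec (g.1 *ᵥ a) ((g⁻¹).1ᵀ *ᵥ b) k := S.leF_vec hk g a b

/-- The matrix exchanging the two vectors of the pairs in a set. -/
def swA (s : Finset (Fin m)) : Matrix (Fin m) (Fin m) F := diagonal fun i => if i ∈ s then 0 else 1

/-- The complementary matrix. -/
def swB (s : Finset (Fin m)) : Matrix (Fin m) (Fin m) F := diagonal fun i => if i ∈ s then 1 else 0

theorem pres_sw (s : Finset (Fin m)) : Pres (swA s : Matrix (Fin m) (Fin m) F) (swB s) (swB s) (swA s) := fun a b => by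
  simp only [dotProduct, Pi.add_apply, swA, swB, mulVec_diagonal]
  refine Finset.sum_congr rfl fun i _ => ?_
  split_ifs <;> ring

theorem exists_swI (s : Finset (Fin m)) :
    ∃ x : ↥(Cfsg.isometryGroup F Q), ∀ v, iact x v = S.coordMap (swA s) (swB s) (swB s) (swA s) v := by
  refine exists_isoOf _ (S.coordMap (swA s) (swB s) (swB s) (swA s)) ?_ (S.coordMap_pres (pres_sw s))
  rw [coordMap_comp, ← coordMap_one]
  congr 1 <;>
  · simp only [swA, swB, diagonal_mul_diagonal, diagonal_add]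
    first
      | (rw [← diagonal_one]; congr 1; funext i; split_ifs <;> simp)
      | (rw [← diagonal_zero]; congr 1; funext i; split_ifs <;> simp)

/-- The exchange of the pairs in a set. -/
noncomputable def swI (s : Finset (Fin m)) : ↥(Cfsg.isometryGroup F Q) := (S.exists_swI s).choose

theorem swI_vec {k : ι → F} (hk : k ∈ S.K) (s : Finset (Fin m)) (a b : Fin m → F) :
    iact (S.swI s) (S.vec a b k) =
      S.vec (fun i => if i ∈ s then b i else a i) (fun i => if i ∈ s then a i else b i) k := by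
  rw [show iact (S.swI s) (S.vec a b k) = _ from (S.exists_swI s).choose_spec _, coordMap_vec S hk]
  congr 1 <;> funext i <;> simp only [swA, swB, Pi.add_apply, mulVec_diagonal] <;> split_ifs <;> simp

theorem vec_ext_iact {g h : ↥(Cfsg.isometryGroup F Q)}
    (e : ∀ a b k, k ∈ S.K → iact g (S.vec a b k) = iact h (S.vec a b k)) : g = h :=
  iso_ext' fun x => by
    obtain ⟨a, b, k, hk, rfl⟩ := S.eq_mk x
    exact e a b k hk

theorem swI_mul_self (s : Finset (Fin m)) : S.swI s * S.swI s = 1 := S.vec_ext_iact fun a b k hk => by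
  rw [iact_mul, swI_vec S hk, swI_vec S hk, iact_one]
  congr 1 <;> funext i <;> split_ifs <;> rfl

theorem swI_inv (s : Finset (Fin m)) : (S.swI s)⁻¹ = S.swI s := inv_eq_of_mul_eq_one_right (S.swI_mul_self s)

theorem comm_mem (g h : ↥(Cfsg.isometryGroup F Q)) : g * h * g⁻¹ * h⁻¹ ∈ Cfsg.Omega F Q :=
  Subgroup.commutator_mem_commutator (Subgroup.mem_top g) (Subgroup.mem_top h)

include S in
theorem leI_sl_mem (g : SpecialLinearGroup (Fin m) F) :
    S.leI (SpecialLinearGroup.toGL g) ∈ Cfsg.Omega F Q := by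
  have h := CfsgLib.Classical.sl_commutator (F := F) S.hm
  have hm' := Subgroup.map_commutator ⊤ ⊤ (S.leI.comp (SpecialLinearGroup.toGL (n := Fin m) (R := F)))
  rw [← commutator_def, h] at hm'
  have : S.leI (SpecialLinearGroup.toGL g) ∈
      (⊤ : Subgroup (SpecialLinearGroup (Fin m) F)).map (S.leI.comp SpecialLinearGroup.toGL) :=
    Subgroup.mem_map_of_mem _ (Subgroup.mem_top g)
  rw [hm'] at this
  exact Subgroup.commutator_mono le_top le_top this

/-- The special linear group in the Levi factor. -/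
noncomputable def le : SpecialLinearGroup (Fin m) F →* ↥(Cfsg.Omega F Q) :=
  (S.leI.comp SpecialLinearGroup.toGL).codRestrict _ S.leI_sl_mem

theorem toGL_inv_val (g : SpecialLinearGroup (Fin m) F) :
    ((SpecialLinearGroup.toGL g)⁻¹).1 = (g⁻¹).1 := by
  rw [← map_inv]; rfl

theorem le_vec {k : ι → F} (hk : k ∈ S.K) (g : SpecialLinearGroup (Fin m) F) (a b : Fin m → F) :
    act (S.le g) (S.vec a b k) = S.vec (g.1 *ᵥ a) ((g⁻¹).1ᵀ *ᵥ b) k :=
  (S.leI_vec hk (SpecialLinearGroup.toGL g) a b).trans (by rw [toGL_inv_val]; rfl)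

theorem vec_ext {g h : ↥(Cfsg.Omega F Q)}
    (e : ∀ a b k, k ∈ S.K → act g (S.vec a b k) = act h (S.vec a b k)) : g = h :=
  Subtype.ext (S.vec_ext_iact e)

/-- A diagonal element of the general linear group. -/
def dgl (d : Fin m → Fˣ) : GL (Fin m) F :=
  ⟨diagonal fun i => (d i : F), diagonal fun i => (↑(d i)⁻¹ : F), by
    rw [diagonal_mul_diagonal, ← diagonal_one]; congr 1; funext i; simp, by
    rw [diagonal_mul_diagonal, ← diagonal_one]; congr 1; funext i; simp⟩

theorem dgl_mul (d d' : Fin m → Fˣ) : dgl (d * d') = dgl d * dgl d' :=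
  Units.ext (by
    show diagonal _ = diagonal _ * diagonal _
    rw [diagonal_mul_diagonal]
    congr 1)

theorem dgl_one : dgl (1 : Fin m → Fˣ) = (1 : GL (Fin m) F) :=
  Units.ext (by show diagonal _ = _; simp [diagonal_one])

theorem dgl_inv (d : Fin m → Fˣ) : (dgl d)⁻¹ = dgl d⁻¹ :=
  inv_eq_of_mul_eq_one_right (by rw [← dgl_mul, mul_inv_cancel, dgl_one])

theorem leI_dgl_sq_mem (i : Fin m) (u : Fˣ) : S.leI (dgl (Pi.mulSingle i (u * u))) ∈ Cfsg.Omega F Q := by
  set d := S.leI (dgl (Pi.mulSingle i u)) with hd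
  have key : S.swI {i} * d⁻¹ * (S.swI {i})⁻¹ = d := by
    rw [mul_inv_eq_iff_eq_mul]
    refine S.vec_ext_iact fun a b k hk => ?_
    rw [hd, ← map_inv, dgl_inv, iact_mul, iact_mul, leI_vec S hk, swI_vec S hk, swI_vec S hk, leI_vec S hk,
      dgl_inv, dgl_inv]
    congr 1 <;>
    · funext j
      simp only [dgl, diagonal_transpose, mulVec_diagonal, Pi.inv_apply, inv_inv, Finset.mem_singleton]
      rcases eq_or_ne j i with rfl | hj
      · simp
      · simp [hj]
  have h := comm_mem d (S.swI {i})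
  rw [mul_assoc d (S.swI {i}), mul_assoc d (S.swI {i} * d⁻¹), key, hd, ← map_mul, ← dgl_mul, ← Pi.mulSingle_mul] at h
  exact h

/-- The torus: diagonal elements of square determinant. -/
def sqDet (F : Type*) [Field F] (m : ℕ) : Subgroup (Fin m → Fˣ) where
  carrier := {d | ∃ c : Fˣ, ∏ i, d i = c * c}
  one_mem' := ⟨1, by simp⟩
  mul_mem' := fun {a b} ⟨c, hc⟩ ⟨c', hc'⟩ => ⟨c * c', by
    simp only [Pi.mul_apply, Finset.prod_mul_distrib, hc, hc']; exact mul_mul_mul_comm _ _ _ _⟩
  inv_mem' := fun {a} ⟨c, hc⟩ => ⟨c⁻¹, by simp [hc, _root_.mul_inv_rev]⟩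

theorem leI_dgl_mem {d : Fin m → Fˣ} (hd : d ∈ sqDet F m) : S.leI (dgl d) ∈ Cfsg.Omega F Q := by
  obtain ⟨c, hc⟩ := hd
  set i : Fin m := ⟨0, by have := S.hm; omega⟩
  have hdet : (dgl (d * Pi.mulSingle i (c * c)⁻¹)).1.det = 1 := by
    show (diagonal _).det = 1
    rw [det_diagonal, ← Units.coe_prod]
    simp only [Pi.mul_apply, Finset.prod_mul_distrib, hc, Fintype.prod_pi_mulSingle]
    simp
  have e : dgl d = SpecialLinearGroup.toGL ⟨_, hdet⟩ * dgl (Pi.mulSingle i (c * c)) := by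
    have h1 : SpecialLinearGroup.toGL (⟨_, hdet⟩ : SpecialLinearGroup (Fin m) F) =
        dgl (d * Pi.mulSingle i (c * c)⁻¹) := Units.ext rfl
    rw [h1, ← dgl_mul, mul_assoc, ← Pi.mulSingle_mul, inv_mul_cancel, Pi.mulSingle_one, mul_one]
  rw [e, map_mul]
  exact mul_mem (S.leI_sl_mem _) (S.leI_dgl_sq_mem i c)

/-- The torus inside `Ω`. -/
noncomputable def tor : ↥(sqDet F m) →* ↥(Cfsg.Omega F Q) where
  toFun d := ⟨S.leI (dgl d.1), S.leI_dgl_mem d.2⟩
  map_one' := Subtype.ext (by simp [dgl_one])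
  map_mul' a b := Subtype.ext (by
    show S.leI (dgl (a.1 * b.1)) = S.leI (dgl a.1) * S.leI (dgl b.1)
    rw [dgl_mul, map_mul])

theorem tor_vec {k : ι → F} (hk : k ∈ S.K) (d : ↥(sqDet F m)) (a b : Fin m → F) :
    act (S.tor d) (S.vec a b k) = S.vec (fun i => d.1 i * a i) (fun i => ((d.1 i)⁻¹ : Fˣ) * b i) k := by
  refine (S.leI_vec hk (dgl d.1) a b).trans ?_
  rw [dgl_inv]
  congr 1 <;> funext i <;> simp [dgl, diagonal_transpose, mulVec_diagonal]

/-- The exchange of two pairs inside `Ω`. -/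
theorem sw_pair_mem {i j : Fin m} (hij : i ≠ j) : S.swI {i, j} ∈ Cfsg.Omega F Q := by
  let M : Matrix (Fin m) (Fin m) F := (Equiv.swap i j).permMatrix F
  have hMM : M * M = 1 := by
    show (Equiv.swap i j).permMatrix F * (Equiv.swap i j).permMatrix F = 1
    rw [← permMatrix_mul, Equiv.swap_mul_self, permMatrix_one]
  let g : GL (Fin m) F := ⟨M, M, hMM, hMM⟩
  have hg : g⁻¹ = g := Units.ext rfl
  have h := comm_mem (S.leI g) (S.swI {i})
  rw [← map_inv, hg, S.swI_inv] at h
  have e : S.leI g * S.swI {i} * S.leI g * S.swI {i} = S.swI {i, j} := by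
    refine S.vec_ext_iact fun a b k hk => ?_
    rw [iact_mul, iact_mul, iact_mul, swI_vec S hk, leI_vec S hk, swI_vec S hk, leI_vec S hk, swI_vec S hk, hg]
    have hMv : ∀ v : Fin m → F, M *ᵥ v = v ∘ Equiv.swap i j := fun v => permMatrix_mulVec (Equiv.swap i j)
    have hMt : Mᵀ = M := by
      show ((Equiv.swap i j).permMatrix F)ᵀ = _
      rw [transpose_permMatrix, Equiv.swap_inv]
    show S.vec (M *ᵥ _) (Mᵀ *ᵥ _) k = _
    rw [hMt]
    simp only [g, hMv, hMt]
    congr 1 <;> funext x <;> simp only [Function.comp, Finset.mem_singleton, Finset.mem_insert] <;>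
    · rcases eq_or_ne x i with rfl | hxi
      · simp [hij.symm]
      rcases eq_or_ne x j with rfl | hxj
      · simp [hij.symm]
      · simp [Equiv.swap_apply_of_ne_of_ne hxi hxj, hxi, hxj]
  rwa [e] at h

/-- The exchange of two pairs. -/
noncomputable def sw {i j : Fin m} (hij : i ≠ j) : ↥(Cfsg.Omega F Q) := ⟨S.swI {i, j}, S.sw_pair_mem hij⟩

theorem sw_vec {k : ι → F} (hk : k ∈ S.K) {i j : Fin m} (hij : i ≠ j) (a b : Fin m → F) :
    act (S.sw hij) (S.vec a b k) =
      S.vec (fun x => if x = i ∨ x = j then b x else a x) (fun x => if x = i ∨ x = j then a x else b x) k := by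
  refine (S.swI_vec hk {i, j} a b).trans ?_
  congr 1 <;> funext x <;> simp

end Fr

end CfsgLib.Classical.OrthMin
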