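/-
Eichler elements of the group.
-/
import Cfsg.Agent.Lib.Classical.OrthMin.Elems

set_option autoImplicit false

namespace CfsgLib.Classical.OrthMin

open Matrix Module Cfsg.Geo CfsgLib.Perm.Trans CfsgLib.Perm.Trans.Quad

variable {ι : Type} [Fintype ι] [DecidableEq ι] {F : Type*} [Field F] [Fintype F]
variable {Q : (ι → F) → F} {m : ℕ} (S : Fr Q m)

local notation "pol" => QuadraticMap.polar

open _root_.Classical in
/-- The Eichler element of `u` and `a`, and `1` if this makes no sense. -/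
noncomputable def eich (Q : (ι → F) → F) (u a : ι → F) : ↥(Cfsg.Omega F Q) :=
  if h : ∃ g : ↥(Cfsg.Omega F Q), IsE Q u a (omv g) then h.choose else 1

attribute [irreducible] eich

namespace Fr

include S in
theorem eich_spec {u a : ι → F} (hu : Q u = 0) (hua : pol Q u a = 0) (x : ι → F) :
    act (eich Q u a) x = x + pol Q x u • a - pol Q x a • u - (Q a * pol Q x u) • u := by
  have h := exists_omega_E S.hQ S.hι hu hua
  rw [eich, dif_pos h]
  exact h.choose_spec x

include S in
theorem eich_eq {u a : ι → F} (hu : Q u = 0) (hua : pol Q u a = 0) {g : ↥(Cfsg.Omega F Q)}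
    (h : ∀ x, act g x = x + pol Q x u • a - pol Q x a • u - (Q a * pol Q x u) • u) : eich Q u a = g :=
  G_ext fun x => by rw [S.eich_spec hu hua, h]

include S in
theorem eich_add {u a b : ι → F} (hu : Q u = 0) (ha : pol Q u a = 0) (hb : pol Q u b = 0) :
    eich Q u (a + b) = eich Q u a * eich Q u b := by
  refine S.eich_eq hu (by rw [padd_right S.hQ, ha, hb, add_zero]) fun x => ?_
  have hua : pol Q a u = 0 := by rw [pcomm, ha]
  have hub : pol Q b u = 0 := by rw [pcomm, hb]
  rw [act_mul, S.eich_spec hu hb, S.eich_spec hu ha]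
  simp only [psub_left S.hQ, psmul_left S.hQ, padd_left S.hQ, padd_right S.hQ, pself S.hQ u, hu, hub, ha,
    Quad.qadd S.hQ a b, pcomm b a]
  match_scalars <;> ring

include S in
theorem eich_self {u : ι → F} (hu : Q u = 0) (s : F) : eich Q u (s • u) = 1 := by
  refine S.eich_eq hu (by rw [psmul_right S.hQ, pself S.hQ, hu, mul_zero, mul_zero]) fun x => ?_
  rw [act_one, psmul_right S.hQ, Quad.qsmul S.hQ, hu]
  match_scalars <;> ring

include S in
theorem eich_zero {u : ι → F} (hu : Q u = 0) : eich Q u 0 = 1 := by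
  simpa using S.eich_self hu 0

include S in
theorem eich_smul_left {u a : ι → F} (hu : Q u = 0) (hua : pol Q u a = 0) (c : F) :
    eich Q (c • u) a = eich Q u (c • a) := by
  refine S.eich_eq (by rw [Quad.qsmul S.hQ, hu, mul_zero]) (by rw [psmul_left S.hQ, hua, mul_zero]) fun x => ?_
  rw [S.eich_spec hu (by rw [psmul_right S.hQ, hua, mul_zero])]
  simp only [psmul_right S.hQ, Quad.qsmul S.hQ, smul_smul]
  match_scalars <;> ring

include S in
theorem eich_swap {u a : ι → F} (hu : Q u = 0) (ha : Q a = 0) (hua : pol Q u a = 0) :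
    eich Q u a = eich Q a (-u) := by
  refine S.eich_eq hu hua fun x => ?_
  rw [S.eich_spec ha (by rw [pneg_right S.hQ, pcomm, hua, neg_zero]), pneg_right S.hQ, Quad.qneg S.hQ, hu, ha]
  match_scalars <;> ring

include S in
theorem eich_conj {u a : ι → F} (hu : Q u = 0) (hua : pol Q u a = 0) (g : ↥(Cfsg.Omega F Q)) :
    g * eich Q u a * g⁻¹ = eich Q (act g u) (act g a) := by
  symm
  refine S.eich_eq (by rw [q_act g, hu]) (by rw [pol_act g, hua]) fun x => ?_
  obtain ⟨y, rfl⟩ : ∃ y, x = act g y := ⟨act g⁻¹ x, (act_act_inv g x).symm⟩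
  rw [act_mul, act_mul, act_inv_act, S.eich_spec hu hua, pol_act g, pol_act g, q_act g]
  simp only [act, iact, mulVec_add, mulVec_sub, mulVec_smul]

include S in
theorem eich_inv {u a : ι → F} (hu : Q u = 0) (hua : pol Q u a = 0) : (eich Q u a)⁻¹ = eich Q u (-a) := by
  refine inv_eq_of_mul_eq_one_right ?_
  rw [← S.eich_add hu hua (by rw [pneg_right S.hQ, hua, neg_zero]), add_neg_cancel, S.eich_zero hu]

/-- The orthogonal of a pair of the frame. -/
def P (i : Fin m) : Submodule F (ι → F) where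
  carrier := {x | pol Q x (S.e i) = 0 ∧ pol Q x (S.f i) = 0}
  zero_mem' := ⟨pzero_left S.hQ _, pzero_left S.hQ _⟩
  add_mem' := fun {a b} ha hb => ⟨by rw [padd_left S.hQ, ha.1, hb.1, add_zero],
    by rw [padd_left S.hQ, ha.2, hb.2, add_zero]⟩
  smul_mem' := fun c a ha => ⟨by rw [psmul_left S.hQ, ha.1, mul_zero], by rw [psmul_left S.hQ, ha.2, mul_zero]⟩

theorem mem_P {i : Fin m} {x : ι → F} : x ∈ S.P i ↔ pol Q x (S.e i) = 0 ∧ pol Q x (S.f i) = 0 := Iff.rfl

theorem e_mem_P {i j : Fin m} (h : j ≠ i) : S.e j ∈ S.P i := ⟨S.pee j i, by rw [S.pef, if_neg h]⟩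

theorem f_mem_P {i j : Fin m} (h : j ≠ i) : S.f j ∈ S.P i := ⟨by rw [S.pfe, if_neg h], S.pff j i⟩

theorem K_le_P (i : Fin m) : S.K ≤ S.P i := fun _ hk => ⟨hk.1 i, hk.2 i⟩

theorem pol_e_P {i : Fin m} {x : ι → F} (hx : x ∈ S.P i) : pol Q (S.e i) x = 0 := by rw [pcomm]; exact hx.1

theorem pol_f_P {i : Fin m} {x : ι → F} (hx : x ∈ S.P i) : pol Q (S.f i) x = 0 := by rw [pcomm]; exact hx.2

/-- The elements of the radical of the `i`-th point stabiliser. -/
noncomputable def rp (i : Fin m) (a : ↥(S.P i)) : ↥(Cfsg.Omega F Q) := eich Q (S.e i) a.1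

theorem rp_add (i : Fin m) (a b : ↥(S.P i)) : S.rp i (a + b) = S.rp i a * S.rp i b := by
  simp only [rp, Submodule.coe_add]
  exact S.eich_add (S.qe i) (S.pol_e_P a.2) (S.pol_e_P b.2)

theorem rp_zero (i : Fin m) : S.rp i 0 = 1 := by
  simp only [rp, Submodule.coe_zero]
  exact S.eich_zero (S.qe i)

/-! ### Root elements in coordinates -/

theorem eich_e_coords (i : Fin m) {a : ι → F} (ha : pol Q (S.e i) a = 0) (x : ι → F) :
    act (eich Q (S.e i) a) x = x + S.be x i • a - (pol Q x a + Q a * S.be x i) • S.e i := by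
  rw [S.eich_spec (S.qe i) ha, be_apply, add_smul]
  abel

/-- The alternating part added by the centre of the Siegel radical. -/
def zMat (M : Matrix (Fin m) (Fin m) F) : Matrix (Fin m) (Fin m) F := Mᵀ - M

omit [Fintype F] in
theorem pres_z (M : Matrix (Fin m) (Fin m) F) : Pres (1 : Matrix (Fin m) (Fin m) F) (zMat M) 0 1 := fun a b => by
  rw [one_mulVec, zero_mulVec, zero_add, one_mulVec, add_dotProduct, zMat, sub_mulVec, sub_dotProduct,
    mulVec_transpose, ← dotProduct_mulVec, dotProduct_comm b, sub_self, add_zero]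

omit [Fintype F] in
theorem exists_zI (M : Matrix (Fin m) (Fin m) F) :
    ∃ x : ↥(Cfsg.isometryGroup F Q), ∀ v, iact x v = S.coordMap 1 (zMat M) 0 1 v := by
  refine exists_isoOf _ (S.coordMap 1 (-zMat M) 0 1) ?_ (S.coordMap_pres (pres_z M))
  rw [coordMap_comp, ← coordMap_one]
  congr 1 <;> simp

/-- The elements of the centre of the Siegel radical. -/
noncomputable def zI (M : Matrix (Fin m) (Fin m) F) : ↥(Cfsg.isometryGroup F Q) := (S.exists_zI M).choose

omit [Fintype F] in
theorem zI_vec {k : ι → F} (hk : k ∈ S.K) (M : Matrix (Fin m) (Fin m) F) (a b : Fin m → F) :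
    iact (S.zI M) (S.vec a b k) = S.vec (a + zMat M *ᵥ b) b k := by
  rw [show iact (S.zI M) (S.vec a b k) = _ from (S.exists_zI M).choose_spec _, coordMap_vec S hk]
  simp

omit [Fintype F] in
theorem zI_add (M N : Matrix (Fin m) (Fin m) F) : S.zI (M + N) = S.zI M * S.zI N := S.vec_ext_iact fun a b k hk => by
  rw [iact_mul, zI_vec S hk, zI_vec S hk, zI_vec S hk, add_assoc, ← add_mulVec]
  simp only [zMat, transpose_add]
  congr 3
  abel

omit [Fintype F] in
theorem zI_zero : S.zI (0 : Matrix (Fin m) (Fin m) F) = 1 := S.vec_ext_iact fun a b k hk => by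
  rw [zI_vec S hk, iact_one]; simp [zMat]

theorem zI_single (i j : Fin m) (t : F) : S.zI (single i j t) = (eich Q (S.e i) (t • S.e j)).1 := by
  refine S.vec_ext_iact fun a b k hk => ?_
  rw [zI_vec S hk]
  show _ = act (eich Q (S.e i) (t • S.e j)) _
  rw [eich_e_coords S i (by rw [psmul_right S.hQ, S.pee, mul_zero]), Quad.qsmul S.hQ, S.qe, psmul_right S.hQ,
    ← be_apply, S.be_mk hk]
  refine S.coords_ext ?_ ?_ ?_ <;>
    simp only [map_add, map_sub, map_smul, S.al_mk hk, S.be_mk hk, S.kp_mk hk, al_e, be_e, kp_e, smul_zero,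
      add_zero, sub_zero, mul_zero, zero_mul]
  funext l
  simp [zMat, sub_mulVec, transpose_single, single_mulVec, Pi.single_apply, Function.update_apply]
  split_ifs <;> ring

theorem zI_mem (M : Matrix (Fin m) (Fin m) F) : S.zI M ∈ Cfsg.Omega F Q := by
  induction M using Matrix.induction_on' with
  | h_zero => rw [zI_zero]; exact one_mem _
  | h_add M N hM hN => rw [zI_add]; exact mul_mem hM hN
  | h_std_basis i j c => rw [zI_single]; exact (eich Q (S.e i) (c • S.e j)).2

/-- The centre of the Siegel radical inside the group. -/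
noncomputable def zel (M : Matrix (Fin m) (Fin m) F) : ↥(Cfsg.Omega F Q) := ⟨S.zI M, S.zI_mem M⟩

theorem zel_add (M N : Matrix (Fin m) (Fin m) F) : S.zel (M + N) = S.zel M * S.zel N := Subtype.ext (S.zI_add M N)

theorem zel_zero : S.zel (0 : Matrix (Fin m) (Fin m) F) = 1 := Subtype.ext S.zI_zero

theorem zel_vec {k : ι → F} (hk : k ∈ S.K) (M : Matrix (Fin m) (Fin m) F) (a b : Fin m → F) :
    act (S.zel M) (S.vec a b k) = S.vec (a + zMat M *ᵥ b) b k := S.zI_vec hk M a b

theorem zel_single (i j : Fin m) (t : F) : S.zel (single i j t) = eich Q (S.e i) (t • S.e j) :=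
  Subtype.ext (S.zI_single i j t)

theorem le_mul_zel (g : SpecialLinearGroup (Fin m) F) (M : Matrix (Fin m) (Fin m) F) :
    S.le g * S.zel M = S.zel (g.1 * M * g.1ᵀ) * S.le g := by
  refine S.vec_ext fun a b k hk => ?_
  rw [act_mul, act_mul, zel_vec S hk, le_vec S hk, le_vec S hk, zel_vec S hk]
  congr 1
  have h1 : g.1ᵀ * (g⁻¹).1ᵀ = 1 := by
    rw [← transpose_mul, show (g⁻¹).1 * g.1 = (g⁻¹ * g : SpecialLinearGroup (Fin m) F).1 from rfl, inv_mul_cancel]
    exact transpose_one
  rw [mulVec_add, mulVec_mulVec, mulVec_mulVec]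
  congr 2
  simp only [zMat, transpose_mul, transpose_transpose, Matrix.mul_sub, Matrix.sub_mul, Matrix.mul_assoc, h1,
    Matrix.mul_one]

theorem tor_mul_zel (d : ↥(sqDet F m)) (M : Matrix (Fin m) (Fin m) F) :
    S.tor d * S.zel M =
      S.zel (Matrix.of fun i j => (d.1 i : F) * M i j * d.1 j) * S.tor d := by
  refine S.vec_ext fun a b k hk => ?_
  rw [act_mul, act_mul, zel_vec S hk, tor_vec S hk, tor_vec S hk, zel_vec S hk]
  congr 1
  funext i
  simp only [Pi.add_apply, zMat, mulVec, dotProduct, Matrix.sub_apply, transpose_apply, Matrix.of_apply,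
    mul_add, Finset.mul_sum]
  congr 1
  refine Finset.sum_congr rfl fun j _ => ?_
  have : (d.1 j : F) * ((d.1 j)⁻¹ : Fˣ) = 1 := Units.mul_inv _
  linear_combination -((d.1 i : F) * (M j i - M i j) * b j) * this

/-- The elementary transvection. -/
def trv {i j : Fin m} (hij : i ≠ j) (c : F) : SpecialLinearGroup (Fin m) F :=
  SpecialLinearGroup.transvection hij c

omit [Fintype F] in
theorem trv_val {i j : Fin m} (hij : i ≠ j) (c : F) : (trv hij c).1 = transvection i j c := rfl

omit [Fintype F] in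
theorem trv_add {i j : Fin m} (hij : i ≠ j) (s t : F) : trv hij (s + t) = trv hij s * trv hij t :=
  Subtype.ext (transvection_mul_transvection_same (i := i) (j := j) hij s t).symm

omit [Fintype F] in
theorem trv_inv {i j : Fin m} (hij : i ≠ j) (t : F) : (trv hij t)⁻¹ = trv hij (-t) :=
  inv_eq_of_mul_eq_one_right (by rw [← trv_add, add_neg_cancel]; exact Subtype.ext (transvection_zero _ _))

theorem eich_ef {i j : Fin m} (hij : i ≠ j) (t : F) :
    eich Q (S.e i) (t • S.f j) = S.le (trv hij (-t)) := by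
  refine S.vec_ext fun a b k hk => ?_
  rw [eich_e_coords S i (by rw [psmul_right S.hQ, S.pef, if_neg hij, mul_zero]), le_vec S hk, trv_inv, neg_neg,
    Quad.qsmul S.hQ, S.qf, psmul_right S.hQ, ← al_apply, S.be_mk hk, S.al_mk hk]
  refine S.coords_ext ?_ ?_ ?_ <;>
    simp only [map_add, map_sub, map_smul, S.al_mk hk, S.be_mk hk, S.kp_mk hk, al_e, be_e, kp_e, al_f, be_f, kp_f,
      smul_zero, add_zero, sub_zero, mul_zero, trv_val]
  · funext l
    simp [transvection, add_mulVec, single_mulVec, Pi.single_apply, Function.update_apply]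
    split_ifs <;> ring
  · funext l
    simp [transvection, transpose_single, add_mulVec, single_mulVec, Pi.single_apply, Function.update_apply]
    split_ifs <;> ring

theorem eich_ek_coords (i : Fin m) {k k' : ι → F} (hk : k ∈ S.K) (hk' : k' ∈ S.K) (a b : Fin m → F) :
    act (eich Q (S.e i) k') (S.vec a b k) =
      S.vec (a - Pi.single i (pol Q k k' + Q k' * b i)) b (k + b i • k') := by
  rw [eich_e_coords S i (S.pol_e_P (S.K_le_P i hk')), S.be_mk hk, pol_mk_left]
  have h1 : ∀ l, pol Q (S.e l) k' = 0 := fun l => by rw [pcomm, hk'.1]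
  have h2 : ∀ l, pol Q (S.f l) k' = 0 := fun l => by rw [pcomm, hk'.2]
  simp only [h1, h2, mul_zero, Finset.sum_const_zero, zero_add]
  refine S.coords_ext ?_ ?_ ?_ <;>
    simp [map_add, map_sub, S.al_mk hk, S.be_mk hk, S.kp_mk hk, S.al_mk (S.K.add_mem hk (S.K.smul_mem _ hk')),
      S.be_mk (S.K.add_mem hk (S.K.smul_mem _ hk')), S.kp_mk (S.K.add_mem hk (S.K.smul_mem _ hk')), al_e, be_e,
      kp_e, S.al_K hk', S.be_K hk', S.kp_K hk']
  rw [← Pi.single_smul, smul_eq_mul, mul_one]

theorem act_le_e (g : SpecialLinearGroup (Fin m) F) (i : Fin m) :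
    act (S.le g) (S.e i) = ∑ j, g.1 j i • S.e j := by
  have e : S.e i = S.vec (Pi.single i 1) 0 0 := by simp [vec, Pi.single_apply]
  rw [e, le_vec S S.K.zero_mem]
  simp [vec, mulVec_single]

theorem act_le_K (g : SpecialLinearGroup (Fin m) F) {k : ι → F} (hk : k ∈ S.K) : act (S.le g) k = k := by
  have e : k = S.vec 0 0 k := by simp [vec]
  rw [e, le_vec S hk]
  simp

end Fr

end CfsgLib.Classical.OrthMin
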