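/-
Generation of the group by two opposite radicals; moving vectors inside a point stabiliser.
-/
import Cfsg.Agent.Lib.Classical.OrthMin.Eichler

set_option autoImplicit false

namespace CfsgLib.Classical.OrthMin

open Matrix Module Cfsg.Geo CfsgLib.Perm.Trans CfsgLib.Perm.Trans.Quad

variable {ι : Type} [Fintype ι] [DecidableEq ι] {F : Type*} [Field F] [Fintype F]
variable {Q : (ι → F) → F} {m : ℕ} (S : Fr Q m)

local notation "pol" => QuadraticMap.polar

namespace Fr

omit [Fintype F] in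
theorem pair_decomp (i : Fin m) (x : ι → F) :
    x - S.al x i • S.e i - S.be x i • S.f i ∈ S.P i := by
  refine ⟨?_, ?_⟩ <;>
    rw [psub_left S.hQ, psub_left S.hQ, psmul_left S.hQ, psmul_left S.hQ] <;>
    simp [S.pee, S.pff, S.pef, S.pfe, al_apply, be_apply]

omit [Fintype F] in
theorem exists_pairing {i : Fin m} {v : ι → F} (hv : v ∈ S.P i) (h0 : v ≠ 0) :
    ∃ a ∈ S.P i, pol Q v a ≠ 0 := by
  obtain ⟨x, hx⟩ := (S.hQ.nondegenerate v h0).2
  refine ⟨_, S.pair_decomp i x, ?_⟩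
  rw [psub_right S.hQ, psub_right S.hQ, psmul_right S.hQ, psmul_right S.hQ, hv.1, hv.2, mul_zero, mul_zero,
    sub_zero, sub_zero]
  exact hx

theorem eich_e_move (i : Fin m) {p : ι → F} (hp : p ∈ S.P i) :
    act (eich Q (S.e i) p) (S.f i) = S.f i + p - Q p • S.e i := by
  rw [S.eich_spec (S.qe i) (S.pol_e_P hp), S.pfe, if_pos rfl, S.pol_f_P hp]
  simp

theorem eich_f_move (i : Fin m) {p : ι → F} (hp : p ∈ S.P i) :
    act (eich Q (S.f i) p) (S.e i) = S.e i + p - Q p • S.f i := by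
  rw [S.eich_spec (S.qf i) (S.pol_f_P hp), S.pef, if_pos rfl, S.pol_e_P hp]
  simp

include S in
theorem eich_smul_mem {H : Subgroup ↥(Cfsg.Omega F Q)} {u : ι → F} (hu : Q u = 0)
    (hH : ∀ a, pol Q u a = 0 → eich Q u a ∈ H) (c : F) {a : ι → F} (ha : pol Q (c • u) a = 0) :
    eich Q (c • u) a ∈ H := by
  rcases eq_or_ne c 0 with rfl | hc
  · have e : eich Q ((0 : F) • u) a = 1 := by
      refine S.eich_eq (by rw [zero_smul]; exact qzero S.hQ) ha fun x => ?_
      rw [act_one, zero_smul, pzero_right S.hQ]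
      simp
    rw [e]; exact one_mem _
  rw [psmul_left S.hQ] at ha
  have hua : pol Q u a = 0 := (mul_eq_zero.1 ha).resolve_left hc
  rw [S.eich_smul_left hu hua]
  exact hH _ (by rw [psmul_right S.hQ, hua, mul_zero])

include S in
theorem eich_move_mem {H : Subgroup ↥(Cfsg.Omega F Q)} {g : ↥(Cfsg.Omega F Q)} (hg : g ∈ H) {w : ι → F}
    (hw : Q w = 0) (hH : ∀ a, pol Q w a = 0 → eich Q w a ∈ H) {a : ι → F} (ha : pol Q (act g w) a = 0) :
    eich Q (act g w) a ∈ H := by
  have h1 : pol Q w (act g⁻¹ a) = 0 := by rw [← pol_act g, act_act_inv, ha]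
  have h2 := S.eich_conj hw h1 g
  rw [act_act_inv] at h2
  rw [← h2]
  exact mul_mem (mul_mem hg (hH _ h1)) (inv_mem hg)

/-- Two opposite radicals generate. -/
theorem eq_top_of_radicals (H : Subgroup ↥(Cfsg.Omega F Q)) (i : Fin m)
    (he : ∀ a ∈ S.P i, eich Q (S.e i) a ∈ H) (hf : ∀ a ∈ S.P i, eich Q (S.f i) a ∈ H) : H = ⊤ := by
  have he' : ∀ a, pol Q (S.e i) a = 0 → eich Q (S.e i) a ∈ H := fun a ha => by
    have hb : S.be a i = 0 := by rw [be_apply, pcomm, ha]
    have h1 := S.pair_decomp i a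
    rw [hb, zero_smul, sub_zero] at h1
    have h2 : a = (a - S.al a i • S.e i) + S.al a i • S.e i := (sub_add_cancel a _).symm
    rw [h2, S.eich_add (S.qe i) (S.pol_e_P h1) (by rw [psmul_right S.hQ, S.pee, mul_zero]), S.eich_self (S.qe i),
      mul_one]
    exact he _ h1
  have hf' : ∀ a, pol Q (S.f i) a = 0 → eich Q (S.f i) a ∈ H := fun a ha => by
    have hb : S.al a i = 0 := by rw [al_apply, pcomm, ha]
    have h1 := S.pair_decomp i a
    rw [hb, zero_smul, sub_zero] at h1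
    have h2 : a = (a - S.be a i • S.f i) + S.be a i • S.f i := (sub_add_cancel a _).symm
    rw [h2, S.eich_add (S.qf i) (S.pol_f_P h1) (by rw [psmul_right S.hQ, S.pff, mul_zero]), S.eich_self (S.qf i),
      mul_one]
    exact hf _ h1
  have key : ∀ u, Q u = 0 → ∀ a, pol Q u a = 0 → eich Q u a ∈ H := by
    have hβ : ∀ u, Q u = 0 → S.be u i ≠ 0 → ∀ a, pol Q u a = 0 → eich Q u a ∈ H := by
      intro u hu hb a ha
      set p := u - S.al u i • S.e i - S.be u i • S.f i with hp
      have hpP : p ∈ S.P i := S.pair_decomp i u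
      have hp' : (S.be u i)⁻¹ • p ∈ S.P i := (S.P i).smul_mem _ hpP
      set g := eich Q (S.e i) ((S.be u i)⁻¹ • p) with hg
      have hq : S.al u i * S.be u i + Q p = 0 := by
        have h1 : Q u = Q (S.al u i • S.e i + S.be u i • S.f i + p) := by rw [hp]; congr 1; abel
        rw [hu, Quad.qadd S.hQ, Quad.qadd S.hQ, Quad.qsmul S.hQ, Quad.qsmul S.hQ, S.qe, S.qf, psmul_left S.hQ,
          psmul_right S.hQ, S.pef, if_pos rfl, padd_left S.hQ, psmul_left S.hQ, psmul_left S.hQ, S.pol_e_P hpP,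
          S.pol_f_P hpP] at h1
        linear_combination -h1
      have hu' : u = act g (S.be u i • S.f i) := by
        rw [hg, act_smul, S.eich_e_move i hp', smul_sub, smul_add, smul_smul, mul_inv_cancel₀ hb, one_smul, smul_smul,
          Quad.qsmul S.hQ, show S.be u i * ((S.be u i)⁻¹ ^ 2 * Q p) = -S.al u i by
            field_simp; linear_combination hq, hp, neg_smul]
        abel
      rw [hu'] at ha ⊢
      exact S.eich_move_mem (he _ hp') (by rw [Quad.qsmul S.hQ, S.qf, mul_zero])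
        (fun b hb' => S.eich_smul_mem (S.qf i) hf' _ hb') ha
    have hα : ∀ u, Q u = 0 → S.al u i ≠ 0 → ∀ a, pol Q u a = 0 → eich Q u a ∈ H := by
      intro u hu hb a ha
      set p := u - S.al u i • S.e i - S.be u i • S.f i with hp
      have hpP : p ∈ S.P i := S.pair_decomp i u
      have hp' : (S.al u i)⁻¹ • p ∈ S.P i := (S.P i).smul_mem _ hpP
      set g := eich Q (S.f i) ((S.al u i)⁻¹ • p) with hg
      have hq : S.al u i * S.be u i + Q p = 0 := by
        have h1 : Q u = Q (S.al u i • S.e i + S.be u i • S.f i + p) := by rw [hp]; congr 1; abel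
        rw [hu, Quad.qadd S.hQ, Quad.qadd S.hQ, Quad.qsmul S.hQ, Quad.qsmul S.hQ, S.qe, S.qf, psmul_left S.hQ,
          psmul_right S.hQ, S.pef, if_pos rfl, padd_left S.hQ, psmul_left S.hQ, psmul_left S.hQ, S.pol_e_P hpP,
          S.pol_f_P hpP] at h1
        linear_combination -h1
      have hu' : u = act g (S.al u i • S.e i) := by
        rw [hg, act_smul, S.eich_f_move i hp', smul_sub, smul_add, smul_smul, mul_inv_cancel₀ hb, one_smul, smul_smul,
          Quad.qsmul S.hQ, show S.al u i * ((S.al u i)⁻¹ ^ 2 * Q p) = -S.be u i by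
            field_simp; linear_combination hq, hp, neg_smul]
        abel
      rw [hu'] at ha ⊢
      exact S.eich_move_mem (hf _ hp') (by rw [Quad.qsmul S.hQ, S.qe, mul_zero])
        (fun b hb' => S.eich_smul_mem (S.qe i) he' _ hb') ha
    intro u hu a ha
    by_cases hb : S.be u i = 0
    swap
    · exact hβ u hu hb a ha
    by_cases hal : S.al u i = 0
    swap
    · exact hα u hu hal a ha
    rcases eq_or_ne u 0 with rfl | hu0
    · have := S.eich_smul_mem (S.qe i) he' 0 (a := a) (by rw [zero_smul]; exact ha)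
      rwa [zero_smul] at this
    have huP : u ∈ S.P i := ⟨hb, hal⟩
    obtain ⟨p, hp, hpu⟩ := S.exists_pairing huP hu0
    set g := eich Q (S.e i) p with hg
    have hgu : act g u = u - pol Q u p • S.e i := by
      rw [hg, S.eich_spec (S.qe i) (S.pol_e_P hp), huP.1]
      simp
    have hal' : S.al (act g u) i ≠ 0 := by
      rw [hgu, al_apply, psub_left S.hQ, psmul_left S.hQ, huP.2, S.pef, if_pos rfl, mul_one, zero_sub, neg_ne_zero]
      exact hpu
    have h1 : eich Q (act g u) (act g a) ∈ H := hα _ (by rw [q_act g, hu]) hal' _ (by rw [pol_act g, ha])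
    rw [← S.eich_conj hu ha g] at h1
    have := mul_mem (mul_mem (inv_mem (he p hp)) h1) (he p hp)
    rw [← hg] at this
    simpa [mul_assoc] using this
  have heG := omegaGL_eq S.hQ S.hι
  have hsub : eGroup Q ≤ H.map (omvHom Q) := by
    refine (Subgroup.closure_le _).2 ?_
    rintro g ⟨-, u, a, hu, hua, hgE⟩
    refine ⟨eich Q u a, key u hu a hua, ?_⟩
    have hE : IsE Q u a (omv (eich Q u a)) := fun x => by
      have h := S.eich_spec hu hua x
      simp only [act, iact] at h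
      exact h
    simp only [omvHom, MonoidHom.comp_apply, Subgroup.coe_subtype]
    exact hE.unique hgE
  refine eq_top_iff.2 fun g _ => ?_
  have h1 : omvHom Q g ∈ omegaGL Q := ⟨g.1, g.2, rfl⟩
  rw [heG] at h1
  obtain ⟨g', hg', hgg⟩ := hsub h1
  rwa [← omv_injective hgg]

/-! ### Normal forms inside `P i` -/

omit [Fintype F] in
theorem sw_fix {i j l : Fin m} (hjl : j ≠ l) (hij : i ≠ j) (hil : i ≠ l) :
    act (S.sw hjl) (S.e i) = S.e i ∧ act (S.sw hjl) (S.f i) = S.f i := by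
  have e1 : S.e i = S.vec (Pi.single i 1) 0 0 := by simp [vec, Pi.single_apply]
  have e2 : S.f i = S.vec 0 (Pi.single i 1) 0 := by simp [vec, Pi.single_apply]
  constructor
  · rw [e1, sw_vec S S.K.zero_mem]
    congr 1 <;> funext x <;> rcases eq_or_ne x i with rfl | hx <;> simp [hij, hil, *]
  · rw [e2, sw_vec S S.K.zero_mem]
    congr 1 <;> funext x <;> rcases eq_or_ne x i with rfl | hx <;> simp [hij, hil, *]

omit [Fintype F] in
theorem le_trv_fix {i j l : Fin m} (hjl : j ≠ l) (hij : i ≠ j) (hil : i ≠ l) (t : F) :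
    act (S.le (trv hjl t)) (S.e i) = S.e i ∧ act (S.le (trv hjl t)) (S.f i) = S.f i := by
  have e1 : S.e i = S.vec (Pi.single i 1) 0 0 := by simp [vec, Pi.single_apply]
  have e2 : S.f i = S.vec 0 (Pi.single i 1) 0 := by simp [vec, Pi.single_apply]
  constructor
  · rw [e1, le_vec S S.K.zero_mem, trv_inv]
    congr 1
    · funext x
      simp [trv_val, transvection, add_mulVec, single_mulVec, Pi.single_apply, Function.update_apply, hil.symm, Matrix.one_apply]
    · simp
  · rw [e2, le_vec S S.K.zero_mem, trv_inv]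
    congr 1
    · simp
    · funext x
      simp [trv_val, transvection, transpose_single, add_mulVec, single_mulVec, Pi.single_apply, Function.update_apply, hij.symm, Matrix.one_apply]

omit [Fintype F] in
theorem vec_zero_zero : S.vec 0 0 0 = 0 := by simp [vec]

omit [Fintype F] in
theorem tor_fix {i : Fin m} {d : ↥(sqDet F m)} (hd : d.1 i = 1) :
    act (S.tor d) (S.e i) = S.e i ∧ act (S.tor d) (S.f i) = S.f i := by
  have e1 : S.e i = S.vec (Pi.single i 1) 0 0 := by simp [vec, Pi.single_apply]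
  have e2 : S.f i = S.vec 0 (Pi.single i 1) 0 := by simp [vec, Pi.single_apply]
  constructor
  · rw [e1, tor_vec S S.K.zero_mem]
    congr 1 <;> funext x <;> rcases eq_or_ne x i with rfl | hx <;> simp [*]
  · rw [e2, tor_vec S S.K.zero_mem]
    congr 1 <;> funext x <;> rcases eq_or_ne x i with rfl | hx <;> simp [*]

theorem eich_f_fix {i j : Fin m} (hij : i ≠ j) {p : ι → F} (hpj : p ∈ S.P j) (hpi : p ∈ S.P i) :
    act (eich Q (S.f j) p) (S.e i) = S.e i ∧ act (eich Q (S.f j) p) (S.f i) = S.f i := by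
  constructor <;> rw [S.eich_spec (S.qf j) (S.pol_f_P hpj)] <;>
    simp [S.pef, S.pff, hij, S.pol_e_P hpi, S.pol_f_P hpi]

include S in
omit [Fintype F] in
theorem exists_ne_two (i j : Fin m) : ∃ l : Fin m, l ≠ i ∧ l ≠ j := by
  by_contra h
  push Not at h
  have hsub : (Finset.univ : Finset (Fin m)) ⊆ {i, j} := fun l _ => by
    rcases eq_or_ne l i with e | e
    · simp [e]
    · simp [h l e]
  have h2 := (Finset.card_le_card hsub).trans Finset.card_le_two
  rw [Finset.card_univ, Fintype.card_fin] at h2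
  have := S.hm
  omega

/-- Elements fixing the base pair. -/
def Fix (i : Fin m) (g : ↥(Cfsg.Omega F Q)) : Prop := act g (S.e i) = S.e i ∧ act g (S.f i) = S.f i

omit [Fintype F] in
theorem Fix.mul {i : Fin m} {g h : ↥(Cfsg.Omega F Q)} (hg : S.Fix i g) (hh : S.Fix i h) : S.Fix i (g * h) :=
  ⟨by rw [act_mul, hh.1, hg.1], by rw [act_mul, hh.2, hg.2]⟩

omit [Fintype F] in
theorem Fix.one (i : Fin m) : S.Fix i (1 : ↥(Cfsg.Omega F Q)) := ⟨act_one _, act_one _⟩

omit [Fintype F] in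
theorem Fix.mem_P {i : Fin m} {g : ↥(Cfsg.Omega F Q)} (hg : S.Fix i g) {v : ι → F} (hv : v ∈ S.P i) :
    act g v ∈ S.P i :=
  ⟨by rw [← hg.1, pol_act g]; exact hv.1, by rw [← hg.2, pol_act g]; exact hv.2⟩

theorem exists_norm {i j : Fin m} (hij : i ≠ j) {v : ι → F} (hv : v ∈ S.P i) (h0 : v ≠ 0) :
    ∃ g, S.Fix i g ∧ act g v = S.e j + Q v • S.f j := by
  -- make the leading coordinate nonzero
  have stepA : ∀ w ∈ S.P i, ∀ l, l ≠ i → S.al w l ≠ 0 → ∃ g, S.Fix i g ∧ S.al (act g w) j ≠ 0 := by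
    intro w hw l hl hne
    by_cases hj : S.al w j = 0
    swap
    · exact ⟨1, Fix.one S i, by rwa [act_one]⟩
    have hlj : j ≠ l := fun e => hne (e ▸ hj)
    refine ⟨S.le (trv hlj 1), S.le_trv_fix hlj hij hl.symm 1, ?_⟩
    obtain ⟨a, b, k, hk, rfl⟩ := S.eq_mk w
    rw [le_vec S hk, S.al_mk hk]
    rw [S.al_mk hk] at hj hne
    simpa [trv_val, transvection, add_mulVec, single_mulVec, hj] using hne
  have stepB : ∀ w ∈ S.P i, ∀ l, l ≠ i → S.be w l ≠ 0 → ∃ g, S.Fix i g ∧ S.al (act g w) j ≠ 0 := by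
    intro w hw l hl hne
    obtain ⟨l', hl'i, hl'l⟩ := S.exists_ne_two i l
    have hfix : S.Fix i (S.sw hl'l.symm) := S.sw_fix hl'l.symm hl.symm hl'i.symm
    have hne' : S.al (act (S.sw hl'l.symm) w) l ≠ 0 := by
      obtain ⟨a, b, k, hk, rfl⟩ := S.eq_mk w
      rw [sw_vec S hk, S.al_mk hk]
      rw [S.be_mk hk] at hne
      simpa using hne
    obtain ⟨g, hg, hgn⟩ := stepA _ (Fix.mem_P S hfix hw) l hl hne'
    exact ⟨g * S.sw hl'l.symm, Fix.mul S hg hfix, by rwa [act_mul]⟩
  obtain ⟨g₁, hg₁, hlead⟩ : ∃ g, S.Fix i g ∧ S.al (act g v) j ≠ 0 := by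
    by_cases hA : ∃ l, S.al v l ≠ 0
    · obtain ⟨l, hl⟩ := hA
      exact stepA v hv l (fun e => hl (e ▸ hv.2)) hl
    by_cases hB : ∃ l, S.be v l ≠ 0
    · obtain ⟨l, hl⟩ := hB
      exact stepB v hv l (fun e => hl (e ▸ hv.1)) hl
    push Not at hA hB
    have hvK : v ∈ S.K := ⟨hB, hA⟩
    obtain ⟨x, hx⟩ := (S.hQ.nondegenerate v h0).2
    have hk := S.kp_mem x
    have hpol : pol Q v (S.kp x) ≠ 0 := by
      rw [pcomm]
      rw [pcomm, ← S.mk_coords x, pol_mk_left] at hx
      simpa [pcomm _ v, hvK.1, hvK.2] using hx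
    have hfix : S.Fix i (eich Q (S.f j) (S.kp x)) := S.eich_f_fix hij (S.K_le_P j hk) (S.K_le_P i hk)
    have hb : S.be (act (eich Q (S.f j) (S.kp x)) v) j ≠ 0 := by
      rw [S.eich_spec (S.qf j) (S.pol_f_P (S.K_le_P j hk)), be_apply, hvK.2]
      simp only [zero_smul, add_zero, mul_zero, sub_zero, psub_left S.hQ, psmul_left S.hQ, hvK.1, S.pfe,
        ite_true, mul_one, zero_sub, neg_ne_zero]
      exact hpol
    obtain ⟨g, hg, hgn⟩ := stepB _ (Fix.mem_P S hfix hv) j hij.symm hb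
    exact ⟨g * eich Q (S.f j) (S.kp x), Fix.mul S hg hfix, by rwa [act_mul]⟩
  -- scale
  obtain ⟨k, hki, hkj⟩ := S.exists_ne_two i j
  set c := S.al (act g₁ v) j with hc
  let d : ↥(sqDet F m) := ⟨Pi.mulSingle j (Units.mk0 c hlead)⁻¹ * Pi.mulSingle k (Units.mk0 c hlead), 1, by
    simp only [Pi.mul_apply, Finset.prod_mul_distrib, Fintype.prod_pi_mulSingle]; simp⟩
  have hfix₂ : S.Fix i (S.tor d) := S.tor_fix (by simp [d, hij, hki.symm])
  set w := act (S.tor d * g₁) v with hw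
  have hwP : w ∈ S.P i := Fix.mem_P S (Fix.mul S hfix₂ hg₁) hv
  have hw1 : S.al w j = 1 := by
    rw [hw, act_mul]
    obtain ⟨a, b, k', hk', e⟩ := S.eq_mk (act g₁ v)
    rw [e, S.al_mk hk'] at hc
    rw [e, tor_vec S hk', S.al_mk hk']
    simp [d, hkj.symm, hc, inv_mul_cancel₀ (hc ▸ hlead)]
  -- clear
  set u := w - S.al w j • S.e j - S.be w j • S.f j with hu
  have huj : u ∈ S.P j := S.pair_decomp j w
  have hui : u ∈ S.P i := (S.P i).sub_mem ((S.P i).sub_mem hwP ((S.P i).smul_mem _ (S.e_mem_P hij.symm)))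
    ((S.P i).smul_mem _ (S.f_mem_P hij.symm))
  have hfix₃ : S.Fix i (eich Q (S.f j) (-u)) :=
    S.eich_f_fix hij ((S.P j).neg_mem huj) ((S.P i).neg_mem hui)
  refine ⟨eich Q (S.f j) (-u) * (S.tor d * g₁), Fix.mul S hfix₃ (Fix.mul S hfix₂ hg₁), ?_⟩
  rw [act_mul, ← hw]
  have hqw : Q w = Q v := q_act _ v
  have e : w = S.e j + S.be w j • S.f j + u := by rw [hu, hw1, one_smul]; abel
  have hqe : Q w = S.be w j + Q u := by
    conv_lhs => rw [e]
    rw [Quad.qadd S.hQ, Quad.qadd S.hQ, Quad.qsmul S.hQ, S.qe, S.qf, padd_left S.hQ, psmul_left S.hQ,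
      psmul_right S.hQ, S.pef, if_pos rfl, S.pol_e_P huj, S.pol_f_P huj]
    ring
  have hp1 : pol Q w (S.f j) = 1 := by rw [← al_apply, hw1]
  have hp2 : pol Q w u = 2 * Q u := by
    conv_lhs => rw [e]
    rw [padd_left S.hQ, padd_left S.hQ, psmul_left S.hQ, S.pol_e_P huj, S.pol_f_P huj, pself S.hQ]
    ring
  rw [S.eich_spec (S.qf j) (S.pol_f_P ((S.P j).neg_mem huj)), pneg_right S.hQ, hp1, hp2, Quad.qneg S.hQ, ← hqw, hqe]
  conv_lhs => arg 1; arg 1; arg 1; rw [e]
  module

end Fr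

end CfsgLib.Classical.OrthMin
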