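/-
The decomposition of a complex representation of a finite abelian group into the eigenspaces of its characters.
-/
import Mathlib

set_option autoImplicit false

namespace CfsgLib.Classical.OrthMin

open Module

variable {A : Type*} [AddCommGroup A] [Fintype A] {V : Type*} [AddCommGroup V] [Module ℂ V]

/-- An action of an abelian group written additively. -/
structure Act (A : Type*) [AddCommGroup A] (V : Type*) [AddCommGroup V] [Module ℂ V] where
  τ : A → Module.End ℂ V
  zero : τ 0 = 1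
  add : ∀ a b, τ (a + b) = τ a * τ b

namespace Act

variable (T : Act A V)

/-- The projection to the eigenspace of a character. -/
noncomputable def proj (χ : AddChar A ℂ) : Module.End ℂ V := (Fintype.card A : ℂ)⁻¹ • ∑ a, χ (-a) • T.τ a

/-- The eigenspace of a character. -/
def eig (χ : AddChar A ℂ) : Submodule ℂ V where
  carrier := {x | ∀ a, T.τ a x = χ a • x}
  zero_mem' := fun a => by simp
  add_mem' := fun {x y} hx hy a => by rw [map_add, hx, hy, smul_add]
  smul_mem' := fun c x hx a => by rw [map_smul, hx, smul_comm]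

theorem mem_eig {χ : AddChar A ℂ} {x : V} : x ∈ T.eig χ ↔ ∀ a, T.τ a x = χ a • x := Iff.rfl

theorem card_ne : (Fintype.card A : ℂ) ≠ 0 := Nat.cast_ne_zero.2 Fintype.card_ne_zero

theorem neg_mul_self (χ : AddChar A ℂ) (a : A) : χ (-a) * χ a = 1 := by
  rw [← AddChar.map_add_eq_mul, neg_add_cancel, AddChar.map_zero_eq_one]

theorem mul_proj (χ : AddChar A ℂ) (a : A) : T.τ a * T.proj χ = χ a • T.proj χ := by
  simp only [proj, mul_smul_comm, Finset.mul_sum, ← T.add, smul_smul, Finset.smul_sum]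
  refine Fintype.sum_equiv (Equiv.addLeft a) _ _ fun b => ?_
  simp only [Equiv.coe_addLeft]
  congr 1
  calc (Fintype.card A : ℂ)⁻¹ * χ (-b) = (Fintype.card A : ℂ)⁻¹ * ((χ (-a) * χ a) * χ (-b)) := by
        rw [neg_mul_self, one_mul]
    _ = χ a * ((Fintype.card A : ℂ)⁻¹ * χ (-(a + b))) := by
        rw [neg_add, AddChar.map_add_eq_mul]; ring

theorem proj_mem (χ : AddChar A ℂ) (x : V) : T.proj χ x ∈ T.eig χ := fun a => by
  rw [← Module.End.mul_apply, mul_proj]; rfl

open _root_.Classical in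
theorem proj_eig {χ χ' : AddChar A ℂ} {x : V} (hx : x ∈ T.eig χ) : T.proj χ' x = if χ' = χ then x else 0 := by
  have h : ∀ a, χ' (-a) * χ a = (χ - χ') a := fun a => by
    rw [sub_eq_add_neg, AddChar.add_apply, AddChar.neg_apply, mul_comm]
  simp only [proj, LinearMap.smul_apply, LinearMap.coe_sum, Finset.sum_apply, hx _, smul_smul, ← Finset.sum_smul,
    h, AddChar.sum_eq_ite]
  by_cases e : χ' = χ
  · subst e
    rw [if_pos (sub_self _), if_pos rfl, inv_mul_cancel₀ card_ne, one_smul]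
  · rw [if_neg (sub_ne_zero.2 (Ne.symm e)), if_neg e]
    simp

theorem range_proj (χ : AddChar A ℂ) : LinearMap.range (T.proj χ) = T.eig χ := by
  classical
  refine le_antisymm ?_ fun x hx => ⟨x, by rw [proj_eig T hx, if_pos rfl]⟩
  rintro _ ⟨x, rfl⟩
  exact T.proj_mem χ x

open _root_.Classical in
theorem proj_mul (χ χ' : AddChar A ℂ) : T.proj χ * T.proj χ' = if χ = χ' then T.proj χ' else 0 := by
  refine LinearMap.ext fun x => ?_
  rw [Module.End.mul_apply, proj_eig T (T.proj_mem χ' x)]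
  split_ifs <;> rfl

theorem sum_proj : ∑ χ : AddChar A ℂ, T.proj χ = 1 := by
  classical
  simp only [proj, ← Finset.smul_sum]
  rw [Finset.sum_comm]
  simp only [← Finset.sum_smul, AddChar.sum_apply_eq_ite, neg_eq_zero, ite_smul, zero_smul]
  rw [Finset.sum_ite_eq' Finset.univ (0 : A), if_pos (Finset.mem_univ _), T.zero, smul_smul,
    inv_mul_cancel₀ card_ne, one_smul]

theorem sum_proj_apply (x : V) : ∑ χ : AddChar A ℂ, T.proj χ x = x := by
  have h := congrArg (fun f : Module.End ℂ V => f x) T.sum_proj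
  simpa [LinearMap.coe_sum] using h

theorem exists_proj_ne_zero {x : V} (hx : x ≠ 0) : ∃ χ, T.proj χ x ≠ 0 := by
  by_contra h
  push Not at h
  exact hx (by rw [← T.sum_proj_apply x]; simp [h])

theorem apply_eq_sum (a : A) (x : V) : T.τ a x = ∑ χ : AddChar A ℂ, χ a • T.proj χ x := by
  conv_lhs => rw [← T.sum_proj_apply x]
  rw [map_sum]
  exact Finset.sum_congr rfl fun χ _ => T.proj_mem χ x a

theorem proj_comm {g : Module.End ℂ V} (h : ∀ a, g * T.τ a = T.τ a * g) (χ : AddChar A ℂ) :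
    g * T.proj χ = T.proj χ * g := by
  simp only [proj, mul_smul_comm, smul_mul_assoc, Finset.mul_sum, Finset.sum_mul, h]

theorem proj_conj {g : Module.End ℂ V} {f : A → A} (hf : Function.Bijective f)
    (hg : ∀ a, g * T.τ a = T.τ (f a) * g) {χ χ' : AddChar A ℂ} (hχ : ∀ a, χ' (f a) = χ a) :
    g * T.proj χ = T.proj χ' * g := by
  simp only [proj, mul_smul_comm, smul_mul_assoc, Finset.mul_sum, Finset.sum_mul, hg]
  congr 1
  refine Fintype.sum_bijective f hf _ _ fun a => ?_
  congr 1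
  have h1 : χ' (-f a) * χ' (f a) = 1 := neg_mul_self χ' (f a)
  have h2 : χ (-a) * χ a = 1 := neg_mul_self χ a
  rw [hχ] at h1
  calc χ (-a) = χ (-a) * (χ' (-f a) * χ a) := by rw [h1, mul_one]
    _ = χ' (-f a) * (χ (-a) * χ a) := by ring
    _ = χ' (-f a) := by rw [h2, mul_one]

theorem eig_map {g : Module.End ℂ V} {f : A → A} (hf : Function.Surjective f)
    (hg : ∀ a, g * T.τ a = T.τ (f a) * g) {χ χ' : AddChar A ℂ} (hχ : ∀ a, χ' (f a) = χ a)
    {x : V} (hx : x ∈ T.eig χ) : g x ∈ T.eig χ' := fun b => by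
  obtain ⟨a, rfl⟩ := hf b
  rw [← Module.End.mul_apply, ← hg, Module.End.mul_apply, hx, map_smul, hχ]

section Fin

variable [FiniteDimensional ℂ V]

theorem finrank_eq_sum : finrank ℂ V = ∑ χ : AddChar A ℂ, finrank ℂ (T.eig χ) := by
  classical
  have key : ∀ χ, finrank ℂ (T.eig χ) = finrank ℂ (LinearMap.range (T.proj χ)) := fun χ => by rw [range_proj]
  simp only [key]
  have h1 : ((finrank ℂ V : ℕ) : ℂ) = ((∑ χ : AddChar A ℂ, finrank ℂ (LinearMap.range (T.proj χ)) : ℕ) : ℂ) := by
    rw [← LinearMap.trace_one ℂ V, ← T.sum_proj, map_sum, Nat.cast_sum]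
    refine Finset.sum_congr rfl fun χ _ => ?_
    have hp : LinearMap.IsProj (LinearMap.range (T.proj χ)) (T.proj χ) := by
      refine ⟨fun x => LinearMap.mem_range_self _ x, ?_⟩
      rintro _ ⟨x, rfl⟩
      rw [← Module.End.mul_apply, proj_mul, if_pos rfl]
    exact hp.trace
  exact_mod_cast h1

theorem sum_finrank_le (s : Finset (AddChar A ℂ)) : ∑ χ ∈ s, finrank ℂ (T.eig χ) ≤ finrank ℂ V := by
  rw [T.finrank_eq_sum]
  exact Finset.sum_le_sum_of_subset (Finset.subset_univ s)

theorem sum_finrank_le' {κ : Type*} [Fintype κ] (f : κ → AddChar A ℂ) (hf : Function.Injective f) :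
    ∑ k, finrank ℂ (T.eig (f k)) ≤ finrank ℂ V := by
  have := T.sum_finrank_le (Finset.univ.map ⟨f, hf⟩)
  rwa [Finset.sum_map] at this

end Fin

end Act

theorem finrank_le_one_of_line {W : Submodule ℂ V} [FiniteDimensional ℂ V] (h : ∀ x ∈ W, ∀ y ∈ W, x ≠ 0 →
    ∃ c : ℂ, y = c • x) : finrank ℂ W ≤ 1 := by
  by_cases hW : W = ⊥
  · rw [hW, finrank_bot]; omega
  obtain ⟨x, hx, hx0⟩ := Submodule.exists_mem_ne_zero_of_ne_bot hW
  have : W ≤ ℂ ∙ x := fun y hy => by
    obtain ⟨c, rfl⟩ := h x hx y hy hx0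
    exact Submodule.smul_mem _ c (Submodule.mem_span_singleton_self x)
  exact (Submodule.finrank_mono this).trans (le_of_eq (finrank_span_singleton hx0))

theorem line_of_finrank_le_one {W : Submodule ℂ V} [FiniteDimensional ℂ V] (h : finrank ℂ W ≤ 1) {x y : V}
    (hx : x ∈ W) (hy : y ∈ W) (hx0 : x ≠ 0) : ∃ c : ℂ, y = c • x := by
  have hle : (ℂ ∙ x) = W := Submodule.eq_of_le_of_finrank_le ((Submodule.span_singleton_le_iff_mem x W).2 hx)
    (h.trans (le_of_eq (finrank_span_singleton hx0).symm))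
  rw [← hle, Submodule.mem_span_singleton] at hy
  obtain ⟨c, hc⟩ := hy
  exact ⟨c, hc.symm⟩

end CfsgLib.Classical.OrthMin
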