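/-
The characters of the radical of a point stabiliser in a small representation: only singular ones occur, each at most
once.
-/
import Cfsg.Agent.Lib.Classical.OrthMin.Gen
import Cfsg.Agent.Lib.Classical.OrthMin.Spec

set_option autoImplicit false

namespace CfsgLib.Classical.OrthMin

open Matrix Module Cfsg.Geo CfsgLib.Perm.Trans CfsgLib.Perm.Trans.Quad

variable {ι : Type} [Fintype ι] [DecidableEq ι] {F : Type*} [Field F] [Fintype F]
variable {Q : (ι → F) → F} {m : ℕ} (S : Fr Q m)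
variable {V : Type*} [AddCommGroup V] [Module ℂ V] (ρ : Representation ℂ ↥(Cfsg.Omega F Q) V) (ψ : AddChar F ℂ)

local notation "pol" => QuadraticMap.polar

namespace Fr

noncomputable instance (i : Fin m) : Fintype ↥(S.P i) := Fintype.ofFinite _

/-- The radical of a point stabiliser acting on the module. -/
noncomputable def R (i : Fin m) : Act ↥(S.P i) V where
  τ a := ρ (S.rp i a)
  zero := by rw [rp_zero, map_one]
  add a b := by rw [rp_add, map_mul]

/-- The characters of the radical. -/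
noncomputable def chi (i : Fin m) (v : ι → F) : AddChar ↥(S.P i) ℂ :=
  ψ.compAddMonoidHom
    { toFun := fun a => pol Q a.1 v
      map_zero' := pzero_left S.hQ v
      map_add' := fun a b => padd_left S.hQ a.1 b.1 v }

theorem chi_apply (i : Fin m) (v : ι → F) (a : ↥(S.P i)) : S.chi ψ i v a = ψ (pol Q a.1 v) := rfl

/-- The eigenspaces of the radical. -/
noncomputable def Eg (i : Fin m) (v : ι → F) : Submodule ℂ V := (S.R ρ i).eig (S.chi ψ i v)

theorem mem_Eg {i : Fin m} {v : ι → F} {x : V} :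
    x ∈ S.Eg ρ ψ i v ↔ ∀ a ∈ S.P i, ρ (eich Q (S.e i) a) x = ψ (pol Q a v) • x := by
  constructor
  · intro h a ha
    exact h ⟨a, ha⟩
  · rintro h ⟨a, ha⟩
    exact h a ha

theorem move_rp {i : Fin m} {g : ↥(Cfsg.Omega F Q)} {c : F} (he : act g (S.e i) = c • S.e i)
    (a : ↥(S.P i)) : g * eich Q (S.e i) a.1 * g⁻¹ = eich Q (S.e i) (c • act g a.1) := by
  rw [S.eich_conj (S.qe i) (S.pol_e_P a.2) g, he, S.eich_smul_left (S.qe i) ?_ c]
  rcases eq_or_ne c 0 with rfl | hc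
  · exfalso
    have h1 : act g⁻¹ (act g (S.e i)) = 0 := by rw [he, zero_smul, act_zero]
    rw [act_inv_act] at h1
    have h2 := S.pef i i
    rw [h1, pzero_left S.hQ, if_pos rfl] at h2
    exact zero_ne_one h2
  · have h1 : pol Q (c • S.e i) (act g a.1) = 0 := by rw [← he, pol_act g, S.pol_e_P a.2]
    rw [psmul_left S.hQ] at h1
    exact (mul_eq_zero.1 h1).resolve_left hc

theorem Eg_move {i : Fin m} {g : ↥(Cfsg.Omega F Q)} {c : F} (hc : c ≠ 0) (he : act g (S.e i) = c • S.e i)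
    (hf : act g (S.f i) = c⁻¹ • S.f i) (v : ι → F) {x : V} (hx : x ∈ S.Eg ρ ψ i v) :
    ρ g x ∈ S.Eg ρ ψ i (c⁻¹ • act g v) := by
  rw [mem_Eg]
  intro b hb
  obtain ⟨a, ha⟩ : ∃ a, a = c⁻¹ • act g⁻¹ b := ⟨_, rfl⟩
  have haP : a ∈ S.P i := by
    rw [ha]
    refine (S.P i).smul_mem _ ⟨?_, ?_⟩
    · have h1 : pol Q b (act g (S.e i)) = 0 := by rw [he, psmul_right S.hQ, hb.1, mul_zero]
      rw [← pol_act g, act_act_inv]; exact h1
    · have h1 : pol Q b (act g (S.f i)) = 0 := by rw [hf, psmul_right S.hQ, hb.2, mul_zero]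
      rw [← pol_act g, act_act_inv]; exact h1
  have hb' : b = c • act g a := by
    rw [ha, act_smul, act_act_inv, smul_smul, mul_inv_cancel₀ hc, one_smul]
  have h2 := S.move_rp he ⟨a, haP⟩
  simp only [← hb'] at h2
  rw [← h2, map_mul, map_mul, Module.End.mul_apply, Module.End.mul_apply, ← Module.End.mul_apply (ρ g⁻¹) (ρ g),
    ← map_mul, inv_mul_cancel, map_one, Module.End.one_apply, (S.mem_Eg ρ ψ).1 hx a haP, map_smul, hb',
    psmul_left S.hQ, psmul_right S.hQ, pol_act g, ← mul_assoc, mul_inv_cancel₀ hc, one_mul]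

theorem Eg_fix {i : Fin m} {g : ↥(Cfsg.Omega F Q)} (hg : S.Fix i g) (v : ι → F) {x : V}
    (hx : x ∈ S.Eg ρ ψ i v) : ρ g x ∈ S.Eg ρ ψ i (act g v) := by
  have := S.Eg_move ρ ψ (c := 1) one_ne_zero (by rw [one_smul, hg.1]) (by rw [inv_one, one_smul, hg.2]) v hx
  rwa [inv_one, one_smul] at this

theorem rho_injective (g : ↥(Cfsg.Omega F Q)) : Function.Injective (ρ g) := fun x y h => by
  have := congrArg (ρ g⁻¹) h
  rwa [← Module.End.mul_apply, ← Module.End.mul_apply, ← map_mul, inv_mul_cancel, map_one] at this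

variable [FiniteDimensional ℂ V]

theorem finrank_Eg_move {i : Fin m} {g : ↥(Cfsg.Omega F Q)} {c : F} (hc : c ≠ 0)
    (he : act g (S.e i) = c • S.e i) (hf : act g (S.f i) = c⁻¹ • S.f i) (v : ι → F) :
    finrank ℂ (S.Eg ρ ψ i v) ≤ finrank ℂ (S.Eg ρ ψ i (c⁻¹ • act g v)) := by
  refine LinearMap.finrank_le_finrank_of_injective
    (f := (ρ g).restrict (fun x hx => S.Eg_move ρ ψ hc he hf v hx)) fun x y h => Subtype.ext ?_
  exact rho_injective ρ g (congrArg Subtype.val h)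

theorem finrank_Eg_fix {i : Fin m} {g : ↥(Cfsg.Omega F Q)} (hg : S.Fix i g) (v : ι → F) :
    finrank ℂ (S.Eg ρ ψ i v) ≤ finrank ℂ (S.Eg ρ ψ i (act g v)) := by
  have := S.finrank_Eg_move ρ ψ (c := 1) one_ne_zero (by rw [one_smul, hg.1]) (by rw [inv_one, one_smul, hg.2]) v
  rwa [inv_one, one_smul] at this

variable {ψ} (hψ : ψ.IsPrimitive)
include hψ

omit [FiniteDimensional ℂ V] in
theorem chi_inj {i : Fin m} {v w : ι → F} (hv : v ∈ S.P i) (hw : w ∈ S.P i) (h : S.chi ψ i v = S.chi ψ i w) :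
    v = w := by
  by_contra hne
  obtain ⟨a, ha, hpa⟩ := S.exists_pairing ((S.P i).sub_mem hv hw) (sub_ne_zero.2 hne)
  apply hψ hpa
  ext c
  have h1 := congrArg (fun φ : AddChar ↥(S.P i) ℂ => φ ⟨c • a, (S.P i).smul_mem c ha⟩) h
  simp only [chi_apply] at h1
  show ψ (pol Q (v - w) a * c) = (1 : AddChar F ℂ) c
  rw [AddChar.one_apply, psub_left S.hQ, sub_mul, AddChar.map_sub_eq_div]
  have e : ∀ u, pol Q (c • a) u = pol Q u a * c := fun u => by rw [psmul_left S.hQ, pcomm a u]; ring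
  rw [e, e] at h1
  rw [h1, div_self]
  exact (AddChar.val_isUnit ψ _).ne_zero

omit [FiniteDimensional ℂ V] in
theorem chi_surj (i : Fin m) (χ : AddChar ↥(S.P i) ℂ) : ∃ v : ↥(S.P i), S.chi ψ i v.1 = χ := by
  have h : Function.Bijective (fun v : ↥(S.P i) => S.chi ψ i v.1) := by
    rw [Fintype.bijective_iff_injective_and_card]
    exact ⟨fun v w e => Subtype.ext (S.chi_inj hψ v.2 w.2 e), AddChar.card_eq.symm⟩
  exact h.2 χ

theorem sum_finrank_Eg_le (i : Fin m) {κ : Type*} [Fintype κ] (w : κ → ι → F) (hw : ∀ k, w k ∈ S.P i)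
    (hinj : Function.Injective w) : ∑ k, finrank ℂ (S.Eg ρ ψ i (w k)) ≤ finrank ℂ V :=
  (S.R ρ i).sum_finrank_le' (fun k => S.chi ψ i (w k)) fun _ _ e => hinj (S.chi_inj hψ (hw _) (hw _) e)

/-- The number of vectors in the standard family. -/
noncomputable def famCard : ℕ :=
  (Fintype.card F - 1) * (Fintype.card F ^ (2 * (m - 2)) * Nat.card ↥S.K)

omit hψ [FiniteDimensional ℂ V] in
/-- A large family of characters conjugate to a normal form. -/
theorem exists_family {i j : Fin m} (hij : i ≠ j) (c : F) :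
    ∃ (n : ℕ) (w : Fin n → ι → F), S.famCard ≤ n ∧ Function.Injective w ∧
      (∀ k, w k ∈ S.P i) ∧ (∀ k, Q (w k) = c) ∧
      ∀ k, ∃ g, S.Fix i g ∧ w k = act g (S.e j + c • S.f j) := by
  classical
  obtain ⟨l, hli, hlj⟩ := S.exists_ne_two i j
  haveI : Fintype ↥S.K := Fintype.ofFinite _
  let ι' := {x : Fin m // x ≠ i ∧ x ≠ j}
  let ext : (ι' → F) → Fin m → F := fun f x => if h : x ≠ i ∧ x ≠ j then f ⟨x, h⟩ else 0
  let κ := Fˣ × (ι' → F) × (ι' → F) × ↥S.K
  let p : κ → ι → F := fun k => S.vec (ext k.2.1) (ext k.2.2.1) k.2.2.2.1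
  have hpP : ∀ k x, (x = i ∨ x = j) → p k ∈ S.P x := by
    intro k x hx
    refine ⟨?_, ?_⟩
    · rw [← be_apply, S.be_mk k.2.2.2.2]
      rcases hx with rfl | rfl <;> simp [ext]
    · rw [← al_apply, S.al_mk k.2.2.2.2]
      rcases hx with rfl | rfl <;> simp [ext]
  let d : Fˣ → ↥(sqDet F m) := fun u => ⟨Pi.mulSingle j u * Pi.mulSingle l u⁻¹, 1, by
    simp only [Pi.mul_apply, Finset.prod_mul_distrib, Fintype.prod_pi_mulSingle]; simp⟩
  have hg : ∀ k : κ, S.Fix i (S.tor (d k.1) * eich Q (S.f j) (p k)) := fun k =>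
    Fix.mul S (S.tor_fix (by simp [d, hij, hli.symm])) (S.eich_f_fix hij (hpP k j (.inr rfl)) (hpP k i (.inl rfl)))
  have hbase : S.e j + c • S.f j ∈ S.P i :=
    (S.P i).add_mem (S.e_mem_P hij.symm) ((S.P i).smul_mem _ (S.f_mem_P hij.symm))
  let w : κ → ι → F := fun k => act (S.tor (d k.1) * eich Q (S.f j) (p k)) (S.e j + c • S.f j)
  have hcomp : ∀ k : κ, act (eich Q (S.f j) (p k)) (S.e j + c • S.f j) =
      S.vec (Pi.single j 1 + ext k.2.1) (Pi.single j (c - Q (p k)) + ext k.2.2.1) k.2.2.2.1 := by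
    intro k
    rw [act_add, act_smul, S.eich_f_move j (hpP k j (.inr rfl))]
    have e2 : act (eich Q (S.f j) (p k)) (S.f j) = S.f j := by
      rw [S.eich_spec (S.qf j) (S.pol_f_P (hpP k j (.inr rfl))), S.pff, S.pol_f_P (hpP k j (.inr rfl))]
      simp
    rw [e2]
    refine S.coords_ext ?_ ?_ ?_ <;>
      simp only [map_add, map_sub, map_smul, S.al_mk k.2.2.2.2, S.be_mk k.2.2.2.2, S.kp_mk k.2.2.2.2, p, al_e, be_e,
        kp_e, al_f, be_f, kp_f, smul_zero, add_zero, sub_zero, zero_add]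
    funext x
    simp [Pi.single_apply]
    split_ifs <;> ring
  refine ⟨Fintype.card κ, w ∘ (Fintype.equivFin κ).symm, ?_, Function.Injective.comp ?_ (Equiv.injective _),
    fun k => Fix.mem_P S (hg _) hbase, fun k => ?_, fun k => ⟨_, hg _, rfl⟩⟩
  · have hc : Fintype.card ι' = m - 2 := by
      rw [Fintype.card_subtype, show (Finset.univ.filter fun x : Fin m => x ≠ i ∧ x ≠ j) = Finset.univ \ {i, j} by
        ext x; simp, Finset.card_sdiff, Finset.inter_univ, Finset.card_pair hij, Finset.card_univ, Fintype.card_fin]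
    rw [famCard, Nat.card_eq_fintype_card]
    simp only [κ, Fintype.card_prod, Fintype.card_fun, hc, Fintype.card_units]
    apply le_of_eq
    rw [two_mul, pow_add]; ring
  · intro k k' e
    have hv : ∀ k : κ, S.al (w k) = fun x => (d k.1).1 x * (Pi.single j 1 + ext k.2.1 : Fin m → F) x := fun k => by
      show S.al (act (_ * _) _) = _
      rw [act_mul, hcomp, tor_vec S k.2.2.2.2, S.al_mk k.2.2.2.2]
    have hb : ∀ k : κ, S.be (w k) = fun x => (((d k.1).1 x)⁻¹ : Fˣ) *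
        (Pi.single j (c - Q (p k)) + ext k.2.2.1 : Fin m → F) x := fun k => by
      show S.be (act (_ * _) _) = _
      rw [act_mul, hcomp, tor_vec S k.2.2.2.2, S.be_mk k.2.2.2.2]
    have hk' : ∀ k : κ, S.kp (w k) = k.2.2.2.1 := fun k => by
      show S.kp (act (_ * _) _) = _
      rw [act_mul, hcomp, tor_vec S k.2.2.2.2, S.kp_mk k.2.2.2.2]
    have ea := congrArg S.al e
    rw [hv, hv] at ea
    have eb := congrArg S.be e
    rw [hb, hb] at eb
    have e1 : k.1 = k'.1 := by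
      have := congrFun ea j
      exact Units.ext (by simpa [d, hlj.symm, ext] using this)
    refine Prod.ext e1 (Prod.ext ?_ (Prod.ext ?_ (Subtype.ext ?_)))
    · funext x
      have := congrFun ea x.1
      simpa [d, e1, ext, x.2.1, x.2.2] using this
    · funext x
      have := congrFun eb x.1
      simpa [d, e1, ext, x.2.1, x.2.2] using this
    · rw [← hk' k, ← hk' k', e]
  · show Q (act _ _) = _
    refine (q_act _ _).trans ?_
    rw [Quad.qadd S.hQ, Quad.qsmul S.hQ, S.qe, S.qf, psmul_right S.hQ, S.pef, if_pos rfl]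
    ring

variable (hq : 3 < Fintype.card F) (hV : finrank ℂ V < 2 * S.famCard)
include hq

omit hψ [FiniteDimensional ℂ V] in
theorem exists_sq_ne_one : ∃ a : Fˣ, (a : F) * a ≠ 1 := by
  classical
  by_contra h
  push Not at h
  have hsub : (Finset.univ : Finset F) ⊆ {0, 1, -1} := fun x _ => by
    rcases eq_or_ne x 0 with rfl | hx
    · simp
    · rcases mul_self_eq_one_iff.1 (h (Units.mk0 x hx)) with e | e <;> simp [show x = _ from e]
  have := (Finset.card_le_card hsub).trans Finset.card_le_three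
  rw [Finset.card_univ] at this
  omega

include hV

/-- Only singular characters occur. -/
theorem singular_of_Eg {i : Fin m} {v : ι → F} (hv : v ∈ S.P i) (h : S.Eg ρ ψ i v ≠ ⊥) : Q v = 0 := by
  classical
  by_contra hQv
  have hv0 : v ≠ 0 := fun e => hQv (by rw [e]; exact qzero S.hQ)
  obtain ⟨j, hji, -⟩ := S.exists_ne_two i i
  obtain ⟨l, hli, hlj⟩ := S.exists_ne_two i j
  have hij := hji.symm
  obtain ⟨g, hg, hgv⟩ := S.exists_norm hij hv hv0
  set c := Q v
  obtain ⟨a, ha⟩ := exists_sq_ne_one (F := F) hq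
  set c' := c * ((a : F) * a)⁻¹ with hc'
  let d : ↥(sqDet F m) := ⟨Pi.mulSingle i a * Pi.mulSingle j a, a, by
    simp [Finset.prod_mul_distrib]⟩
  have h1 : 1 ≤ finrank ℂ (S.Eg ρ ψ i (S.e j + c • S.f j)) := by
    rw [← hgv]
    exact le_trans (Submodule.one_le_finrank_iff.2 h) (S.finrank_Eg_fix ρ ψ hg v)
  have hk : ∀ x : Fin m → F, S.vec x 0 0 = ∑ l, x l • S.e l := fun x => by simp [vec]
  have h1' : 1 ≤ finrank ℂ (S.Eg ρ ψ i (S.e j + c' • S.f j)) := by
    have e1 : S.e i = S.vec (Pi.single i 1) 0 0 := by simp [vec, Pi.single_apply]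
    have e2 : S.f i = S.vec 0 (Pi.single i 1) 0 := by simp [vec, Pi.single_apply]
    have e3 : S.e j + c • S.f j = S.vec (Pi.single j 1) (Pi.single j c) 0 := by simp [vec, Pi.single_apply]
    have he : act (S.tor d) (S.e i) = (a : F) • S.e i := by
      rw [e1, tor_vec S S.K.zero_mem]
      simp [vec, d, Pi.single_apply, hij]
    have hf : act (S.tor d) (S.f i) = (a : F)⁻¹ • S.f i := by
      rw [e2, tor_vec S S.K.zero_mem]
      simp [vec, d, Pi.single_apply, hij]
    have hh := S.finrank_Eg_move ρ ψ a.ne_zero he hf (S.e j + c • S.f j)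
    rw [e3, tor_vec S S.K.zero_mem] at hh
    have e4 : (a : F)⁻¹ • S.vec (fun x => (d.1 x : F) * (Pi.single j 1 : Fin m → F) x)
        (fun x => (((d.1 x)⁻¹ : Fˣ) : F) * (Pi.single j c : Fin m → F) x) 0 = S.e j + c' • S.f j := by
      simp [vec, d, Pi.single_apply, hji, smul_add, smul_smul, hc']
      ring_nf
    rw [e4, ← e3] at hh
    exact le_trans h1 hh
  obtain ⟨κ₁, w₁, hc₁, hi₁, hP₁, hQ₁, hg₁⟩ := S.exists_family hij c
  obtain ⟨κ₂, w₂, hc₂, hi₂, hP₂, hQ₂, hg₂⟩ := S.exists_family hij c'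
  have hne : c ≠ c' := by
    intro e
    refine ha ?_
    rw [hc', eq_mul_inv_iff_mul_eq₀ (mul_ne_zero a.ne_zero a.ne_zero)] at e
    exact mul_left_cancel₀ hQv (by rw [e, mul_one])
  have hinj : Function.Injective (Sum.elim w₁ w₂) :=
    hi₁.sumElim hi₂ fun x y e => hne (by rw [← hQ₁ x, ← hQ₂ y, e])
  have hsum := S.sum_finrank_Eg_le ρ hψ i (Sum.elim w₁ w₂)
    (by rintro (x | x); exacts [hP₁ x, hP₂ x]) hinj
  have hge : ∀ x, 1 ≤ finrank ℂ (S.Eg ρ ψ i (Sum.elim w₁ w₂ x)) := by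
    rintro (x | x)
    · obtain ⟨g, hg, e⟩ := hg₁ x
      show _ ≤ finrank ℂ (S.Eg ρ ψ i (w₁ x))
      rw [e]
      exact h1.trans (S.finrank_Eg_fix ρ ψ hg _)
    · obtain ⟨g, hg, e⟩ := hg₂ x
      show _ ≤ finrank ℂ (S.Eg ρ ψ i (w₂ x))
      rw [e]
      exact h1'.trans (S.finrank_Eg_fix ρ ψ hg _)
  have hlow := (Finset.sum_le_sum (s := Finset.univ) fun x _ => hge x).trans hsum
  rw [Finset.sum_const, Finset.card_univ, Fintype.card_sum, Fintype.card_fin, Fintype.card_fin, smul_eq_mul, mul_one] at hlow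
  omega

/-- Every nonzero character occurs at most once. -/
theorem finrank_Eg_le_one {i : Fin m} {v : ι → F} (hv : v ∈ S.P i) (hv0 : v ≠ 0) :
    finrank ℂ (S.Eg ρ ψ i v) ≤ 1 := by
  by_contra h2
  push Not at h2
  have hQv : Q v = 0 := S.singular_of_Eg ρ hψ hq hV hv
    (fun e => by rw [e, finrank_bot] at h2; omega)
  obtain ⟨j, hji, -⟩ := S.exists_ne_two i i
  obtain ⟨g, hg, hgv⟩ := S.exists_norm hji.symm hv hv0
  rw [hQv] at hgv
  obtain ⟨κ, w, hc, hi, hP, -, hgs⟩ := S.exists_family hji.symm (0 : F)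
  have hsum := S.sum_finrank_Eg_le ρ hψ i w hP hi
  have hge : ∀ x, 2 ≤ finrank ℂ (S.Eg ρ ψ i (w x)) := fun x => by
    obtain ⟨g', hg', e⟩ := hgs x
    rw [e, ← hgv]
    exact le_trans h2 ((S.finrank_Eg_fix ρ ψ hg v).trans (S.finrank_Eg_fix ρ ψ hg' _))
  have hlow := (Finset.sum_le_sum (s := Finset.univ) fun x _ => hge x).trans hsum
  rw [Finset.sum_const, Finset.card_univ, Fintype.card_fin, smul_eq_mul] at hlow
  omega

omit hq hV [FiniteDimensional ℂ V] in
/-- If no nontrivial character occurs, the radical acts trivially. -/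
theorem rp_trivial {i : Fin m} (h : ∀ v ∈ S.P i, v ≠ 0 → S.Eg ρ ψ i v = ⊥) {a : ι → F} (ha : a ∈ S.P i) :
    ρ (eich Q (S.e i) a) = 1 := by
  refine LinearMap.ext fun x => ?_
  show (S.R ρ i).τ ⟨a, ha⟩ x = x
  rw [(S.R ρ i).apply_eq_sum]
  conv_rhs => rw [← (S.R ρ i).sum_proj_apply x]
  refine Finset.sum_congr rfl fun χ _ => ?_
  obtain ⟨v, rfl⟩ := S.chi_surj hψ i χ
  rcases eq_or_ne v.1 0 with hv | hv
  · rw [chi_apply, hv, pzero_right S.hQ, AddChar.map_zero_eq_one, one_smul]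
  · have h1 : (S.R ρ i).proj (S.chi ψ i v.1) x ∈ S.Eg ρ ψ i v.1 := (S.R ρ i).proj_mem _ x
    rw [h v.1 v.2 hv, Submodule.mem_bot] at h1
    rw [h1, smul_zero]

variable (hfix : ∀ x : V, (∀ g, ρ g x = x) → x = 0) (hne : ∃ g, ρ g ≠ 1)
include hne

omit [FiniteDimensional ℂ V] hq hV in
theorem exists_Eg_ne (i : Fin m) : ∃ v ∈ S.P i, v ≠ 0 ∧ S.Eg ρ ψ i v ≠ ⊥ := by
  by_contra h
  push Not at h
  obtain ⟨g, hg⟩ := hne
  apply hg
  have htriv : ∀ a ∈ S.P i, ρ (eich Q (S.e i) a) = 1 := fun a ha => S.rp_trivial ρ hψ h ha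
  have hef : S.e i ≠ 0 := fun e => by
    have := S.pef i i
    rw [e, pzero_left S.hQ, if_pos rfl] at this
    exact zero_ne_one this
  have hff : S.f i ≠ 0 := fun e => by
    have := S.pef i i
    rw [e, pzero_right S.hQ, if_pos rfl] at this
    exact zero_ne_one this
  obtain ⟨k, hk, hke⟩ := exists_move S.hQ S.hι hef hff (S.qe i) (S.qf i)
  obtain ⟨k', rfl⟩ := exists_omega_move S.hQ S.hι hk
  have he : ∀ a, pol Q (S.e i) a = 0 → eich Q (S.e i) a ∈ MonoidHom.ker ρ := by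
    intro a ha
    have hb : S.be a i = 0 := by rw [be_apply, pcomm, ha]
    have h1 := S.pair_decomp i a
    rw [hb, zero_smul, sub_zero] at h1
    have h2 : a = (a - S.al a i • S.e i) + S.al a i • S.e i := (sub_add_cancel a _).symm
    rw [h2, S.eich_add (S.qe i) (S.pol_e_P h1) (by rw [psmul_right S.hQ, S.pee, mul_zero]), S.eich_self (S.qe i),
      mul_one]
    exact MonoidHom.mem_ker.2 (htriv _ h1)
  have htop := S.eq_top_of_radicals (MonoidHom.ker ρ) i (fun a ha => he a (S.pol_e_P ha)) fun a ha => by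
    have hke' : act k' (S.e i) = S.f i := hke
    have h1 : pol Q (S.e i) (act k'⁻¹ a) = 0 := by
      rw [← pol_act k', act_act_inv, hke', S.pol_f_P ha]
    have h2 := S.eich_conj (S.qe i) h1 k'
    rw [hke', act_act_inv] at h2
    rw [← h2]
    refine MonoidHom.mem_ker.2 ?_
    rw [map_mul, map_mul, MonoidHom.mem_ker.1 (he _ h1), mul_one, ← map_mul, mul_inv_cancel, map_one]
  exact MonoidHom.mem_ker.1 (htop ▸ Subgroup.mem_top g)

/-- Every axis character occurs exactly once. -/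
theorem axis_line {i j : Fin m} (hij : i ≠ j) {c : F} (hc : c ≠ 0) :
    finrank ℂ (S.Eg ρ ψ i (c • S.e j)) = 1 := by
  have hmem : c • S.e j ∈ S.P i := (S.P i).smul_mem _ (S.e_mem_P hij.symm)
  have hne0 : c • S.e j ≠ 0 := fun e => by
    have h1 := congrArg (fun v => pol Q v (S.f j)) e
    simp only [psmul_left S.hQ, S.pef, ite_true, mul_one, pzero_left S.hQ] at h1
    exact hc h1
  refine le_antisymm (S.finrank_Eg_le_one ρ hψ hq hV hmem hne0) ?_
  obtain ⟨v, hv, hv0, hEv⟩ := S.exists_Eg_ne ρ hψ hne i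
  obtain ⟨g, hg, hgv⟩ := S.exists_norm hij hv hv0
  rw [S.singular_of_Eg ρ hψ hq hV hv hEv, zero_smul, add_zero] at hgv
  obtain ⟨l, hli, hlj⟩ := S.exists_ne_two i j
  let d : ↥(sqDet F m) := ⟨Pi.mulSingle j (Units.mk0 c hc) * Pi.mulSingle l (Units.mk0 c hc)⁻¹, 1, by
    simp only [Pi.mul_apply, Finset.prod_mul_distrib, Fintype.prod_pi_mulSingle]; simp⟩
  have hfix' : S.Fix i (S.tor d) := S.tor_fix (by simp [d, hij, hli.symm])
  have e : act (S.tor d) (S.e j) = c • S.e j := by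
    rw [show S.e j = S.vec (Pi.single j 1) 0 0 by simp [vec, Pi.single_apply], tor_vec S S.K.zero_mem]
    simp [vec, d, Pi.single_apply, hlj.symm]
  have h1 := S.finrank_Eg_fix ρ ψ hfix' (S.e j)
  rw [e] at h1
  have h2 := S.finrank_Eg_fix ρ ψ hg v
  rw [hgv] at h2
  replace h2 := h2.trans h1
  exact le_trans (Submodule.one_le_finrank_iff.2 hEv) h2

end Fr

end CfsgLib.Classical.OrthMin
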