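/-
Torus elements as products of unipotent elements.
-/
import Cfsg.Agent.Lib.Classical.OrthMin.Radical

set_option autoImplicit false

namespace CfsgLib.Classical.OrthMin

open Matrix Module Cfsg.Geo CfsgLib.Perm.Trans CfsgLib.Perm.Trans.Quad

variable {ι : Type} [Fintype ι] [DecidableEq ι] {F : Type*} [Field F]
variable {Q : (ι → F) → F} {m : ℕ} (S : Fr Q m)

local notation "pol" => QuadraticMap.polar

/-- The torus element with entries `a` and `a⁻¹`. -/
def hmn (i j : Fin m) (a : Fˣ) : ↥(Fr.sqDet F m) :=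
  ⟨Pi.mulSingle i a * Pi.mulSingle j a⁻¹, 1, by simp [Finset.prod_mul_distrib]⟩

/-- The torus element with two entries `a`. -/
def hpl (i j : Fin m) (a : Fˣ) : ↥(Fr.sqDet F m) :=
  ⟨Pi.mulSingle i a * Pi.mulSingle j a, a, by simp [Finset.prod_mul_distrib]⟩

/-- The torus element with one square entry. -/
def dsq (i : Fin m) (a : Fˣ) : ↥(Fr.sqDet F m) :=
  ⟨Pi.mulSingle i (a * a), a, by simp⟩

theorem hmn_val (i j : Fin m) (a : Fˣ) : (hmn i j a).1 = Pi.mulSingle i a * Pi.mulSingle j a⁻¹ := rfl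

theorem hpl_val (i j : Fin m) (a : Fˣ) : (hpl i j a).1 = Pi.mulSingle i a * Pi.mulSingle j a := rfl

theorem dsq_val (i : Fin m) (a : Fˣ) : (dsq i a).1 = Pi.mulSingle i (a * a) := rfl

theorem hmn_mul_hpl (i j : Fin m) (a : Fˣ) : hmn i j a * hpl i j a = dsq i a := by
  refine Subtype.ext (funext fun x => ?_)
  simp only [Subgroup.coe_mul, hmn_val, hpl_val, dsq_val, Pi.mul_apply]
  rcases eq_or_ne x i with rfl | hi
  · rcases eq_or_ne x j with rfl | hj <;> simp [*]
  · rcases eq_or_ne x j with rfl | hj <;> simp [*]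

theorem hmn_pow (i j : Fin m) (a : Fˣ) (n : ℕ) : hmn i j a ^ n = hmn i j (a ^ n) := by
  refine Subtype.ext ?_
  simp only [SubmonoidClass.coe_pow, hmn_val, mul_pow, ← Pi.mulSingle_pow, inv_pow]

/-- The matrix of the Weyl word. -/
def wv (i j : Fin m) (t : F) (v : Fin m → F) : Fin m → F :=
  Function.update (Function.update v i (t * v j)) j (-t⁻¹ * v i)

theorem sl_mul_mulVec (g h : SpecialLinearGroup (Fin m) F) (v : Fin m → F) :
    (g * h).1 *ᵥ v = g.1 *ᵥ (h.1 *ᵥ v) := by
  rw [mulVec_mulVec]; rfl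

theorem trv_mulVec {i j : Fin m} (hij : i ≠ j) (t : F) (v : Fin m → F) :
    (Fr.trv hij t).1 *ᵥ v = Function.update v i (v i + t * v j) := by
  funext x
  simp [Fr.trv, SpecialLinearGroup.transvection, transvection, add_mulVec, single_mulVec, Function.update_apply]
  split_ifs with h <;> simp [h]

/-- The word of a Weyl element. -/
noncomputable def wel {i j : Fin m} (hij : i ≠ j) (t : F) : SpecialLinearGroup (Fin m) F :=
  Fr.trv hij t * Fr.trv hij.symm (-t⁻¹) * Fr.trv hij t

theorem wel_mulVec {i j : Fin m} (hij : i ≠ j) {t : F} (ht : t ≠ 0) (v : Fin m → F) :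
    (wel hij t).1 *ᵥ v = wv i j t v := by
  simp only [wel, sl_mul_mulVec, trv_mulVec, wv]
  funext x
  rcases eq_or_ne x i with rfl | hi
  · simp [hij, hij.symm]
    field_simp
    ring
  · rcases eq_or_ne x j with rfl | hj
    · simp [hij, hij.symm]
      field_simp
      ring
    · simp [hi, hj]

theorem wel_word_mulVec {i j : Fin m} (hij : i ≠ j) (a : Fˣ) (v : Fin m → F) :
    (wel hij (a : F) * wel hij (-1)).1 *ᵥ v = fun x => ((hmn i j a).1 x : F) * v x := by
  rw [sl_mul_mulVec, wel_mulVec hij a.ne_zero, wel_mulVec hij (neg_ne_zero.2 one_ne_zero)]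
  funext x
  rcases eq_or_ne x i with rfl | hi
  · simp [wv, hmn_val, hij, hij.symm]
  · rcases eq_or_ne x j with rfl | hj
    · simp [wv, hmn_val, hij, hij.symm]
    · simp [wv, hmn_val, hi, hj]

theorem hmn_det (i j : Fin m) (a : Fˣ) : (diagonal fun x => ((hmn i j a).1 x : F)).det = 1 := by
  rw [det_diagonal, ← Units.coe_prod]
  simp [hmn_val, Finset.prod_mul_distrib]

theorem toGL_word {i j : Fin m} (hij : i ≠ j) (a : Fˣ) :
    SpecialLinearGroup.toGL (wel hij (a : F) * wel hij (-1)) = Fr.dgl (hmn i j a).1 :=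
  Units.ext (Matrix.ext_iff_mulVec.2 fun v => by
    show (wel hij (a : F) * wel hij (-1)).1 *ᵥ v = diagonal (fun x => ((hmn i j a).1 x : F)) *ᵥ v
    rw [wel_word_mulVec]
    funext x
    rw [mulVec_diagonal])

theorem tor_hmn_eq {i j : Fin m} (hij : i ≠ j) (a : Fˣ) :
    S.tor (hmn i j a) = S.le (wel hij (a : F) * wel hij (-1)) :=
  Subtype.ext (by
    show S.leI (Fr.dgl (hmn i j a).1) = S.leI (SpecialLinearGroup.toGL _)
    rw [toGL_word hij a])

section PPart

variable [Fintype F]

theorem trv_pow_char {i j : Fin m} (hij : i ≠ j) (t : F) : Fr.trv hij t ^ ringChar F = 1 := by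
  have h : ∀ n : ℕ, Fr.trv hij t ^ n = Fr.trv hij ((n : F) * t) := fun n => by
    induction n with
    | zero => rw [pow_zero, Nat.cast_zero, zero_mul]; exact Subtype.ext (transvection_zero i j).symm
    | succ n ih => rw [pow_succ, ih, ← Fr.trv_add, Nat.cast_succ, add_mul, one_mul]
  rw [h, ringChar.Nat.cast_ringChar, zero_mul]
  exact Subtype.ext (transvection_zero i j)

include S in
theorem eich_pow_char {u a : ι → F} (hu : Q u = 0) (hua : pol Q u a = 0) :
    eich Q u a ^ ringChar F = 1 := by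
  have h : ∀ n : ℕ, eich Q u a ^ n = eich Q u ((n : F) • a) := fun n => by
    induction n with
    | zero => rw [pow_zero, Nat.cast_zero, zero_smul, S.eich_zero hu]
    | succ n ih =>
      rw [pow_succ, ih, ← S.eich_add hu (by rw [psmul_right S.hQ, hua, mul_zero]) hua, Nat.cast_succ, add_smul,
        one_smul]
  rw [h, ringChar.Nat.cast_ringChar, zero_smul, S.eich_zero hu]

/-- A number whose orders divide both `p` and `q - 1` is one. -/
theorem eq_one_of_pows {z : ℂ} (h1 : z ^ ringChar F = 1) (h2 : z ^ (Fintype.card F - 1) = 1) : z = 1 := by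
  obtain ⟨n, hp, hn⟩ := FiniteField.card F (ringChar F)
  have hd : ringChar F ∣ Fintype.card F := by rw [hn]; exact dvd_pow_self _ n.pos.ne'
  have hcop : (ringChar F).Coprime (Fintype.card F - 1) := by
    rw [hp.coprime_iff_not_dvd]
    intro h
    have h1 := Nat.dvd_sub hd h
    rw [Nat.sub_sub_self Fintype.card_pos] at h1
    exact hp.one_lt.ne' (Nat.dvd_one.1 h1)
  have := pow_gcd_eq_one.2 ⟨h1, h2⟩
  rwa [hcop, pow_one] at this

theorem rho_pow_apply {G : Type*} [Group G] {V : Type*} [AddCommGroup V] [Module ℂ V]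
    (ρ : Representation ℂ G V) {w : V} {g : G} {c : ℂ} (h : ρ g w = c • w) (n : ℕ) :
    ρ (g ^ n) w = c ^ n • w := by
  induction n with
  | zero => rw [pow_zero, map_one, pow_zero, one_smul, Module.End.one_apply]
  | succ n ih => rw [pow_succ, map_mul, Module.End.mul_apply, h, map_smul, ih, smul_smul, ← pow_succ']

theorem tor_pow_card (d : ↥(Fr.sqDet F m)) : S.tor d ^ (Fintype.card F - 1) = 1 := by
  rw [← map_pow]
  refine (congrArg S.tor (Subtype.ext (funext fun i => ?_) : d ^ (Fintype.card F - 1) = 1)).trans (map_one _)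
  simp only [SubmonoidClass.coe_pow, Pi.pow_apply, OneMemClass.coe_one, Pi.one_apply]
  exact Units.ext (by simpa using FiniteField.pow_card_sub_one_eq_one _ (d.1 i).ne_zero)

end PPart

end CfsgLib.Classical.OrthMin
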