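/-
The action of the standard elements on the frame, general transvections and conjugation formulas.
-/
import Cfsg.Agent.Lib.Classical.OrthMin.Words

set_option autoImplicit false

namespace CfsgLib.Classical.OrthMin

open Matrix Module Cfsg.Geo CfsgLib.Perm.Trans CfsgLib.Perm.Trans.Quad

variable {ι : Type} [Fintype ι] [DecidableEq ι] {F : Type*} [Field F]
variable {Q : (ι → F) → F} {m : ℕ} (S : Fr Q m)

local notation "pol" => QuadraticMap.polar

/-- A transvection of the special linear group. -/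
def tv (a b : Fin m → F) (h : b ⬝ᵥ a = 0) : SpecialLinearGroup (Fin m) F :=
  ⟨1 + replicateCol Unit a * replicateRow Unit b, by rw [det_one_add_replicateCol_mul_replicateRow, h, add_zero]⟩

theorem tv_mulVec (a b : Fin m → F) (h : b ⬝ᵥ a = 0) (v : Fin m → F) :
    (tv a b h).1 *ᵥ v = v + (b ⬝ᵥ v) • a := by
  funext x
  simp [tv, mulVec, dotProduct, Matrix.add_apply, Matrix.mul_apply, add_mul, Finset.sum_add_distrib, Matrix.one_apply,
    Finset.sum_mul, mul_comm (a x), mul_assoc, mul_left_comm]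

theorem sl_ext {g h : SpecialLinearGroup (Fin m) F} (e : ∀ v, g.1 *ᵥ v = h.1 *ᵥ v) : g = h :=
  Subtype.ext (Matrix.ext_iff_mulVec.2 e)

theorem sl_one_mulVec (v : Fin m → F) : (1 : SpecialLinearGroup (Fin m) F).1 *ᵥ v = v :=
  one_mulVec v

theorem tv_add (a b b' : Fin m → F) (h : b ⬝ᵥ a = 0) (h' : b' ⬝ᵥ a = 0) :
    tv a b h * tv a b' h' = tv a (b + b') (by rw [add_dotProduct, h, h', add_zero]) := sl_ext fun v => by
  rw [sl_mul_mulVec, tv_mulVec, tv_mulVec, tv_mulVec, dotProduct_add, dotProduct_smul, h, smul_zero, add_zero,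
    add_dotProduct, add_smul]
  abel

theorem tv_add_left (a a' b : Fin m → F) (h : b ⬝ᵥ a = 0) (h' : b ⬝ᵥ a' = 0) :
    tv a b h * tv a' b h' = tv (a + a') b (by rw [dotProduct_add, h, h', add_zero]) := sl_ext fun v => by
  rw [sl_mul_mulVec, tv_mulVec, tv_mulVec, tv_mulVec, dotProduct_add, dotProduct_smul, h', smul_zero, add_zero,
    smul_add]
  abel

theorem tv_zero (a : Fin m → F) : tv a 0 (zero_dotProduct a) = 1 := sl_ext fun v => by
  rw [tv_mulVec, zero_dotProduct, zero_smul, add_zero, sl_one_mulVec]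

theorem tv_smul (a b : Fin m → F) (c : F) (h : b ⬝ᵥ a = 0) :
    tv (c • a) b (by rw [dotProduct_smul, h, smul_zero]) = tv a (c • b) (by rw [smul_dotProduct, h, smul_zero]) :=
  sl_ext fun v => by rw [tv_mulVec, tv_mulVec, smul_dotProduct, smul_smul, smul_eq_mul, mul_comm]

theorem sl_inv_mulVec (g : SpecialLinearGroup (Fin m) F) (v : Fin m → F) : (g⁻¹).1 *ᵥ (g.1 *ᵥ v) = v := by
  rw [← sl_mul_mulVec, inv_mul_cancel, sl_one_mulVec]

theorem sl_mulVec_inv (g : SpecialLinearGroup (Fin m) F) (v : Fin m → F) : g.1 *ᵥ ((g⁻¹).1 *ᵥ v) = v := by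
  rw [← sl_mul_mulVec, mul_inv_cancel, sl_one_mulVec]

theorem vecMul_inv_dot (g : SpecialLinearGroup (Fin m) F) {a b : Fin m → F} (h : b ⬝ᵥ a = 0) :
    (b ᵥ* (g⁻¹).1) ⬝ᵥ (g.1 *ᵥ a) = 0 := by
  rw [← dotProduct_mulVec, sl_inv_mulVec, h]

theorem mul_tv (g : SpecialLinearGroup (Fin m) F) (a b : Fin m → F) (h : b ⬝ᵥ a = 0) :
    g * tv a b h = tv (g.1 *ᵥ a) (b ᵥ* (g⁻¹).1) (vecMul_inv_dot g h) * g := sl_ext fun v => by
  rw [sl_mul_mulVec, sl_mul_mulVec, tv_mulVec, tv_mulVec, mulVec_add, mulVec_smul, ← dotProduct_mulVec, sl_inv_mulVec]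

theorem single_dot_single {i j : Fin m} (hij : i ≠ j) (s t : F) :
    (Pi.single j t : Fin m → F) ⬝ᵥ Pi.single i s = 0 := by
  rw [single_dotProduct, Pi.single_eq_of_ne hij.symm, mul_zero]

theorem trv_eq_tv {i j : Fin m} (hij : i ≠ j) (t : F) :
    Fr.trv hij t = tv (Pi.single i 1) (Pi.single j t) (single_dot_single hij 1 t) := sl_ext fun v => by
  rw [trv_mulVec, tv_mulVec, single_dotProduct]
  funext x
  rcases eq_or_ne x i with rfl | hx
  · simp
  · simp [hx]

namespace Fr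

theorem vec_e (i : Fin m) : S.e i = S.vec (Pi.single i 1) 0 0 := by simp [vec, Pi.single_apply]

theorem vec_f (i : Fin m) : S.f i = S.vec 0 (Pi.single i 1) 0 := by simp [vec, Pi.single_apply]

theorem vec_K (k : ι → F) : k = S.vec 0 0 k := by simp [vec]

theorem act_tor_e (d : ↥(sqDet F m)) (i : Fin m) : act (S.tor d) (S.e i) = (d.1 i : F) • S.e i := by
  rw [vec_e, tor_vec S S.K.zero_mem]
  simp [vec, Pi.single_apply]

theorem act_tor_f (d : ↥(sqDet F m)) (i : Fin m) : act (S.tor d) (S.f i) = (((d.1 i)⁻¹ : Fˣ) : F) • S.f i := by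
  rw [vec_f, tor_vec S S.K.zero_mem]
  simp [vec, Pi.single_apply]

theorem act_tor_K (d : ↥(sqDet F m)) {k : ι → F} (hk : k ∈ S.K) : act (S.tor d) k = k := by
  conv_lhs => rw [S.vec_K k]
  rw [tor_vec S hk]
  simp [vec]

theorem act_sw_e {i j : Fin m} (hij : i ≠ j) (x : Fin m) :
    act (S.sw hij) (S.e x) = if x = i ∨ x = j then S.f x else S.e x := by
  rw [vec_e, sw_vec S S.K.zero_mem]
  split_ifs with h
  · rw [vec_f S x]
    congr 1 <;> funext y <;> rcases eq_or_ne y x with rfl | hy <;> simp [*]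
  · congr 1 <;> funext y <;> rcases eq_or_ne y x with rfl | hy <;> simp [*]

theorem act_sw_f {i j : Fin m} (hij : i ≠ j) (x : Fin m) :
    act (S.sw hij) (S.f x) = if x = i ∨ x = j then S.e x else S.f x := by
  rw [vec_f, sw_vec S S.K.zero_mem]
  split_ifs with h
  · rw [vec_e S x]
    congr 1 <;> funext y <;> rcases eq_or_ne y x with rfl | hy <;> simp [*]
  · congr 1 <;> funext y <;> rcases eq_or_ne y x with rfl | hy <;> simp [*]

theorem act_sw_K {i j : Fin m} (hij : i ≠ j) {k : ι → F} (hk : k ∈ S.K) : act (S.sw hij) k = k := by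
  conv_lhs => rw [S.vec_K k]
  rw [sw_vec S hk]
  simp [vec]

theorem sw_inv {i j : Fin m} (hij : i ≠ j) : (S.sw hij)⁻¹ = S.sw hij :=
  inv_eq_of_mul_eq_one_right (Subtype.ext (S.swI_mul_self {i, j}))

theorem sw_mul_tor {i j : Fin m} (hij : i ≠ j) (d d' : ↥(sqDet F m))
    (h : ∀ x, d'.1 x = if x = i ∨ x = j then (d.1 x)⁻¹ else d.1 x) :
    S.sw hij * S.tor d = S.tor d' * S.sw hij := by
  refine S.vec_ext fun a b k hk => ?_
  rw [act_mul, act_mul, tor_vec S hk, sw_vec S hk, sw_vec S hk, tor_vec S hk]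
  congr 1 <;> funext x <;> simp only [h] <;> split_ifs <;> simp

theorem act_le_f (g : SpecialLinearGroup (Fin m) F) (i : Fin m) :
    act (S.le g) (S.f i) = ∑ j, (g⁻¹).1 i j • S.f j := by
  rw [vec_f, le_vec S S.K.zero_mem]
  simp [vec, mulVec_single, mulVec_zero]

theorem act_le_tv_e (a b : Fin m → F) (h : b ⬝ᵥ a = 0) (i : Fin m) :
    act (S.le (tv a b h)) (S.e i) = S.e i + b i • ∑ l, a l • S.e l := by
  rw [vec_e, le_vec S S.K.zero_mem, tv_mulVec, dotProduct_single, mul_one, mulVec_zero]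
  simp [vec, add_smul, Finset.sum_add_distrib, Finset.smul_sum, smul_smul, Pi.single_apply]

theorem act_le_tv_f (a b : Fin m → F) (h : b ⬝ᵥ a = 0) (i : Fin m) :
    act (S.le (tv a b h)) (S.f i) = S.f i - a i • ∑ l, b l • S.f l := by
  have hinv : (tv a b h)⁻¹ = tv a (-b) (by rw [neg_dotProduct, h, neg_zero]) :=
    inv_eq_of_mul_eq_one_right (by rw [tv_add]; simp only [add_neg_cancel]; exact tv_zero a)
  rw [act_le_f, hinv]
  simp [tv, Matrix.mul_apply, Matrix.one_apply, add_smul, Finset.sum_add_distrib, Finset.smul_sum, smul_smul,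
    sub_eq_add_neg]

theorem act_trv_e {i j : Fin m} (hij : i ≠ j) (t : F) (x : Fin m) :
    act (S.le (trv hij t)) (S.e x) = if x = j then S.e j + t • S.e i else S.e x := by
  rw [trv_eq_tv, act_le_tv_e]
  split_ifs with h
  · subst h; simp [Pi.single_apply]
  · simp [h]

theorem act_trv_f {i j : Fin m} (hij : i ≠ j) (t : F) (x : Fin m) :
    act (S.le (trv hij t)) (S.f x) = if x = i then S.f i - t • S.f j else S.f x := by
  rw [trv_eq_tv, act_le_tv_f]
  split_ifs with h
  · subst h; simp [Pi.single_apply]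
  · simp [h]

theorem tor_mul_le_tv (d : ↥(sqDet F m)) (a b : Fin m → F) (h : b ⬝ᵥ a = 0) :
    S.tor d * S.le (tv a b h) =
      S.le (tv (fun x => (d.1 x : F) * a x) (fun x => (((d.1 x)⁻¹ : Fˣ) : F) * b x) (by
        rw [← h]
        exact Finset.sum_congr rfl fun x _ => by
          linear_combination (b x * a x) * Units.inv_mul (d.1 x))) * S.tor d := by
  refine Subtype.ext ?_
  show S.leI (dgl d.1) * S.leI (SpecialLinearGroup.toGL _) = S.leI (SpecialLinearGroup.toGL _) * S.leI (dgl d.1)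
  rw [← map_mul, ← map_mul]
  congr 1
  refine Units.ext (Matrix.ext_iff_mulVec.2 fun v => ?_)
  rw [Units.val_mul, Units.val_mul, ← mulVec_mulVec, ← mulVec_mulVec]
  simp only [SpecialLinearGroup.toGL, dgl, MonoidHom.coe_mk, OneHom.coe_mk, tv_mulVec]
  funext x
  simp only [mulVec_diagonal, Pi.add_apply, Pi.smul_apply, smul_eq_mul]
  have e : (fun x => (((d.1 x)⁻¹ : Fˣ) : F) * b x) ⬝ᵥ (fun x => (d.1 x : F) * v x) = b ⬝ᵥ v :=
    Finset.sum_congr rfl fun x _ => by linear_combination (b x * v x) * Units.inv_mul (d.1 x)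
  have e' : diagonal (fun i => (d.1 i : F)) *ᵥ v = fun x => (d.1 x : F) * v x :=
    funext fun x => mulVec_diagonal _ _ _
  rw [e', e]
  ring

theorem act_zel_e [Fintype F] (M : Matrix (Fin m) (Fin m) F) (i : Fin m) : act (S.zel M) (S.e i) = S.e i := by
  rw [vec_e, zel_vec S S.K.zero_mem, mulVec_zero, add_zero]

theorem act_zel_f [Fintype F] (M : Matrix (Fin m) (Fin m) F) (i : Fin m) :
    act (S.zel M) (S.f i) = S.f i + ∑ l, (M i l - M l i) • S.e l := by
  rw [vec_f, zel_vec S S.K.zero_mem]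
  simp [vec, zMat, Pi.single_apply, mulVec_single]
  abel

theorem act_zel_K [Fintype F] (M : Matrix (Fin m) (Fin m) F) {k : ι → F} (hk : k ∈ S.K) :
    act (S.zel M) k = k := by
  conv_lhs => rw [S.vec_K k]
  rw [zel_vec S hk]
  simp [vec]

theorem zel_congr [Fintype F] {M N : Matrix (Fin m) (Fin m) F}
    (h : ∀ i j, M i j - M j i = N i j - N j i) : S.zel M = S.zel N := by
  refine S.vec_ext fun a b k hk => ?_
  rw [zel_vec S hk, zel_vec S hk]
  congr 3
  ext i j
  simp [zMat, h j i]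

theorem pol_e_K (i : Fin m) {k : ι → F} (hk : k ∈ S.K) : pol Q (S.e i) k = 0 := by rw [pcomm, hk.1]

theorem pol_f_K (i : Fin m) {k : ι → F} (hk : k ∈ S.K) : pol Q (S.f i) k = 0 := by rw [pcomm, hk.2]

section Eich

variable [Fintype F]

theorem act_eK_e (i : Fin m) {k : ι → F} (hk : k ∈ S.K) (x : Fin m) : act (eich Q (S.e i) k) (S.e x) = S.e x := by
  rw [S.eich_spec (S.qe i) (S.pol_e_K i hk), S.pee, S.pol_e_K x hk]
  simp

theorem act_eK_f (i : Fin m) {k : ι → F} (hk : k ∈ S.K) (x : Fin m) :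
    act (eich Q (S.e i) k) (S.f x) = if x = i then S.f i + k - Q k • S.e i else S.f x := by
  rw [S.eich_spec (S.qe i) (S.pol_e_K i hk), S.pfe, S.pol_f_K x hk]
  split_ifs with h
  · subst h; simp
  · simp

theorem act_eK_K (i : Fin m) {k k' : ι → F} (hk : k ∈ S.K) (hk' : k' ∈ S.K) :
    act (eich Q (S.e i) k) k' = k' - pol Q k' k • S.e i := by
  rw [S.eich_spec (S.qe i) (S.pol_e_K i hk), hk'.1]
  simp

theorem act_fK_f (i : Fin m) {k : ι → F} (hk : k ∈ S.K) (x : Fin m) : act (eich Q (S.f i) k) (S.f x) = S.f x := by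
  rw [S.eich_spec (S.qf i) (S.pol_f_K i hk), S.pff, S.pol_f_K x hk]
  simp

theorem act_fK_e (i : Fin m) {k : ι → F} (hk : k ∈ S.K) (x : Fin m) :
    act (eich Q (S.f i) k) (S.e x) = if x = i then S.e i + k - Q k • S.f i else S.e x := by
  rw [S.eich_spec (S.qf i) (S.pol_f_K i hk), S.pef, S.pol_e_K x hk]
  split_ifs with h
  · subst h; simp
  · simp

include S in
theorem eich_add_left {u u' a : ι → F} (hu : Q u = 0) (hu' : Q u' = 0) (huu : pol Q u u' = 0) (ha : pol Q u a = 0)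
    (ha' : pol Q u' a = 0) :
    eich Q (u + u') a = eich Q u a * eich Q u' a * eich Q u ((-Q a) • u') := by
  have h1 : pol Q u ((-Q a) • u') = 0 := by rw [psmul_right S.hQ, huu, mul_zero]
  refine S.eich_eq (by rw [Quad.qadd S.hQ, hu, hu', huu, add_zero, add_zero])
    (by rw [padd_left S.hQ, ha, ha', add_zero]) fun x => ?_
  rw [act_mul, act_mul, S.eich_spec hu h1, S.eich_spec hu' ha', S.eich_spec hu ha]
  have hau : pol Q a u = 0 := by rw [pcomm, ha]
  have hau' : pol Q a u' = 0 := by rw [pcomm, ha']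
  have hu'u : pol Q u' u = 0 := by rw [pcomm, huu]
  simp only [padd_left S.hQ, padd_right S.hQ, psub_left S.hQ, psmul_left S.hQ, psmul_right S.hQ, pself S.hQ,
    Quad.qsmul S.hQ, hu, hu', huu, ha, ha', hau, hau', hu'u]
  match_scalars <;> ring

theorem eK_comm_zel (i : Fin m) {k : ι → F} (hk : k ∈ S.K) (M : Matrix (Fin m) (Fin m) F) :
    eich Q (S.e i) k * S.zel M = S.zel M * eich Q (S.e i) k := by
  have h := S.eich_conj (S.qe i) (S.pol_e_K i hk) (S.zel M)
  have e1 := S.act_zel_e M i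
  have e2 := S.act_zel_K M hk
  generalize S.zel M = g at h e1 e2 ⊢
  rw [e1, e2] at h
  generalize eich Q (S.e i) k = E at h ⊢
  exact (mul_inv_eq_iff_eq_mul.1 h).symm

include S in
/-- Conjugation by any isometry. -/
theorem eich_conj_iso {u a : ι → F} (hu : Q u = 0) (hua : pol Q u a = 0) (g : ↥(Cfsg.isometryGroup F Q)) :
    g * (eich Q u a).1 * g⁻¹ = (eich Q (iact g u) (iact g a)).1 := by
  have key := S.eich_spec hu hua
  generalize eich Q u a = E at key ⊢
  have hN : (Cfsg.Omega F Q).Normal := inferInstance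
  have hmem : g * E.1 * g⁻¹ ∈ Cfsg.Omega F Q := hN.conj_mem E.1 E.2 g
  have hu' : Q (iact g u) = 0 := by rw [iact, mem_iso.1 g.2, hu]
  have hua' : pol Q (iact g u) (iact g a) = 0 := by rw [iact, iact, iso_pol g.2, hua]
  have h2 := S.eich_eq (g := ⟨g * E.1 * g⁻¹, hmem⟩) hu' hua' fun x => by
    obtain ⟨y, rfl⟩ : ∃ y, x = iact g y := ⟨iact g⁻¹ x, by rw [← iact_mul, mul_inv_cancel, iact_one]⟩
    have k := key y
    simp only [act] at k ⊢
    rw [iact_mul, iact_mul, ← iact_mul g⁻¹, inv_mul_cancel, iact_one, k]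
    simp only [iact, iso_pol g.2, mem_iso.1 g.2, mulVec_add, mulVec_sub, mulVec_smul]
  rw [h2]

end Eich

end Fr

end CfsgLib.Classical.OrthMin
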