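/-
The two kinds of complements, and the torus of a short root as a product of root elements.
-/
import Cfsg.Agent.Lib.Classical.OrthMin.Basics

set_option autoImplicit false

namespace CfsgLib.Classical.OrthMin

open Matrix Module Cfsg.Geo CfsgLib.Perm.Trans CfsgLib.Perm.Trans.Quad

variable {ι : Type} [Fintype ι] [DecidableEq ι] {F : Type*} [Field F] [Fintype F]
variable {Q : (ι → F) → F} {m : ℕ} (S : Fr Q m)

local notation "pol" => QuadraticMap.polar

namespace Fr

/-- The complement is a line. -/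
structure IsOdd (z : ι → F) : Prop where
  mem : z ∈ S.K
  qne : Q z ≠ 0
  span : ∀ k ∈ S.K, ∃ σ : F, k = σ • z

/-- The complement vanishes, and there are at least four pairs. -/
structure IsPlus : Prop where
  bot : ∀ k ∈ S.K, k = 0
  four : 4 ≤ m

/-- One of the two kinds. -/
def Kind : Prop := S.IsPlus ∨ ∃ z, S.IsOdd z

variable {S}

omit [Fintype F] in
theorem IsOdd.two_ne {z : ι → F} (hz : S.IsOdd z) : (2 : F) ≠ 0 := fun h2 => by
  have hz0 : z ≠ 0 := fun e => hz.qne (by rw [e]; exact qzero S.hQ)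
  obtain ⟨x, hx⟩ := (S.hQ.nondegenerate z hz0).2
  obtain ⟨σ, hσ⟩ := hz.span _ (S.kp_mem x)
  refine hx ?_
  rw [pcomm, ← S.mk_coords x, hσ, pol_mk_left, psmul_left S.hQ, pself S.hQ, h2]
  simp [pcomm _ z, hz.mem.1, hz.mem.2]

variable (S)

theorem eich_f_eq_sw {k l : Fin m} (hkl : k ≠ l) {v : ι → F} (hv : v ∈ S.K) :
    eich Q (S.f k) v = S.sw hkl * eich Q (S.e k) v * S.sw hkl := by
  have h := S.eich_conj (S.qe k) (S.pol_e_K k hv) (S.sw hkl)
  rw [S.sw_inv hkl] at h
  have e1 := S.act_sw_e hkl k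
  rw [if_pos (Or.inl rfl)] at e1
  have e2 := S.act_sw_K hkl hv
  generalize S.sw hkl = w at h e1 e2 ⊢
  rw [e1, e2] at h
  exact h.symm

theorem eich_fK_coords (i : Fin m) {k k' : ι → F} (hk : k ∈ S.K) (hk' : k' ∈ S.K) (a b : Fin m → F) :
    act (eich Q (S.f i) k') (S.vec a b k) =
      S.vec a (b - Pi.single i (pol Q k k' + Q k' * a i)) (k + a i • k') := by
  obtain ⟨l, hli, -⟩ := S.exists_ne_two i i
  rw [S.eich_f_eq_sw hli.symm hk', act_mul, act_mul, sw_vec S hk, S.eich_ek_coords i hk hk',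
    sw_vec S (S.K.add_mem hk (S.K.smul_mem _ hk'))]
  simp only [true_or, if_true]
  congr 1 <;> funext x <;> rcases eq_or_ne x i with rfl | hxi
  · simp
  · rcases eq_or_ne x l with rfl | hxl <;> simp [*]
  · simp
  · rcases eq_or_ne x l with rfl | hxl <;> simp [*]

/-- The short Weyl word. -/
noncomputable def shortW (z : ι → F) (i : Fin m) (t : F) : ↥(Cfsg.Omega F Q) :=
  eich Q (S.e i) (t • z) * eich Q (S.f i) ((Q z * t)⁻¹ • z) * eich Q (S.e i) (t • z)

theorem act_shortW {z : ι → F} (hz : S.IsOdd z) (i : Fin m) {t : F} (ht : t ≠ 0) (a b : Fin m → F) (σ : F) :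
    act (S.shortW z i t) (S.vec a b (σ • z)) =
      S.vec (Function.update a i (-(Q z * t ^ 2) * b i)) (Function.update b i (-(Q z * t ^ 2)⁻¹ * a i))
        ((-σ) • z) := by
  have hq := hz.qne
  have hzm : ∀ s : F, s • z ∈ S.K := fun s => S.K.smul_mem s hz.mem
  rw [shortW, act_mul, act_mul, S.eich_ek_coords i (hzm σ) (hzm t)]
  simp only [smul_smul, ← add_smul]
  rw [S.eich_fK_coords i (hzm _) (hzm _)]
  simp only [smul_smul, ← add_smul]
  rw [S.eich_ek_coords i (hzm _) (hzm _)]
  simp only [smul_smul, ← add_smul]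
  simp only [psmul_left S.hQ, psmul_right S.hQ, pself S.hQ, Quad.qsmul S.hQ, Pi.sub_apply, Pi.single_eq_same]
  congr 1
  · funext x
    rcases eq_or_ne x i with rfl | hx
    · simp only [Pi.sub_apply, Pi.single_eq_same, Function.update_self]
      field_simp
      ring
    · simp [hx]
  · funext x
    rcases eq_or_ne x i with rfl | hx
    · simp only [Pi.sub_apply, Pi.single_eq_same, Function.update_self]
      field_simp
      ring
    · simp [hx]
  · congr 1
    field_simp
    ring

theorem tor_dsq_eq_word {z : ι → F} (hz : S.IsOdd z) (i : Fin m) (a : Fˣ) :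
    S.tor (dsq i a) = S.shortW z i (a : F) * S.shortW z i 1 := by
  refine S.vec_ext fun x y k hk => ?_
  obtain ⟨σ, rfl⟩ := hz.span k hk
  have hq := hz.qne
  rw [act_mul, S.act_shortW hz i one_ne_zero, S.act_shortW hz i a.ne_zero, tor_vec S (S.K.smul_mem σ hz.mem),
    neg_neg]
  congr 1 <;> funext l <;> rcases eq_or_ne l i with rfl | hl
  · simp [dsq_val]; field_simp
  · simp [dsq_val, hl]
  · simp [dsq_val]; field_simp
  · simp [dsq_val, hl]

end Fr

end CfsgLib.Classical.OrthMin
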