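/-
The two axis lines of a pair of positions: the elements living away from the pair fix them.
-/
import Cfsg.Agent.Lib.Classical.OrthMin.Short

set_option autoImplicit false

namespace CfsgLib.Classical.OrthMin

open Matrix Module Cfsg.Geo CfsgLib.Perm.Trans CfsgLib.Perm.Trans.Quad

variable {ι : Type} [Fintype ι] [DecidableEq ι] {F : Type*} [Field F] [Fintype F]
variable {Q : (ι → F) → F} {m : ℕ} (S : Fr Q m)
variable {V : Type*} [AddCommGroup V] [Module ℂ V]

local notation "pol" => QuadraticMap.polar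

namespace Fr

omit [Fintype F] in
theorem e_ne_zero (i : Fin m) : S.e i ≠ 0 := fun h => by
  have := S.pef i i
  rw [h, pzero_left S.hQ, if_pos rfl] at this
  exact zero_ne_one this

omit [Fintype F] in
theorem f_ne_zero (i : Fin m) : S.f i ≠ 0 := fun h => by
  have := S.pef i i
  rw [h, pzero_right S.hQ, if_pos rfl] at this
  exact zero_ne_one this

/-- The standing hypotheses on a representation. -/
structure Small (ρ : Representation ℂ ↥(Cfsg.Omega F Q) V) (ψ : AddChar F ℂ) : Prop where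
  fd : FiniteDimensional ℂ V
  hψ : ψ.IsPrimitive
  hq : 3 < Fintype.card F
  hV : finrank ℂ V < 2 * S.famCard
  hne : ∃ g, ρ g ≠ 1
  hfix : ∀ x : V, (∀ g, ρ g x = x) → x = 0
  hkind : S.Kind

variable {S} {ρ : Representation ℂ ↥(Cfsg.Omega F Q) V} {ψ : AddChar F ℂ} (H : S.Small ρ ψ)
include H

theorem Small.line {I : Fin m} {v : ι → F} (hv : v ∈ S.P I) (hv0 : v ≠ 0) {x y : V} (hx : x ∈ S.Eg ρ ψ I v)
    (hy : y ∈ S.Eg ρ ψ I v) (hx0 : x ≠ 0) : ∃ c : ℂ, y = c • x :=
  haveI := H.fd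
  line_of_finrank_le_one (S.finrank_Eg_le_one ρ H.hψ H.hq H.hV hv hv0) hx hy hx0

theorem Small.exists_e {I J : Fin m} (hIJ : I ≠ J) {c : F} (hc : c ≠ 0) :
    ∃ x ∈ S.Eg ρ ψ I (c • S.e J), x ≠ 0 := by
  haveI := H.fd
  exact Submodule.exists_mem_ne_zero_of_ne_bot fun e => by
    have := S.axis_line ρ H.hψ H.hq H.hV H.hne hIJ hc
    rw [e, finrank_bot] at this
    omega

theorem Small.exists_f {I J : Fin m} (hIJ : I ≠ J) {c : F} (hc : c ≠ 0) :
    ∃ x ∈ S.Eg ρ ψ I (c • S.f J), x ≠ 0 := by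
  obtain ⟨x, hx, hx0⟩ := H.exists_e hIJ hc
  obtain ⟨l, hlI, hlJ⟩ := S.exists_ne_two I J
  refine ⟨ρ (S.sw hlJ.symm) x, ?_, fun e => hx0 (rho_injective ρ (S.sw hlJ.symm) (by rw [e, map_zero]))⟩
  have h := S.Eg_fix ρ ψ (g := S.sw hlJ.symm) (S.sw_fix hlJ.symm hIJ hlI.symm) _ hx
  rwa [act_smul, act_sw_e, if_pos (Or.inl rfl)] at h

/-- An additive family scaled by a further element fixes every line it normalises. -/
theorem Small.fix_of_scale {I : Fin m} {v : ι → F} (hv : v ∈ S.P I) (hv0 : v ≠ 0)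
    (x : F → ↥(Cfsg.Omega F Q)) (hx : ∀ s t, x (s + t) = x s * x t)
    (hxf : ∀ t, S.Fix I (x t) ∧ act (x t) v = v)
    {h : ↥(Cfsg.Omega F Q)} (hh : S.Fix I h) (hhv : act h v = v) {lam : F} (hl : lam ≠ 1)
    (hconj : ∀ t, h * x t = x (lam * t) * h) (t : F) {w : V} (hw : w ∈ S.Eg ρ ψ I v) :
    ρ (x t) w = w := by
  rcases eq_or_ne w 0 with rfl | hw0
  · exact map_zero _
  have hex : ∀ s, ∃ c : ℂ, ρ (x s) w = c • w := fun s => by
    have h1 := S.Eg_fix ρ ψ (hxf s).1 v hw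
    rw [(hxf s).2] at h1
    exact H.line hv hv0 hw h1 hw0
  choose χ hχ using hex
  have hinj := smul_left_injective ℂ hw0
  have hmul : ∀ s u, χ (s + u) = χ s * χ u := fun s u => hinj <| by
    show χ (s + u) • w = (χ s * χ u) • w
    rw [← hχ, hx, map_mul, Module.End.mul_apply, hχ u, map_smul, hχ, smul_smul, mul_comm]
  have hne : ∀ s, χ s ≠ 0 := fun s e => hw0 (rho_injective ρ (x s) (by rw [hχ s, e, zero_smul, map_zero]))
  obtain ⟨c, hc⟩ : ∃ c : ℂ, ρ h w = c • w := by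
    have h1 := S.Eg_fix ρ ψ hh v hw
    rw [hhv] at h1
    exact H.line hv hv0 hw h1 hw0
  have hc0 : c ≠ 0 := fun e => hw0 (rho_injective ρ h (by rw [hc, e, zero_smul, map_zero]))
  have hinv : ∀ s, χ (lam * s) = χ s := fun s => by
    have h1 := congrArg (fun g => ρ g w) (hconj s)
    simp only [map_mul, Module.End.mul_apply, hχ, hc, map_smul, smul_smul] at h1
    have h2 := hinj h1
    exact mul_left_cancel₀ hc0 (by linear_combination -h2)
  have key : ∀ s, χ ((lam - 1) * s) = 1 := fun s => by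
    have h1 := hmul s ((lam - 1) * s)
    rw [show s + (lam - 1) * s = lam * s by ring, hinv] at h1
    exact mul_left_cancel₀ (hne s) (by rw [mul_one, ← h1])
  have := key ((lam - 1)⁻¹ * t)
  rw [← mul_assoc, mul_inv_cancel₀ (sub_ne_zero.2 hl), one_mul] at this
  rw [hχ, this, one_smul]

omit H

/-- The element fixes both axis lines of the pair. -/
def AT (S : Fr Q m) (ρ : Representation ℂ ↥(Cfsg.Omega F Q) V) (ψ : AddChar F ℂ) (I J : Fin m)
    (g : ↥(Cfsg.Omega F Q)) : Prop :=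
  ∀ c : F, c ≠ 0 → (∀ x ∈ S.Eg ρ ψ I (c • S.f J), ρ g x = x) ∧ ∀ x ∈ S.Eg ρ ψ I (c • S.e J), ρ g x = x

theorem AT.mul {I J : Fin m} {g h : ↥(Cfsg.Omega F Q)} (hg : AT S ρ ψ I J g) (hh : AT S ρ ψ I J h) :
    AT S ρ ψ I J (g * h) := fun c hc =>
  ⟨fun x hx => by rw [map_mul, Module.End.mul_apply, (hh c hc).1 x hx, (hg c hc).1 x hx],
    fun x hx => by rw [map_mul, Module.End.mul_apply, (hh c hc).2 x hx, (hg c hc).2 x hx]⟩

include H

theorem Small.AT_of_scale {I J : Fin m} (hIJ : I ≠ J) (x : F → ↥(Cfsg.Omega F Q))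
    (hx : ∀ s t, x (s + t) = x s * x t) (hxf : ∀ t, S.Fix I (x t) ∧ S.Fix J (x t))
    {h : ↥(Cfsg.Omega F Q)} (hh : S.Fix I h) (hhJ : S.Fix J h) {lam : F} (hl : lam ≠ 1)
    (hconj : ∀ t, h * x t = x (lam * t) * h) (t : F) : AT S ρ ψ I J (x t) := fun c hc => by
  constructor
  · intro w hw
    refine H.fix_of_scale ((S.P I).smul_mem c (S.f_mem_P hIJ.symm)) ?_ x hx (fun t => ⟨(hxf t).1, ?_⟩) hh ?_ hl
      hconj t hw
    · exact smul_ne_zero hc (S.f_ne_zero J)
    · rw [act_smul, (hxf t).2.2]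
    · rw [act_smul, hhJ.2]
  · intro w hw
    refine H.fix_of_scale ((S.P I).smul_mem c (S.e_mem_P hIJ.symm)) ?_ x hx (fun t => ⟨(hxf t).1, ?_⟩) hh ?_ hl
      hconj t hw
    · exact smul_ne_zero hc (S.e_ne_zero J)
    · rw [act_smul, (hxf t).2.1]
    · rw [act_smul, hhJ.1]

omit H

theorem fix_tor_dsq {I k : Fin m} (h : I ≠ k) (a : Fˣ) : S.Fix I (S.tor (dsq k a)) :=
  S.tor_fix (by simp [dsq_val, h])

variable {I J k l : Fin m} (hIJ : I ≠ J) (hkI : k ≠ I) (hkJ : k ≠ J)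
include H hIJ hkI hkJ

theorem Small.away_eK {v : ι → F} (hv : v ∈ S.K) : AT S ρ ψ I J (eich Q (S.e k) v) := by
  obtain ⟨a, ha⟩ := exists_sq_ne_one (F := F) H.hq
  have e : ∀ t : F, t • v ∈ S.K := fun t => S.K.smul_mem t hv
  have hf : ∀ t x, x ≠ k → act (eich Q (S.e k) (t • v)) (S.f x) = S.f x := fun t x hx =>
    (S.act_eK_f k (e t) x).trans (if_neg hx)
  have hadd : ∀ s t : F, eich Q (S.e k) ((s + t) • v) = eich Q (S.e k) (s • v) * eich Q (S.e k) (t • v) := by
    intro s t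
    have h := S.eich_add (S.qe k) (S.pol_e_K k (e s)) (S.pol_e_K k (e t))
    rw [← add_smul] at h
    exact h
  have h1 := H.AT_of_scale hIJ (fun t => eich Q (S.e k) (t • v))
    hadd
    (fun t => ⟨⟨S.act_eK_e k (e t) I, hf t I hkI.symm⟩, ⟨S.act_eK_e k (e t) J, hf t J hkJ.symm⟩⟩)
    (h := S.tor (dsq k a)) (fix_tor_dsq hkI.symm a) (fix_tor_dsq hkJ.symm a) ha
    (fun t => by
      have h := S.eich_conj (S.qe k) (S.pol_e_K k (e t)) (S.tor (dsq k a))
      have e1 := S.act_tor_e (dsq k a) k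
      have e2 := S.act_tor_K (dsq k a) (e t)
      generalize S.tor (dsq k a) = w at h e1 e2 ⊢
      rw [e1, e2, S.eich_smul_left (S.qe k) (S.pol_e_K k (e t)), smul_smul] at h
      simp only [dsq_val, Pi.mulSingle_eq_same, Units.val_mul] at h
      have h' := mul_inv_eq_iff_eq_mul.1 h
      beta_reduce
      exact h') 1
  beta_reduce at h1
  rw [one_smul] at h1
  exact h1

theorem Small.away_fK {v : ι → F} (hv : v ∈ S.K) : AT S ρ ψ I J (eich Q (S.f k) v) := by
  obtain ⟨a, ha⟩ := exists_sq_ne_one (F := F) H.hq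
  have ha' : ((a⁻¹ : Fˣ) : F) * ((a⁻¹ : Fˣ) : F) ≠ 1 := fun e => ha <| by
    linear_combination (-((a : F) * a)) * e + ((a : F) * ((a⁻¹ : Fˣ) : F) + 1) * a.mul_inv
  have e : ∀ t : F, t • v ∈ S.K := fun t => S.K.smul_mem t hv
  have hf : ∀ t x, x ≠ k → act (eich Q (S.f k) (t • v)) (S.e x) = S.e x := fun t x hx =>
    (S.act_fK_e k (e t) x).trans (if_neg hx)
  have hadd : ∀ s t : F, eich Q (S.f k) ((s + t) • v) = eich Q (S.f k) (s • v) * eich Q (S.f k) (t • v) := by
    intro s t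
    have h := S.eich_add (S.qf k) (S.pol_f_K k (e s)) (S.pol_f_K k (e t))
    rw [← add_smul] at h
    exact h
  have h1 := H.AT_of_scale hIJ (fun t => eich Q (S.f k) (t • v))
    hadd
    (fun t => ⟨⟨hf t I hkI.symm, S.act_fK_f k (e t) I⟩, ⟨hf t J hkJ.symm, S.act_fK_f k (e t) J⟩⟩)
    (h := S.tor (dsq k a)) (fix_tor_dsq hkI.symm a) (fix_tor_dsq hkJ.symm a) ha'
    (fun t => by
      have h := S.eich_conj (S.qf k) (S.pol_f_K k (e t)) (S.tor (dsq k a))
      have e1 := S.act_tor_f (dsq k a) k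
      have e2 := S.act_tor_K (dsq k a) (e t)
      generalize S.tor (dsq k a) = w at h e1 e2 ⊢
      rw [e1, e2, S.eich_smul_left (S.qf k) (S.pol_f_K k (e t)), smul_smul] at h
      simp only [dsq_val, Pi.mulSingle_eq_same, _root_.mul_inv_rev, Units.val_mul] at h
      have h' := mul_inv_eq_iff_eq_mul.1 h
      beta_reduce
      exact h') 1
  beta_reduce at h1
  rw [one_smul] at h1
  exact h1

variable (hlI : l ≠ I) (hlJ : l ≠ J)
include hlI hlJ

theorem Small.away_zel (hkl : k ≠ l) (t : F) : AT S ρ ψ I J (S.zel (single k l t)) := by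
  obtain ⟨a, ha⟩ := exists_sq_ne_one (F := F) H.hq
  have hf : ∀ s x, x ≠ k → x ≠ l → act (S.zel (single k l s)) (S.f x) = S.f x := fun s x hxk hxl => by
    rw [act_zel_f]
    simp [single_apply, hxk.symm, hxl.symm]
  exact H.AT_of_scale hIJ (fun t => S.zel (single k l t))
    (fun s t => by rw [← zel_add, ← single_add])
    (fun t => ⟨⟨S.act_zel_e _ _, hf t I hkI.symm hlI.symm⟩, ⟨S.act_zel_e _ _, hf t J hkJ.symm hlJ.symm⟩⟩)
    (h := S.tor (dsq k a)) (fix_tor_dsq hkI.symm a) (fix_tor_dsq hkJ.symm a) ha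
    (fun t => by
      rw [tor_mul_zel]
      congr 1
      refine congrArg S.zel ?_
      ext i j
      simp only [Matrix.of_apply, single_apply, dsq_val]
      split_ifs with h
      · obtain ⟨rfl, rfl⟩ := h
        simp [hkl.symm]
      · simp) t

theorem Small.away_trv (hkl : k ≠ l) (t : F) : AT S ρ ψ I J (S.le (trv hkl t)) := by
  obtain ⟨a, ha⟩ := exists_sq_ne_one (F := F) H.hq
  have hf : ∀ s x, x ≠ k → x ≠ l → S.Fix x (S.le (trv hkl s)) := fun s x hxk hxl => by
    refine ⟨?_, ?_⟩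
    · rw [act_trv_e, if_neg hxl]
    · rw [act_trv_f, if_neg hxk]
  exact H.AT_of_scale hIJ (fun t => S.le (trv hkl t))
    (fun s t => by rw [trv_add, map_mul])
    (fun t => ⟨hf t I hkI.symm hlI.symm, hf t J hkJ.symm hlJ.symm⟩)
    (h := S.tor (dsq k a)) (fix_tor_dsq hkI.symm a) (fix_tor_dsq hkJ.symm a) ha
    (fun t => by
      rw [trv_eq_tv, tor_mul_le_tv, trv_eq_tv]
      congr 1
      refine congrArg S.le (sl_ext fun v => ?_)
      rw [tv_mulVec, tv_mulVec]
      funext x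
      rcases eq_or_ne x k with rfl | hx
      · simp [dotProduct, Pi.single_apply, dsq_val, hkl.symm]
        ring
      · simp [dsq_val, hx]) t

theorem Small.away_hmn (hkl : k ≠ l) (a : Fˣ) : AT S ρ ψ I J (S.tor (hmn k l a)) := by
  rw [tor_hmn_eq S hkl, map_mul, wel, wel, map_mul, map_mul, map_mul, map_mul]
  exact (((H.away_trv hIJ hkI hkJ hlI hlJ hkl _).mul (H.away_trv hIJ hlI hlJ hkI hkJ hkl.symm _)).mul
    (H.away_trv hIJ hkI hkJ hlI hlJ hkl _)).mul
    (((H.away_trv hIJ hkI hkJ hlI hlJ hkl _).mul (H.away_trv hIJ hlI hlJ hkI hkJ hkl.symm _)).mul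
    (H.away_trv hIJ hkI hkJ hlI hlJ hkl _))

theorem Small.away_hpl (hkl : k ≠ l) (a : Fˣ) : AT S ρ ψ I J (S.tor (hpl k l a)) := fun c hc => by
  have hlJ' : l ≠ J := hlJ
  have hc' := H.away_hmn hIJ hkI hkJ hlI hlJ hkl a c hc
  have hs : S.sw hlJ' * S.tor (hmn k l a) = S.tor (hpl k l a) * S.sw hlJ' := S.sw_mul_tor hlJ' _ _ fun x => by
    rw [hpl_val, hmn_val]
    split_ifs with h
    · rcases h with rfl | rfl
      · simp [hkl.symm]
      · simp [hkJ.symm, hlJ.symm]
    · push Not at h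
      rcases eq_or_ne x k with rfl | hx
      · simp [hkl]
      · simp [hx, h.1]
  have hswI : S.Fix I (S.sw hlJ') := S.sw_fix hlJ' hlI.symm hIJ
  have he : act (S.sw hlJ') (S.e J) = S.f J := by rw [act_sw_e, if_pos (Or.inr rfl)]
  have hf : act (S.sw hlJ') (S.f J) = S.e J := by rw [act_sw_f, if_pos (Or.inr rfl)]
  have hinv : ∀ x, ρ (S.sw hlJ') (ρ (S.sw hlJ') x) = x := fun x => by
    rw [← Module.End.mul_apply, ← map_mul]
    nth_rewrite 2 [← S.sw_inv hlJ']
    rw [mul_inv_cancel, map_one, Module.End.one_apply]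
  constructor
  · intro x hx
    have h1 := S.Eg_fix ρ ψ hswI _ hx
    rw [act_smul, hf] at h1
    have h2 := congrArg (fun g => ρ g (ρ (S.sw hlJ') x)) hs
    simp only [map_mul, Module.End.mul_apply, hc'.2 _ h1, hinv] at h2
    exact h2.symm
  · intro x hx
    have h1 := S.Eg_fix ρ ψ hswI _ hx
    rw [act_smul, he] at h1
    have h2 := congrArg (fun g => ρ g (ρ (S.sw hlJ') x)) hs
    simp only [map_mul, Module.End.mul_apply, hc'.1 _ h1, hinv] at h2
    exact h2.symm

omit hlI hlJ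

theorem Small.away_dsq (a : Fˣ) : AT S ρ ψ I J (S.tor (dsq k a)) := by
  by_cases hex : ∃ l, l ≠ I ∧ l ≠ J ∧ l ≠ k
  · obtain ⟨l, hlI, hlJ, hlk⟩ := hex
    rw [← hmn_mul_hpl k l a, map_mul]
    exact (H.away_hmn hIJ hkI hkJ hlI hlJ hlk.symm a).mul (H.away_hpl hIJ hkI hkJ hlI hlJ hlk.symm a)
  · rcases H.hkind with hp | ⟨z, hz⟩
    · exfalso
      apply hex
      have h4 := hp.four
      by_contra hno
      push Not at hno
      have hsub : (Finset.univ : Finset (Fin m)) ⊆ {I, J, k} := fun x _ => by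
        rcases eq_or_ne x I with e | e
        · simp [e]
        rcases eq_or_ne x J with e' | e'
        · simp [e']
        · simp [hno x e e']
      have h3 := (Finset.card_le_card hsub).trans Finset.card_le_three
      rw [Finset.card_univ, Fintype.card_fin] at h3
      omega
    · rw [S.tor_dsq_eq_word hz, shortW, shortW]
      have hm : ∀ s : F, s • z ∈ S.K := fun s => S.K.smul_mem s hz.mem
      exact (((H.away_eK hIJ hkI hkJ (hm _)).mul (H.away_fK hIJ hkI hkJ (hm _))).mul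
        (H.away_eK hIJ hkI hkJ (hm _))).mul
        (((H.away_eK hIJ hkI hkJ (hm _)).mul (H.away_fK hIJ hkI hkJ (hm _))).mul
        (H.away_eK hIJ hkI hkJ (hm _)))

omit hkI hkJ

/-- The torus away from the pair fixes both lines. -/
theorem Small.away_tor (d : ↥(sqDet F m)) (hI : d.1 I = 1) (hJ : d.1 J = 1) : AT S ρ ψ I J (S.tor d) := by
  classical
  obtain ⟨k, hkI, hkJ⟩ := S.exists_ne_two I J
  suffices key : ∀ s : Finset (Fin m), k ∉ s → I ∉ s → J ∉ s → ∀ d : ↥(sqDet F m),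
      (∀ x, x ≠ k → x ∉ s → d.1 x = 1) → AT S ρ ψ I J (S.tor d) by
    refine key (Finset.univ \ {I, J, k}) (by simp) (by simp) (by simp) d fun x hx hxs => ?_
    simp only [Finset.mem_sdiff, Finset.mem_univ, true_and, Finset.mem_insert, Finset.mem_singleton, not_not] at hxs
    rcases hxs with rfl | rfl | rfl
    exacts [hI, hJ, absurd rfl hx]
  intro s
  induction s using Finset.induction with
  | empty =>
    intro _ _ _ d hd
    obtain ⟨c, hc⟩ := d.2
    have e : d.1 = Pi.mulSingle k (d.1 k) := funext fun x => by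
      rcases eq_or_ne x k with rfl | hx
      · simp
      · simp [hx, hd x hx (Finset.notMem_empty x)]
    have hk' : d.1 k = c * c := by
      rw [← hc]
      conv_rhs => rw [e]
      simp
    have : d = dsq k c := Subtype.ext (by rw [dsq_val, ← hk']; exact e)
    rw [this]
    exact H.away_dsq hIJ hkI hkJ c
  | insert l s hl ih =>
    intro hk hI' hJ' d hd
    simp only [Finset.mem_insert, not_or] at hk hI' hJ'
    have hlk : l ≠ k := Ne.symm hk.1
    have e : d = hmn l k (d.1 l) * ((hmn l k (d.1 l))⁻¹ * d) := (mul_inv_cancel_left _ _).symm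
    rw [e, map_mul]
    refine (H.away_hmn hIJ (Ne.symm hI'.1) (Ne.symm hJ'.1) hkI hkJ hlk _).mul (ih hk.2 hI'.2 hJ'.2 _ fun x hx hxs => ?_)
    rcases eq_or_ne x l with rfl | hxl
    · simp [hmn_val, hx]
    · simp [hmn_val, hxl, hx, hd x hx (by simp [hxl, hxs])]

end Fr

end CfsgLib.Classical.OrthMin
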