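/-
The eigenspace of a character of rank two of the centre of the Siegel radical.
-/
import Cfsg.Agent.Lib.Classical.OrthMin.Axis

set_option autoImplicit false

namespace CfsgLib.Classical.OrthMin

open Matrix Module Cfsg.Geo CfsgLib.Perm.Trans CfsgLib.Perm.Trans.Quad

variable {ι : Type} [Fintype ι] [DecidableEq ι] {F : Type*} [Field F] [Fintype F]
variable {Q : (ι → F) → F} {m : ℕ} (S : Fr Q m)
variable {V : Type*} [AddCommGroup V] [Module ℂ V]
variable (ρ : Representation ℂ ↥(Cfsg.Omega F Q) V) (ψ : AddChar F ℂ)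

local notation "pol" => QuadraticMap.polar

theorem eq_zero_of_psi {ψ : AddChar F ℂ} (hψ : ψ.IsPrimitive) {a : F} (h : ∀ t, ψ (t * a) = 1) : a = 0 := by
  by_contra ha
  exact hψ ha (DFunLike.ext _ _ fun t => by rw [AddChar.mulShift_apply, mul_comm, h, AddChar.one_apply])

noncomputable instance : Fintype (Matrix (Fin m) (Fin m) F) := Fintype.ofFinite _

/-- The character of the space of matrices given by a matrix. -/
noncomputable def chiM (ψ : AddChar F ℂ) (B : Matrix (Fin m) (Fin m) F) : AddChar (Matrix (Fin m) (Fin m) F) ℂ :=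
  ψ.compAddMonoidHom
    { toFun := fun M => ∑ i, ∑ j, B i j * M i j
      map_zero' := by simp
      map_add' := fun M N => by simp [mul_add, Finset.sum_add_distrib] }

theorem chiM_apply (B M : Matrix (Fin m) (Fin m) F) : chiM ψ B M = ψ (∑ i, ∑ j, B i j * M i j) := rfl

theorem chiM_injective {ψ : AddChar F ℂ} (hψ : ψ.IsPrimitive) :
    Function.Injective (chiM (m := m) ψ) := fun B B' h => by
  ext i j
  refine sub_eq_zero.1 (eq_zero_of_psi hψ fun t => ?_)
  have h1 := congrArg (fun φ : AddChar (Matrix (Fin m) (Fin m) F) ℂ => φ (single i j t)) h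
  simp only [chiM_apply, single_apply, ite_and, mul_ite, mul_zero, Finset.sum_ite_eq, Finset.mem_univ,
    if_true] at h1
  rw [mul_sub, mul_comm t, mul_comm t, AddChar.map_sub_eq_div]
  simp only [Finset.sum_ite_irrel, Finset.sum_const_zero, Finset.sum_ite_eq, Finset.mem_univ, if_true] at h1
  rw [h1, div_self (AddChar.val_isUnit ψ _).ne_zero]

/-- The standard alternating matrix of rank two. -/
def base2 (I J : Fin m) (c : F) : Matrix (Fin m) (Fin m) F := single I J c - single J I c

theorem chiM_base2 (I J : Fin m) (c : F) (M : Matrix (Fin m) (Fin m) F) :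
    chiM ψ (base2 I J c) M = ψ (c * (M I J - M J I)) := by
  rw [chiM_apply]
  congr 1
  simp [base2, sub_mul, Finset.sum_sub_distrib, single_apply, ite_and, ite_mul, Finset.sum_ite_irrel, mul_sub]

/-- The matrix with one row. -/
def rowM (J : Fin m) (u : Fin m → F) : Matrix (Fin m) (Fin m) F := Matrix.of fun i j => if i = J then u j else 0

theorem rowM_add (J : Fin m) (u u' : Fin m → F) : rowM J (u + u') = rowM J u + rowM J u' := by
  ext i j; by_cases h : i = J <;> simp [rowM, h]

namespace Fr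

omit [Fintype F] in
theorem kp_eq_zero {v : ι → F} (h : ∀ k ∈ S.K, pol Q k v = 0) : S.kp v = 0 := by
  by_contra h0
  obtain ⟨x, hx⟩ := (S.hQ.nondegenerate _ h0).2
  refine hx ?_
  have hk := S.kp_mem v
  rw [pcomm]
  rw [← S.mk_coords x, pol_mk_left]
  have h1 : pol Q (S.kp x) (S.kp v) = 0 := by
    have h2 := h _ (S.kp_mem x)
    rw [pcomm, ← S.mk_coords v, pol_mk_left] at h2
    simp only [S.pol_e_K _ (S.kp_mem x), S.pol_f_K _ (S.kp_mem x), mul_zero, Finset.sum_const_zero, zero_add] at h2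
    rw [pcomm]; exact h2
  simp [S.pol_e_K _ hk, S.pol_f_K _ hk, h1]

/-- The centre of the Siegel radical acting on the module. -/
noncomputable def Zact : Act (Matrix (Fin m) (Fin m) F) V where
  τ M := ρ (S.zel M)
  zero := by rw [zel_zero, map_one]
  add a b := by rw [zel_add, map_mul]

/-- The eigenspace of the standard character of rank two. -/
noncomputable def E0 (I J : Fin m) (c : F) : Submodule ℂ V := (S.Zact ρ).eig (chiM ψ (base2 I J c))

theorem mem_E0 {I J : Fin m} {c : F} {x : V} :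
    x ∈ S.E0 ρ ψ I J c ↔ ∀ M, ρ (S.zel M) x = ψ (c * (M I J - M J I)) • x := by
  constructor
  · intro h M
    rw [← chiM_base2]
    exact h M
  · intro h M
    rw [chiM_base2]
    exact h M

theorem proj_move {I : Fin m} {g : ↥(Cfsg.Omega F Q)} (hg : S.Fix I g) (v : ι → F) (x : V) :
    ρ g ((S.R ρ I).proj (S.chi ψ I v) x) = (S.R ρ I).proj (S.chi ψ I (act g v)) (ρ g x) := by
  let f : ↥(S.P I) → ↥(S.P I) := fun a => ⟨act g a.1, Fix.mem_P S hg a.2⟩
  have hf : Function.Bijective f := (Finite.injective_iff_bijective).1 fun a b e => Subtype.ext <| by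
    have h := congrArg (fun y : ↥(S.P I) => act g⁻¹ y.1) e
    simpa only [f, act_inv_act] using h
  have h := (S.R ρ I).proj_conj (g := ρ g) (χ := S.chi ψ I v) (χ' := S.chi ψ I (act g v)) hf (fun a => by
    show ρ g * ρ (S.rp I a) = ρ (S.rp I (f a)) * ρ g
    rw [← map_mul, ← map_mul]
    congr 1
    have h1 := S.eich_conj (S.qe I) (S.pol_e_P a.2) g
    rw [hg.1] at h1
    exact mul_inv_eq_iff_eq_mul.1 h1) fun a => by
      rw [chi_apply, chi_apply]
      show ψ (pol Q (act g a.1) (act g v)) = _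
      rw [pol_act g]
  exact congrArg (fun T : Module.End ℂ V => T x) h

theorem act_zel_rowM_fJ (J : Fin m) (u : Fin m → F) (hu : u J = 0) :
    act (S.zel (rowM J u)) (S.f J) = S.f J + ∑ l, u l • S.e l := by
  rw [act_zel_f]
  congr 1
  refine Finset.sum_congr rfl fun l _ => ?_
  rcases eq_or_ne l J with rfl | hl
  · simp [rowM, hu]
  · simp [rowM, hl]

theorem fix_zel_rowM {I J : Fin m} (hIJ : I ≠ J) (u : Fin m → F) (hu : u I = 0) :
    S.Fix I (S.zel (rowM J u)) := by
  refine ⟨S.act_zel_e _ _, ?_⟩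
  rw [act_zel_f]
  simp [rowM, hIJ, hu]

variable {S ρ ψ} (H : S.Small ρ ψ)
include H

theorem Small.L0_eq_zero {I J : Fin m} (hIJ : I ≠ J) {c : F} (hc : c ≠ 0) {x : V}
    (hx : x ∈ S.E0 ρ ψ I J c) (hxK : ∀ k ∈ S.K, ρ (eich Q (S.e I) k) x = x)
    (h0 : (S.R ρ I).proj (S.chi ψ I (c • S.f J)) x = 0) : x = 0 := by
  haveI := H.fd
  rw [← (S.R ρ I).sum_proj_apply x]
  refine Finset.sum_eq_zero fun χ _ => ?_
  obtain ⟨⟨v, hv⟩, rfl⟩ := S.chi_surj H.hψ I χ
  set p := (S.R ρ I).proj (S.chi ψ I v) x with hp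
  by_contra hp0
  have hpE : p ∈ S.Eg ρ ψ I v := (S.R ρ I).proj_mem _ x
  have hQv : Q v = 0 := S.singular_of_Eg ρ H.hψ H.hq H.hV hv
    (fun e => hp0 (by rwa [e, Submodule.mem_bot] at hpE))
  -- scalars on `x` pass to the component
  have hscal : ∀ a ∈ S.P I, ∀ s : ℂ, ρ (eich Q (S.e I) a) x = s • x → ψ (pol Q a v) = s := by
    intro a ha s hs
    have h1 := congrArg (fun T : Module.End ℂ V => T x)
      ((S.R ρ I).proj_comm (g := (S.R ρ I).τ ⟨a, ha⟩) (fun b => by rw [← (S.R ρ I).add, ← (S.R ρ I).add, add_comm])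
        (S.chi ψ I v))
    simp only [Module.End.mul_apply] at h1
    rw [show (S.R ρ I).τ ⟨a, ha⟩ x = s • x from hs, map_smul, ← hp] at h1
    have h2 := (S.mem_Eg ρ ψ).1 hpE a ha
    exact smul_left_injective ℂ hp0 (h2.symm.trans h1)
  have hzel : ∀ l t, ρ (eich Q (S.e I) (t • S.e l)) x = ψ (c * ((single I l t : Matrix (Fin m) (Fin m) F) I J -
      (single I l t : Matrix (Fin m) (Fin m) F) J I)) • x := fun l t => by
    rw [← zel_single]; exact (S.mem_E0 ρ ψ).1 hx _
  have hbeJ : S.be v J = c := by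
    refine sub_eq_zero.1 (eq_zero_of_psi H.hψ fun t => ?_)
    have h := hscal _ ((S.P I).smul_mem t (S.e_mem_P hIJ.symm)) _ (hzel J t)
    rw [psmul_left S.hQ, pcomm _ v, ← be_apply] at h
    simp only [single_apply, and_self, if_true, hIJ, and_false, false_and, if_false, sub_zero] at h
    rw [mul_sub, AddChar.map_sub_eq_div, h, mul_comm t c, div_self (AddChar.val_isUnit ψ _).ne_zero]
  have hbe : ∀ l, l ≠ J → S.be v l = 0 := fun l hl => by
    rcases eq_or_ne l I with rfl | hlI
    · exact hv.1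
    refine eq_zero_of_psi H.hψ fun t => ?_
    have h := hscal _ ((S.P I).smul_mem t (S.e_mem_P hlI)) _ (hzel l t)
    rw [psmul_left S.hQ, pcomm _ v, ← be_apply] at h
    rw [h]
    simp [hl, hlI, hIJ]
  have hkp : S.kp v = 0 := S.kp_eq_zero fun k hk => eq_zero_of_psi H.hψ fun t => by
    have h := hscal _ (S.K_le_P I (S.K.smul_mem t hk)) 1 (by rw [one_smul]; exact hxK _ (S.K.smul_mem t hk))
    rwa [psmul_left S.hQ] at h
  have hbev : S.be v = Pi.single J c := funext fun l => by
    rcases eq_or_ne l J with rfl | hl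
    · rw [hbeJ, Pi.single_eq_same]
    · rw [hbe l hl, Pi.single_eq_of_ne hl]
  have halJ : S.al v J = 0 := by
    rw [S.q_coords, hkp, qzero S.hQ, add_zero, hbev, dotProduct_single] at hQv
    exact (mul_eq_zero.1 hQv).resolve_right hc
  set u : Fin m → F := fun l => c⁻¹ * S.al v l with hu
  have huI : u I = 0 := by rw [hu]; show c⁻¹ * pol Q v (S.f I) = 0; rw [hv.2, mul_zero]
  have huJ : u J = 0 := by simp [hu, halJ]
  have hv' : v = act (S.zel (rowM J u)) (c • S.f J) := by
    rw [act_smul, S.act_zel_rowM_fJ J u huJ, ← S.mk_coords v, hkp, hbev]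
    simp [vec, hu, Finset.smul_sum, smul_smul, mul_inv_cancel_left₀ hc, Pi.single_apply]
    abel
  have hgx : ρ (S.zel (rowM J u)) x = x := by
    rw [(S.mem_E0 ρ ψ).1 hx]
    simp [rowM, hIJ, huI]
  have := S.proj_move ρ ψ (S.fix_zel_rowM hIJ u huI) (c • S.f J) x
  rw [h0, map_zero, hgx, ← hv'] at this
  exact hp0 this.symm

theorem Small.L0_line {I J : Fin m} (hIJ : I ≠ J) {c : F} (hc : c ≠ 0) {x y : V}
    (hx : x ∈ S.E0 ρ ψ I J c) (hxK : ∀ k ∈ S.K, ρ (eich Q (S.e I) k) x = x)
    (hy : y ∈ S.E0 ρ ψ I J c) (hyK : ∀ k ∈ S.K, ρ (eich Q (S.e I) k) y = y) (hx0 : x ≠ 0) :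
    ∃ a : ℂ, y = a • x := by
  set P := (S.R ρ I).proj (S.chi ψ I (c • S.f J))
  have hP : P x ≠ 0 := fun e => hx0 (H.L0_eq_zero hIJ hc hx hxK e)
  obtain ⟨a, ha⟩ := H.line (I := I) ((S.P I).smul_mem c (S.f_mem_P hIJ.symm)) (smul_ne_zero hc (S.f_ne_zero J))
    ((S.R ρ I).proj_mem _ x) ((S.R ρ I).proj_mem _ y) hP
  refine ⟨a, sub_eq_zero.1 (H.L0_eq_zero hIJ hc (Submodule.sub_mem _ hy (Submodule.smul_mem _ a hx)) (fun k hk => ?_) ?_)⟩
  · rw [map_sub, map_smul, hxK k hk, hyK k hk]
  · rw [map_sub, map_smul, ha, sub_self]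

omit H

variable (S ρ) in
/-- The average over a row of the Siegel radical. -/
noncomputable def ell (I J : Fin m) (w : V) : V :=
  ∑ u : {l : Fin m // l ≠ I ∧ l ≠ J} → F,
    ρ (S.zel (rowM J fun l => if h : l ≠ I ∧ l ≠ J then u ⟨l, h⟩ else 0)) w

include H

theorem Small.ell_mem {I J : Fin m} (hIJ : I ≠ J) {c : F} (hc : c ≠ 0) {w : V}
    (hw : w ∈ S.Eg ρ ψ I (c • S.f J)) :
    S.ell ρ I J w ∈ S.E0 ρ ψ I J c ∧ ∀ k ∈ S.K, ρ (eich Q (S.e I) k) (S.ell ρ I J w) = S.ell ρ I J w := by
  classical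
  have hcomm : ∀ M u, ρ (S.zel M) (ρ (S.zel (rowM J u)) w) = ρ (S.zel (rowM J u)) (ρ (S.zel M) w) := fun M u => by
    rw [← Module.End.mul_apply, ← Module.End.mul_apply, ← map_mul, ← map_mul, ← zel_add, ← zel_add, add_comm]
  have hI : ∀ a ∈ S.P I, ρ (eich Q (S.e I) a) w = ψ (pol Q a (c • S.f J)) • w := (S.mem_Eg ρ ψ).1 hw
  constructor
  · rw [mem_E0]
    intro M
    induction M using Matrix.induction_on' with
    | h_zero => simp [zel_zero]
    | h_add M N hM hN =>
      rw [zel_add, map_mul, Module.End.mul_apply, hN, map_smul, hM, smul_smul, ← AddChar.map_add_eq_mul]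
      congr 2
      simp only [Matrix.add_apply]
      ring
    | h_std_basis i j t =>
      -- the scalar cases
      have scal : ∀ s : ℂ, ρ (S.zel (single i j t)) w = s • w →
          ρ (S.zel (single i j t)) (S.ell ρ I J w) = s • S.ell ρ I J w := fun s hs => by
        rw [ell, map_sum, Finset.smul_sum]
        exact Finset.sum_congr rfl fun u _ => by rw [hcomm, hs, map_smul]
      -- the absorbed cases
      have absorb : ∀ v₀ : Fin m → F, v₀ I = 0 → v₀ J = 0 → S.zel (single i j t) = S.zel (rowM J v₀) →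
          ρ (S.zel (single i j t)) (S.ell ρ I J w) = S.ell ρ I J w := fun v₀ h1 h2 e => by
        rw [e, ell, map_sum]
        refine Fintype.sum_equiv (Equiv.addLeft fun x : {l : Fin m // l ≠ I ∧ l ≠ J} => v₀ x.1) _ _ fun u => ?_
        rw [← Module.End.mul_apply, ← map_mul, ← zel_add, ← rowM_add]
        congr 5
        funext l
        by_cases h : l ≠ I ∧ l ≠ J
        · simp [dif_pos h, h]
        · rw [Pi.add_apply, dif_neg h, dif_neg h, add_zero]
          rcases not_and_or.1 h with h' | h' <;> rw [not_not] at h' <;> simp [h', h1, h2]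
      have hI0 : ∀ l s, l ≠ I → ρ (S.zel (single I l s)) w = ψ (if l = J then c * s else 0) • w := fun l s hl => by
        rw [zel_single, hI _ ((S.P I).smul_mem s (S.e_mem_P hl)), psmul_left S.hQ, psmul_right S.hQ, S.pef]
        split_ifs <;> ring_nf
      rcases eq_or_ne i j with rfl | hij
      · have h0 : (single i i t : Matrix (Fin m) (Fin m) F) I J - (single i i t : Matrix (Fin m) (Fin m) F) J I = 0 := by
          simp only [single_apply, and_comm, sub_self]
        rw [h0, mul_zero, AddChar.map_zero_eq_one, one_smul, S.zel_congr (N := 0) (fun a b => ?_), zel_zero, map_one,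
          Module.End.one_apply]
        simp only [single_apply, Matrix.zero_apply, sub_zero, and_comm, sub_self]
      rcases eq_or_ne i I with rfl | hiI
      · refine scal _ ?_
        rw [hI0 j t hij.symm]
        congr 2
        rcases eq_or_ne j J with rfl | hjJ
        · simp [hIJ]
        · simp [hjJ, hIJ]
      rcases eq_or_ne j I with rfl | hjI
      · have e : S.zel (single i j t) = S.zel (single j i (-t)) := S.zel_congr fun a b => by
          simp only [single_apply, and_comm]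
          split_ifs <;> simp
        refine scal _ ?_
        rw [e, hI0 i (-t) hiI]
        congr 2
        rcases eq_or_ne i J with rfl | hiJ
        · simp [hij, hij.symm]
        · simp [hiI, hiJ, hIJ.symm]
      have hz : c * ((single i j t : Matrix (Fin m) (Fin m) F) I J - (single i j t : Matrix (Fin m) (Fin m) F) J I) = 0 := by
        simp [hiI, hjI]
      rw [hz, AddChar.map_zero_eq_one, one_smul]
      rcases eq_or_ne i J with rfl | hiJ
      · refine absorb (Pi.single j t) (by simp [hjI.symm]) (by simp [hij]) (congrArg S.zel ?_)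
        ext a b
        by_cases ha : a = i
        · subst ha; simp [rowM, single_apply, Pi.single_apply, eq_comm]
        · simp [rowM, single_apply, ha, Ne.symm ha]
      rcases eq_or_ne j J with rfl | hjJ
      · refine absorb (Pi.single i (-t)) (by simp [hiI.symm]) (by simp [hiJ.symm]) (S.zel_congr fun a b => ?_)
        simp only [rowM, single_apply, Pi.single_apply, Matrix.of_apply]
        split_ifs <;> grind
      exact (scal 1 (by rw [one_smul]; exact (H.away_zel hIJ hiI hiJ hjI hjJ hij t c hc).1 w hw)).trans (one_smul ℂ _)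
  · intro k hk
    rw [ell, map_sum]
    refine Finset.sum_congr rfl fun u _ => ?_
    rw [← Module.End.mul_apply, ← map_mul, S.eK_comm_zel I hk, map_mul, Module.End.mul_apply, hI k (S.K_le_P I hk),
      psmul_right S.hQ, hk.2, mul_zero, AddChar.map_zero_eq_one, one_smul]

theorem Small.ell_ne {I J : Fin m} (hIJ : I ≠ J) {c : F} (hc : c ≠ 0) {w : V}
    (hw : w ∈ S.Eg ρ ψ I (c • S.f J)) (hw0 : w ≠ 0) : S.ell ρ I J w ≠ 0 := by
  classical
  haveI := H.fd
  intro h
  apply hw0
  set ext : ({l : Fin m // l ≠ I ∧ l ≠ J} → F) → Fin m → F := fun u l => if h : l ≠ I ∧ l ≠ J then u ⟨l, h⟩ else 0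
  have hJ : ∀ u, ext u J = 0 := fun u => dif_neg (by simp)
  have hI : ∀ u, ext u I = 0 := fun u => dif_neg (by simp)
  have hmem : ∀ u, ρ (S.zel (rowM J (ext u))) w ∈ S.Eg ρ ψ I (act (S.zel (rowM J (ext u))) (c • S.f J)) :=
    fun u => S.Eg_fix ρ ψ (S.fix_zel_rowM hIJ _ (hI u)) _ hw
  have h1 := congrArg ((S.R ρ I).proj (S.chi ψ I (c • S.f J))) h
  rw [map_zero, ell, map_sum, Finset.sum_eq_single (0 : {l : Fin m // l ≠ I ∧ l ≠ J} → F)] at h1
  · have e : ρ (S.zel (rowM J (ext 0))) w = w := by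
      have : rowM J (ext 0) = 0 := by ext a b; simp [rowM, ext]
      rw [this, zel_zero, map_one, Module.End.one_apply]
    rwa [e, Act.proj_eig (S.R ρ I) hw, if_pos rfl] at h1
  · intro u _ hu
    rw [Act.proj_eig (S.R ρ I) (hmem u), if_neg]
    intro e
    apply hu
    have hP : c • S.f J ∈ S.P I := (S.P I).smul_mem c (S.f_mem_P hIJ.symm)
    have e' := S.chi_inj H.hψ hP (Fix.mem_P S (S.fix_zel_rowM hIJ _ (hI u)) hP) e
    rw [act_smul, S.act_zel_rowM_fJ J _ (hJ u), smul_add, left_eq_add, smul_eq_zero_iff_right hc] at e'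
    funext l
    have := congrArg (fun y => S.al y l.1) e'
    simp only [map_sum, map_smul, al_e, map_zero, Finset.sum_apply, Pi.smul_apply, Pi.single_apply, smul_eq_mul,
      mul_ite, mul_one, mul_zero, Finset.sum_ite_eq, Finset.mem_univ, if_true, Pi.zero_apply] at this
    simpa [ext, l.2.1, l.2.2] using this
  · simp

omit H

theorem ell_smul_of_hmn {I J : Fin m} (hIJ : I ≠ J) (a : Fˣ) {w : V} {s : ℂ}
    (h : ρ (S.tor (hmn I J a)) w = s • w) :
    ρ (S.tor (hmn I J a)) (S.ell ρ I J w) = s • S.ell ρ I J w := by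
  classical
  rw [ell, map_sum, Finset.smul_sum]
  refine Fintype.sum_equiv
    (Equiv.piCongrRight fun x : {l : Fin m // l ≠ I ∧ l ≠ J} => Units.mulLeft (a⁻¹ : Fˣ)) _ _ fun u => ?_
  rw [← Module.End.mul_apply, ← map_mul, tor_mul_zel, map_mul, Module.End.mul_apply, h, map_smul]
  congr 6
  ext i j
  simp only [Matrix.of_apply, rowM, Equiv.piCongrRight_apply]
  by_cases hi : i = J
  · subst hi
    by_cases hj : j ≠ I ∧ j ≠ i
    · rw [if_pos rfl, if_pos rfl, dif_pos hj, dif_pos hj]
      simp [hmn_val, hIJ.symm, hj.1, hj.2]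
    · rw [if_pos rfl, if_pos rfl, dif_neg hj, dif_neg hj]
      simp
  · simp [hi]

end Fr

end CfsgLib.Classical.OrthMin
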