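/-
The scalar of the torus on an axis line, and the dimension of the eigenspace of rank two.
-/
import Cfsg.Agent.Lib.Classical.OrthMin.EZero

set_option autoImplicit false

namespace CfsgLib.Classical.OrthMin

open Matrix Module Cfsg.Geo CfsgLib.Perm.Trans CfsgLib.Perm.Trans.Quad

variable {ι : Type} [Fintype ι] [DecidableEq ι] {F : Type*} [Field F] [Fintype F]
variable {Q : (ι → F) → F} {m : ℕ} {S : Fr Q m}
variable {V : Type*} [AddCommGroup V] [Module ℂ V]
variable {ρ : Representation ℂ ↥(Cfsg.Omega F Q) V} {ψ : AddChar F ℂ}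

local notation "pol" => QuadraticMap.polar

namespace Fr

noncomputable instance (S : Fr Q m) : Fintype ↥S.K := Fintype.ofFinite _

noncomputable instance (S : Fr Q m) : DecidableEq ↥S.K := _root_.Classical.decEq _

variable (S) in
/-- The sign of the scaling of the complement. -/
noncomputable def sg : Fˣ →* ℂ :=
  (((Int.castRingHom ℂ : ℤ →+* ℂ) : ℤ →* ℂ).comp (Units.coeHom ℤ)).comp
    (Equiv.Perm.sign.comp (MulAction.toPermHom Fˣ ↥S.K))

variable (S) in
/-- The characters of the complement in the radical. -/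
noncomputable def Kact (ρ : Representation ℂ ↥(Cfsg.Omega F Q) V) (I : Fin m) : Act ↥S.K V where
  τ k := ρ (eich Q (S.e I) k.1)
  zero := by rw [Submodule.coe_zero, S.eich_zero (S.qe I), map_one]
  add a b := by
    rw [Submodule.coe_add, S.eich_add (S.qe I) (S.pol_e_K I a.2) (S.pol_e_K I b.2), map_mul]

variable (S ψ) in
/-- The character of the complement given by one of its vectors. -/
noncomputable def chiK (c : F) (k : ↥S.K) : AddChar ↥S.K ℂ :=
  ψ.compAddMonoidHom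
    { toFun := fun a => c * pol Q k.1 a.1
      map_zero' := by rw [Submodule.coe_zero, pzero_right S.hQ, mul_zero]
      map_add' := fun a b => by rw [Submodule.coe_add, padd_right S.hQ, mul_add] }

theorem chiK_apply (c : F) (k a : ↥S.K) : S.chiK ψ c k a = ψ (c * pol Q k.1 a.1) := rfl

theorem chiK_bijective (hψ : ψ.IsPrimitive) {c : F} (hc : c ≠ 0) : Function.Bijective (S.chiK ψ c) := by
  rw [Fintype.bijective_iff_injective_and_card]
  refine ⟨fun k k' h => ?_, AddChar.card_eq.symm⟩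
  have h0 : S.kp (k.1 - k'.1) = 0 := S.kp_eq_zero fun a ha => eq_zero_of_psi hψ fun t => by
    have h1 := congrArg (fun φ : AddChar ↥S.K ℂ => φ ⟨(c⁻¹ * t) • a, S.K.smul_mem _ ha⟩) h
    simp only [chiK_apply, psmul_right S.hQ] at h1
    rw [psub_right S.hQ, mul_sub, AddChar.map_sub_eq_div, pcomm a k.1, pcomm a k'.1]
    rw [show ∀ y, c * (c⁻¹ * t * y) = t * y from fun y => by field_simp, show ∀ y, c * (c⁻¹ * t * y) = t * y from fun y => by field_simp] at h1
    rw [h1, div_self (AddChar.val_isUnit ψ _).ne_zero]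
  rw [S.kp_K (S.K.sub_mem k.2 k'.2)] at h0
  exact Subtype.ext (sub_eq_zero.1 h0)

variable (S) in
theorem act_eK_eJ_conj (I J : Fin m) {k k' : ι → F} (hk : k ∈ S.K) (hk' : k' ∈ S.K) :
    eich Q (S.e I) k' * eich Q (S.e J) k =
      eich Q (S.e J) k * (eich Q (S.e I) k' * S.zel (single I J (pol Q k' k))) := by
  have h := S.eich_conj (S.qe I) (S.pol_e_K I hk') (eich Q (S.e J) k)⁻¹
  have hinv := S.eich_inv (S.qe J) (S.pol_e_K J hk)
  have e1 : act (eich Q (S.e J) k)⁻¹ (S.e I) = S.e I := by rw [hinv]; exact S.act_eK_e J (S.K.neg_mem hk) I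
  have e2 : act (eich Q (S.e J) k)⁻¹ k' = k' + pol Q k' k • S.e J := by
    rw [hinv, S.act_eK_K J (S.K.neg_mem hk) hk', pneg_right S.hQ, neg_smul, sub_neg_eq_add]
  rw [e1, e2, S.eich_add (S.qe I) (S.pol_e_K I hk') (by rw [psmul_right S.hQ, S.pee, mul_zero]), ← zel_single,
    inv_inv] at h
  rw [← h]
  group

variable (S) in
theorem tor_eK (d : ↥(sqDet F m)) (J : Fin m) {k : ι → F} (hk : k ∈ S.K) :
    S.tor d * eich Q (S.e J) k = eich Q (S.e J) ((d.1 J : F) • k) * S.tor d := by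
  have h := S.eich_conj (S.qe J) (S.pol_e_K J hk) (S.tor d)
  rw [act_tor_e, S.act_tor_K d hk, S.eich_smul_left (S.qe J) (S.pol_e_K J hk)] at h
  exact mul_inv_eq_iff_eq_mul.1 h

variable (S ρ ψ) in
theorem le_trv_preserves {I J : Fin m} (hIJ : I ≠ J) (c : F) {a b : Fin m} (hab : a ≠ b)
    (ha : (a = I ∧ b = J) ∨ (a = J ∧ b = I)) (t : F) {x : V} (hx : x ∈ S.E0 ρ ψ I J c) :
    ρ (S.le (trv hab t)) x ∈ S.E0 ρ ψ I J c := by
  set g := trv hab t
  have hinj : Function.Injective fun M : Matrix (Fin m) (Fin m) F => g.1 * M * g.1ᵀ := fun M N h => by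
    have h1 := congrArg (fun X => (g⁻¹).1 * X * ((g⁻¹).1)ᵀ) h
    have e : (g⁻¹).1 * g.1 = 1 := by
      rw [show (g⁻¹).1 * g.1 = (g⁻¹ * g).1 from rfl, inv_mul_cancel]; rfl
    have e' : g.1ᵀ * ((g⁻¹).1)ᵀ = 1 := by rw [← transpose_mul, e, transpose_one]
    simp only [Matrix.mul_assoc, e', Matrix.mul_one] at h1
    simpa only [← Matrix.mul_assoc, e, Matrix.one_mul] using h1
  refine (S.Zact ρ).eig_map (g := ρ (S.le g)) (Finite.surjective_of_injective hinj) (fun M => ?_)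
    (χ := chiM ψ (base2 I J c)) (fun M => ?_) hx
  · show ρ (S.le g) * ρ (S.zel M) = ρ (S.zel _) * ρ (S.le g)
    rw [← map_mul, ← map_mul, le_mul_zel]
  · rw [chiM_base2, chiM_base2]
    congr 2
    simp only [g, trv_val]
    rcases ha with ⟨rfl, rfl⟩ | ⟨rfl, rfl⟩ <;>
      simp [transvection, Matrix.add_mul, Matrix.mul_add, Matrix.transpose_add, transpose_single, hIJ, hIJ.symm] <;>
      ring

variable (H : S.Small ρ ψ)
include H

omit H in
theorem card_K (h : S.Kind) : Fintype.card ↥S.K = 1 ∨ (Fintype.card ↥S.K = Fintype.card F ∧ (2 : F) ≠ 0) := by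
  rcases h with hp | ⟨z, hz⟩
  · exact Or.inl (Fintype.card_eq_one_iff.2 ⟨0, fun k => Subtype.ext (hp.bot _ k.2)⟩)
  · refine Or.inr ⟨?_, hz.two_ne⟩
    refine (Fintype.card_congr (Equiv.ofBijective (fun s : F => (⟨s • z, S.K.smul_mem s hz.mem⟩ : ↥S.K))
      ⟨fun s t h => ?_, fun k => ?_⟩)).symm
    · exact smul_left_injective F (fun e => hz.qne (by rw [e]; exact qzero S.hQ)) (congrArg Subtype.val h)
    · obtain ⟨s, hs⟩ := hz.span _ k.2
      exact ⟨s, Subtype.ext hs.symm⟩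

/-- A basis of the eigenspace of rank two, permuted by the torus. -/
theorem Small.E0_basis {I J : Fin m} (hIJ : I ≠ J) {c : F} (hc : c ≠ 0) {w : V}
    (hw : w ∈ S.Eg ρ ψ I (c • S.f J)) (hw0 : w ≠ 0) :
    ∃ b : Basis ↥S.K ℂ ↥(S.E0 ρ ψ I J c),
      ∀ k : ↥S.K, (b k : V) = ρ (eich Q (S.e J) k.1) (S.ell ρ I J w) := by
  classical
  haveI := H.fd
  obtain ⟨hℓ, hℓK⟩ := H.ell_mem hIJ hc hw
  have hℓ0 := H.ell_ne hIJ hc hw hw0
  set ℓ := S.ell ρ I J w
  have hY : ∀ (k : ↥S.K) x, x ∈ S.E0 ρ ψ I J c → ρ (eich Q (S.e J) k.1) x ∈ S.E0 ρ ψ I J c := fun k x hx => by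
    rw [mem_E0] at hx ⊢
    intro M
    rw [← Module.End.mul_apply, ← map_mul, ← S.eK_comm_zel J k.2, map_mul, Module.End.mul_apply, hx M, map_smul]
  have heig : ∀ k : ↥S.K, ρ (eich Q (S.e J) k.1) ℓ ∈ (S.Kact ρ I).eig (S.chiK ψ c k) := fun k a => by
    show ρ (eich Q (S.e I) a.1) _ = _
    rw [← Module.End.mul_apply, ← map_mul, S.act_eK_eJ_conj I J k.2 a.2, map_mul, map_mul, Module.End.mul_apply,
      Module.End.mul_apply, (S.mem_E0 ρ ψ).1 hℓ, map_smul, hℓK _ a.2, map_smul, chiK_apply, pcomm a.1 k.1]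
    simp [single_apply, hIJ]
  let v : ↥S.K → ↥(S.E0 ρ ψ I J c) := fun k => ⟨_, hY k ℓ hℓ⟩
  have hne : ∀ k : ↥S.K, ρ (eich Q (S.e J) k.1) ℓ ≠ 0 := fun k e =>
    hℓ0 (rho_injective ρ (eich Q (S.e J) k.1) (by rw [e, map_zero]))
  have hbij := S.chiK_bijective (ψ := ψ) H.hψ hc
  have hli : LinearIndependent ℂ v := by
    rw [Fintype.linearIndependent_iff]
    intro g hg k
    have h1 := congrArg (fun y : ↥(S.E0 ρ ψ I J c) => (S.Kact ρ I).proj (S.chiK ψ c k) y.1) hg
    simp only [Submodule.coe_zero, map_zero, Submodule.coe_sum, Submodule.coe_smul, map_sum, map_smul, v] at h1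
    rw [Finset.sum_eq_single k] at h1
    · rw [Act.proj_eig _ (heig k), if_pos rfl, smul_eq_zero] at h1
      exact h1.resolve_right (hne k)
    · intro k' _ hk'
      rw [Act.proj_eig _ (heig k'), if_neg fun e => hk' (hbij.1 e).symm, smul_zero]
    · simp
  have hspan : ⊤ ≤ Submodule.span ℂ (Set.range v) := by
    intro x _
    have hx : x.1 = ∑ k : ↥S.K, (S.Kact ρ I).proj (S.chiK ψ c k) x.1 :=
      ((S.Kact ρ I).sum_proj_apply x.1).symm.trans
        (Equiv.sum_comp (Equiv.ofBijective _ hbij) fun χ => (S.Kact ρ I).proj χ x.1).symm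
    have hmul : ∀ k : ↥S.K, ∃ a : ℂ, (S.Kact ρ I).proj (S.chiK ψ c k) x.1 = a • ρ (eich Q (S.e J) k.1) ℓ := by
      intro k
      set p := (S.Kact ρ I).proj (S.chiK ψ c k) x.1
      have hp0 : p ∈ S.E0 ρ ψ I J c := by
        rw [mem_E0]
        intro M
        have h := congrArg (fun T : Module.End ℂ V => T x.1) ((S.Kact ρ I).proj_comm (g := ρ (S.zel M)) (fun a => by
          show ρ _ * ρ _ = ρ _ * ρ _
          rw [← map_mul, ← map_mul, S.eK_comm_zel I a.2]) (S.chiK ψ c k))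
        simp only [Module.End.mul_apply] at h
        rw [h, (S.mem_E0 ρ ψ).1 x.2 M, map_smul]
      have hpK : ∀ a, ρ (eich Q (S.e I) a.1) p = S.chiK ψ c k a • p := (S.Kact ρ I).proj_mem _ _
      set p' := ρ (eich Q (S.e J) (-k).1) p
      have hp'0 : p' ∈ S.E0 ρ ψ I J c := hY (-k) p hp0
      have hp'K : ∀ a ∈ S.K, ρ (eich Q (S.e I) a) p' = p' := fun a ha => by
        show ρ (eich Q (S.e I) a) (ρ (eich Q (S.e J) (-k).1) p) = _
        rw [← Module.End.mul_apply, ← map_mul, S.act_eK_eJ_conj I J (-k).2 ha, map_mul, map_mul,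
          Module.End.mul_apply, Module.End.mul_apply, (S.mem_E0 ρ ψ).1 hp0, map_smul, hpK ⟨a, ha⟩, smul_smul,
          map_smul, chiK_apply, ← AddChar.map_add_eq_mul]
        simp [single_apply, hIJ, pneg_right S.hQ, pcomm a k.1, p']
      obtain ⟨a, ha⟩ := H.L0_line hIJ hc hℓ hℓK hp'0 hp'K hℓ0
      refine ⟨a, ?_⟩
      have h2 := congrArg (ρ (eich Q (S.e J) k.1)) ha
      rw [map_smul, ← Module.End.mul_apply, ← map_mul, ← S.eich_add (S.qe J) (S.pol_e_K J k.2)
        (S.pol_e_K J (-k).2), Submodule.coe_neg, add_neg_cancel, S.eich_zero (S.qe J), map_one,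
        Module.End.one_apply] at h2
      exact h2
    choose a ha using hmul
    have : x = ∑ k, a k • v k := Subtype.ext (by
      rw [Submodule.coe_sum, hx]
      exact Finset.sum_congr rfl fun k _ => ha k)
    rw [this]
    exact Submodule.sum_mem _ fun k _ => Submodule.smul_mem _ _ (Submodule.subset_span ⟨k, rfl⟩)
  exact ⟨Basis.mk hli hspan, fun k => by rw [Basis.mk_apply]⟩

theorem Small.finrank_E0 {I J : Fin m} (hIJ : I ≠ J) {c : F} (hc : c ≠ 0) :
    finrank ℂ (S.E0 ρ ψ I J c) = Fintype.card ↥S.K := by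
  obtain ⟨w, hw, hw0⟩ := H.exists_f hIJ hc
  obtain ⟨b, -⟩ := H.E0_basis hIJ hc hw hw0
  exact finrank_eq_card_basis b

/-- The scalar of the torus on an axis line. -/
theorem Small.hmn_scalar {I J : Fin m} (hIJ : I ≠ J) {c : F} (hc : c ≠ 0) (a : Fˣ) {w : V}
    (hw : w ∈ S.Eg ρ ψ I (c • S.f J)) : ρ (S.tor (hmn I J a)) w = S.sg a • w := by
  classical
  haveI := H.fd
  rcases eq_or_ne w 0 with rfl | hw0
  · rw [map_zero, smul_zero]
  obtain ⟨σ, hσ⟩ : ∃ σ : ℂ, ρ (S.tor (hmn I J a)) w = σ • w := by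
    have h := S.Eg_move ρ ψ (c := (a : F)) (g := S.tor (hmn I J a)) a.ne_zero
      (by rw [act_tor_e]; simp [hmn_val, hIJ])
      (by rw [act_tor_f]; simp [hmn_val, hIJ]) _ hw
    have e : (a : F)⁻¹ • act (S.tor (hmn I J a)) (c • S.f J) = c • S.f J := by
      rw [act_smul, act_tor_f, smul_comm c, smul_smul]
      simp [hmn_val, hIJ.symm]
    rw [e] at h
    exact H.line ((S.P I).smul_mem c (S.f_mem_P hIJ.symm)) (smul_ne_zero hc (S.f_ne_zero J)) hw h hw0
  rw [hσ]
  congr 1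
  set s := S.tor (hmn I J a) with hs
  -- the order
  have hσq : σ ^ (Fintype.card F - 1) = 1 := by
    have h := rho_pow_apply ρ hσ (Fintype.card F - 1)
    rw [hs, tor_pow_card S, map_one, Module.End.one_apply] at h
    exact (smul_left_injective ℂ hw0 (by simpa using h)).symm
  -- the determinant
  set E := S.E0 ρ ψ I J c
  let N : Submonoid ↥(Cfsg.Omega F Q) :=
    { carrier := {g | ∀ x ∈ E, ρ g x ∈ E}
      one_mem' := fun x hx => by rwa [map_one, Module.End.one_apply]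
      mul_mem' := fun {g h} hg hh x hx => by rw [map_mul, Module.End.mul_apply]; exact hg _ (hh x hx) }
  let res : ↥N →* Module.End ℂ ↥E :=
    { toFun := fun g => (ρ g.1).restrict g.2
      map_one' := LinearMap.ext fun x => Subtype.ext (by simp)
      map_mul' := fun g h => LinearMap.ext fun x => Subtype.ext (by simp) }
  let D : ↥N →* ℂ := LinearMap.det.comp res
  have hx : ∀ t, S.le (trv hIJ t) ∈ N := fun t x hx => S.le_trv_preserves ρ ψ hIJ c hIJ (Or.inl ⟨rfl, rfl⟩) t hx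
  have hy : ∀ t, S.le (trv hIJ.symm t) ∈ N := fun t x hx =>
    S.le_trv_preserves ρ ψ hIJ c hIJ.symm (Or.inr ⟨rfl, rfl⟩) t hx
  have hp : ∀ (g : ↥N), g.1 ^ ringChar F = 1 → D g ^ ringChar F = 1 := fun g hg => by
    rw [← map_pow, show g ^ ringChar F = 1 from Subtype.ext (by simpa using hg), map_one]
  have hle : ∀ {i j : Fin m} (h : i ≠ j) (t : F), S.le (trv h t) ^ ringChar F = 1 := fun h t => by
    rw [← map_pow, trv_pow_char, map_one]
  have hword : s = ((S.le (trv hIJ (a : F)) * S.le (trv hIJ.symm (-(a : F)⁻¹)) * S.le (trv hIJ (a : F))) *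
      (S.le (trv hIJ (-1)) * S.le (trv hIJ.symm (-(-1 : F)⁻¹)) * S.le (trv hIJ (-1)))) := by
    rw [hs, tor_hmn_eq S hIJ]
    simp only [wel, map_mul]
  have hsN : s ∈ N := by
    rw [hword]
    exact mul_mem (mul_mem (mul_mem (hx _) (hy _)) (hx _)) (mul_mem (mul_mem (hx _) (hy _)) (hx _))
  have hD : D ⟨s, hsN⟩ ^ ringChar F = 1 := by
    have e : (⟨s, hsN⟩ : ↥N) = ((⟨_, hx (a : F)⟩ * ⟨_, hy (-(a : F)⁻¹)⟩ * ⟨_, hx (a : F)⟩) *
        (⟨_, hx (-1)⟩ * ⟨_, hy (-(-1 : F)⁻¹)⟩ * ⟨_, hx (-1)⟩)) := Subtype.ext hword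
    rw [e]
    simp only [map_mul, mul_pow, hp ⟨_, hx _⟩ (hle hIJ _), hp ⟨_, hy _⟩ (hle hIJ.symm _), mul_one]
  have hD' : D ⟨s, hsN⟩ ^ (Fintype.card F - 1) = 1 := by
    rw [← map_pow]
    have : (⟨s, hsN⟩ : ↥N) ^ (Fintype.card F - 1) = 1 := Subtype.ext (by simp [hs, tor_pow_card S])
    rw [this, map_one]
  have hD1 := eq_one_of_pows hD hD'
  -- compute it in the basis
  obtain ⟨b, hb⟩ := H.E0_basis hIJ hc hw hw0
  let π : Equiv.Perm ↥S.K := MulAction.toPermHom Fˣ ↥S.K a⁻¹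
  have hres : res ⟨s, hsN⟩ = σ • (b.equiv b π).toLinearMap := by
    refine b.ext fun k => Subtype.ext ?_
    show ρ s (b k : V) = ((σ • b.equiv b π (b k) : ↥E) : V)
    rw [hb, Basis.equiv_apply, Submodule.coe_smul, hb, ← Module.End.mul_apply, ← map_mul, hs, tor_eK S _ J k.2,
      map_mul, Module.End.mul_apply, ell_smul_of_hmn hIJ a (hs ▸ hσ), map_smul]
    congr 3
    simp [π, hmn_val, hIJ.symm, Units.smul_def]
  have hdet : D ⟨s, hsN⟩ = σ ^ Fintype.card ↥S.K * S.sg a⁻¹ := by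
    show LinearMap.det (res ⟨s, hsN⟩) = _
    rw [hres, LinearMap.det_smul, finrank_eq_card_basis b, ← LinearMap.det_toMatrix b]
    congr 1
    have e : LinearMap.toMatrix b b (b.equiv b π).toLinearMap = (π⁻¹).permMatrix ℂ := by
      ext i j
      rw [LinearMap.toMatrix_apply]
      simp only [LinearEquiv.coe_coe, Basis.equiv_apply, Basis.repr_self, Finsupp.single_apply]
      simp [Equiv.Perm.permMatrix, PEquiv.toMatrix_apply, Equiv.toPEquiv_apply, Equiv.Perm.inv_def, eq_comm,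
        Equiv.symm_apply_eq]
      exact if_congr (by rw [Equiv.eq_symm_apply]; exact eq_comm) rfl rfl
    rw [e, Matrix.det_permutation, Equiv.Perm.sign_inv]
    rfl
  have hsgn : S.sg a⁻¹ = S.sg a := by
    show ((Equiv.Perm.sign (MulAction.toPermHom Fˣ ↥S.K a⁻¹) : ℤ) : ℂ) = _
    rw [map_inv (MulAction.toPermHom Fˣ ↥S.K), Equiv.Perm.sign_inv]
    rfl
  have hσK : σ ^ Fintype.card ↥S.K = σ := by
    rcases card_K H.hkind with h | ⟨h, -⟩
    · rw [h, pow_one]
    · rw [h]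
      conv_lhs => rw [← Nat.sub_add_cancel (Fintype.card_pos (α := F))]
      rw [pow_succ, hσq, one_mul]
  rw [hD1, hσK, hsgn] at hdet
  have hsq : S.sg a * S.sg a = 1 := by
    show ((Equiv.Perm.sign (MulAction.toPermHom Fˣ ↥S.K a) : ℤ) : ℂ) *
      ((Equiv.Perm.sign (MulAction.toPermHom Fˣ ↥S.K a) : ℤ) : ℂ) = 1
    rw [← Int.cast_mul, ← Units.val_mul, Int.units_mul_self, Units.val_one, Int.cast_one]
  calc σ = σ * (S.sg a * S.sg a) := by rw [hsq, mul_one]
    _ = S.sg a := by rw [← mul_assoc, ← hdet, one_mul]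

/-- The scalar of the torus on the other axis line. -/
theorem Small.hpl_scalar {I J : Fin m} (hIJ : I ≠ J) {c : F} (hc : c ≠ 0) (a : Fˣ) {w : V}
    (hw : w ∈ S.Eg ρ ψ I (c • S.e J)) : ρ (S.tor (hpl I J a)) w = S.sg a • w := by
  obtain ⟨l, hlI, hlJ⟩ := S.exists_ne_two I J
  have hs : S.sw hlJ * S.tor (hmn I J a) = S.tor (hpl I J a) * S.sw hlJ := S.sw_mul_tor hlJ _ _ fun x => by
    rw [hpl_val, hmn_val]
    split_ifs with h
    · rcases h with rfl | rfl
      · simp [hlI, hlJ]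
      · simp [hIJ.symm]
    · push Not at h
      rcases eq_or_ne x I with rfl | hx
      · simp [hIJ]
      · simp [hx, h.2]
  have hinv : ρ (S.sw hlJ) (ρ (S.sw hlJ) w) = w := by
    rw [← Module.End.mul_apply, ← map_mul]
    nth_rewrite 2 [← S.sw_inv hlJ]
    rw [mul_inv_cancel, map_one, Module.End.one_apply]
  have h1 := S.Eg_fix ρ ψ (g := S.sw hlJ) (S.sw_fix hlJ hlI.symm hIJ) _ hw
  rw [act_smul, act_sw_e, if_pos (Or.inr rfl)] at h1
  have h2 := congrArg (fun g => ρ g (ρ (S.sw hlJ) w)) hs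
  simp only [map_mul, Module.End.mul_apply, H.hmn_scalar hIJ hc a h1, map_smul, hinv] at h2
  exact h2.symm

/-- The torus with equal entries at the pair. -/
theorem Small.tor_scalar {I J : Fin m} (hIJ : I ≠ J) {c : F} (hc : c ≠ 0) (d : ↥(sqDet F m))
    (hd : d.1 I = d.1 J) {w : V} (hw : w ∈ S.Eg ρ ψ I (c • S.e J)) :
    ρ (S.tor d) w = S.sg (d.1 I) • w := by
  have e : d = hpl I J (d.1 I) * ((hpl I J (d.1 I))⁻¹ * d) := (mul_inv_cancel_left _ _).symm
  conv_lhs => rw [e]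
  rw [map_mul, map_mul, Module.End.mul_apply, (H.away_tor hIJ _ ?_ ?_ c hc).2 w hw]
  · exact H.hpl_scalar hIJ hc _ hw
  · simp [hpl_val, hIJ]
  · simp [hpl_val, hIJ.symm, hd]

end Fr

end CfsgLib.Classical.OrthMin
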