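/-
The vectors fixed by the Siegel radical, filtered by the rows of the unitriangular group.
-/
import Cfsg.Agent.Lib.Classical.OrthMin.Sigma

set_option autoImplicit false

namespace CfsgLib.Classical.OrthMin

open Matrix Module Cfsg.Geo CfsgLib.Perm.Trans CfsgLib.Perm.Trans.Quad

variable {ι : Type} [Fintype ι] [DecidableEq ι] {F : Type*} [Field F] [Fintype F]
variable {Q : (ι → F) → F} {m : ℕ}
variable {V : Type*} [AddCommGroup V] [Module ℂ V]

local notation "pol" => QuadraticMap.polar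

/-- The row vectors supported to the right of a position. -/
def RowSp (F : Type*) [Field F] (j : Fin m) : Submodule F (Fin m → F) where
  carrier := {u | ∀ l, l ≤ j → u l = 0}
  zero_mem' := fun _ _ => rfl
  add_mem' := fun {a b} ha hb l hl => by rw [Pi.add_apply, ha l hl, hb l hl, add_zero]
  smul_mem' := fun c a ha l hl => by rw [Pi.smul_apply, ha l hl, smul_zero]

noncomputable instance (j : Fin m) : Fintype ↥(RowSp F j) := Fintype.ofFinite _

omit [Fintype F] in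
theorem RowSp.dot (j : Fin m) (u : ↥(RowSp F j)) : u.1 ⬝ᵥ (Pi.single j 1 : Fin m → F) = 0 := by
  rw [dotProduct_single, u.2 j le_rfl, zero_mul]

/-- The characters of a row. -/
noncomputable def chiRow (ψ : AddChar F ℂ) (j : Fin m) (r : Fin m → F) : AddChar ↥(RowSp F j) ℂ :=
  ψ.compAddMonoidHom
    { toFun := fun u => u.1 ⬝ᵥ r
      map_zero' := zero_dotProduct r
      map_add' := fun a b => add_dotProduct a.1 b.1 r }

theorem chiRow_apply (ψ : AddChar F ℂ) (j : Fin m) (r : Fin m → F) (u : ↥(RowSp F j)) :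
    chiRow ψ j r u = ψ (u.1 ⬝ᵥ r) := rfl

theorem chiRow_bijective {ψ : AddChar F ℂ} (hψ : ψ.IsPrimitive) (j : Fin m) :
    Function.Bijective fun r : ↥(RowSp F j) => chiRow ψ j r.1 := by
  rw [Fintype.bijective_iff_injective_and_card]
  refine ⟨fun r r' h => Subtype.ext (funext fun l => ?_), AddChar.card_eq.symm⟩
  rcases le_or_gt l j with hl | hl
  · rw [r.2 l hl, r'.2 l hl]
  refine sub_eq_zero.1 (eq_zero_of_psi hψ fun t => ?_)
  have hmem : (Pi.single l t : Fin m → F) ∈ RowSp F j := fun x hx => Pi.single_eq_of_ne (hx.trans_lt hl).ne _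
  have h1 := congrArg (fun φ : AddChar ↥(RowSp F j) ℂ => φ ⟨_, hmem⟩) h
  simp only [chiRow_apply, single_dotProduct] at h1
  rw [mul_sub, AddChar.map_sub_eq_div, h1, div_self (AddChar.val_isUnit ψ _).ne_zero]

namespace Fr

variable (S : Fr Q m) (ρ : Representation ℂ ↥(Cfsg.Omega F Q) V) (ψ : AddChar F ℂ)

/-- The element of a row. -/
noncomputable def rowE (j : Fin m) (u : ↥(RowSp F j)) : ↥(Cfsg.Omega F Q) :=
  S.le (tv (Pi.single j 1) u.1 (RowSp.dot j u))

/-- A row acting on the module. -/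
noncomputable def Rw (j : Fin m) : Act ↥(RowSp F j) V where
  τ u := ρ (S.rowE j u)
  zero := by
    simp only [rowE, Submodule.coe_zero]
    rw [tv_zero, map_one, map_one]
  add a b := by
    simp only [rowE, Submodule.coe_add]
    rw [← tv_add (h := RowSp.dot j a) (h' := RowSp.dot j b), map_mul, map_mul]

/-- The vectors fixed by the Siegel radical. -/
noncomputable def VS : Submodule ℂ V where
  carrier := {x | (∀ M, ρ (S.zel M) x = x) ∧ ∀ i, ∀ k ∈ S.K, ρ (eich Q (S.e i) k) x = x}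
  zero_mem' := ⟨fun _ => map_zero _, fun _ _ _ => map_zero _⟩
  add_mem' := fun {a b} ha hb => ⟨fun M => by rw [map_add, ha.1, hb.1],
    fun i k hk => by rw [map_add, ha.2 i k hk, hb.2 i k hk]⟩
  smul_mem' := fun c a ha => ⟨fun M => by rw [map_smul, ha.1], fun i k hk => by rw [map_smul, ha.2 i k hk]⟩

/-- The vectors fixed by the Siegel radical and the first rows. -/
noncomputable def W (n : ℕ) : Submodule ℂ V where
  carrier := {x | x ∈ S.VS ρ ∧ ∀ i : Fin m, (i : ℕ) < n → ∀ u, ρ (S.rowE i u) x = x}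
  zero_mem' := ⟨zero_mem _, fun _ _ _ => map_zero _⟩
  add_mem' := fun {a b} ha hb => ⟨add_mem ha.1 hb.1, fun i hi u => by rw [map_add, ha.2 i hi u, hb.2 i hi u]⟩
  smul_mem' := fun c a ha => ⟨Submodule.smul_mem _ c ha.1, fun i hi u => by rw [map_smul, ha.2 i hi u]⟩

/-- The vectors fixed by all positive unipotent elements. -/
noncomputable def VU : Submodule ℂ V := S.W ρ m

/-- The eigenspaces of a row among the vectors fixed by the earlier rows. -/
noncomputable def Sp (j : Fin m) (r : Fin m → F) : Submodule ℂ V := S.W ρ j ⊓ (S.Rw ρ j).eig (chiRow ψ j r)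

theorem mem_Sp {j : Fin m} {r : Fin m → F} {x : V} :
    x ∈ S.Sp ρ ψ j r ↔ x ∈ S.W ρ j ∧ ∀ u, ρ (S.rowE j u) x = ψ (u.1 ⬝ᵥ r) • x := Iff.rfl

theorem W_zero : S.W ρ 0 = S.VS ρ :=
  SetLike.ext fun x => (⟨fun h => h.1, fun h => ⟨h, fun i hi => absurd hi (Nat.not_lt_zero _)⟩⟩ :
    (x ∈ S.VS ρ ∧ ∀ i : Fin m, (i : ℕ) < 0 → ∀ u, ρ (S.rowE i u) x = x) ↔ x ∈ S.VS ρ)

theorem W_anti {n n' : ℕ} (h : n ≤ n') : S.W ρ n' ≤ S.W ρ n :=
  fun _ hx => ⟨hx.1, fun i hi => hx.2 i (hi.trans_le h)⟩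

theorem VU_le (n : ℕ) : S.VU ρ ≤ S.W ρ n := fun _ hx => ⟨hx.1, fun i _ => hx.2 i i.2⟩

theorem Sp_zero (j : Fin m) : S.Sp ρ ψ j 0 = S.W ρ (j + 1) := by
  ext x
  rw [mem_Sp]
  simp only [dotProduct_zero, AddChar.map_zero_eq_one, one_smul]
  constructor
  · rintro ⟨h, hu⟩
    refine ⟨h.1, fun i hi u => ?_⟩
    rcases (Nat.lt_succ_iff.1 hi).lt_or_eq with h' | h'
    · exact h.2 i h' u
    · obtain rfl := Fin.ext h'
      exact hu u
  · exact fun h => ⟨S.W_anti ρ (Nat.le_succ _) h, fun u => h.2 j (Nat.lt_succ_self _) u⟩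

variable {S ρ}

theorem VS_eich_span {x : V} (hx : x ∈ S.VS ρ) (j : Fin m) (b : Fin m → F) (s : Finset (Fin m)) :
    ρ (eich Q (S.e j) (∑ l ∈ s, b l • S.e l)) x = x := by
  classical
  induction s using Finset.induction with
  | empty => rw [Finset.sum_empty, S.eich_zero (S.qe j), map_one, Module.End.one_apply]
  | insert l s hl ih =>
    rw [Finset.sum_insert hl, S.eich_add (S.qe j) (by rw [psmul_right S.hQ, S.pee, mul_zero])
      (by rw [pcomm, S.pol_sum_left]; simp [S.pee]), map_mul, Module.End.mul_apply, ih, ← zel_single, hx.1]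

theorem VS_eich_K {x : V} (hx : x ∈ S.VS ρ) (a : Fin m → F) (s : Finset (Fin m)) {k : ι → F} (hk : k ∈ S.K) :
    ρ (eich Q (∑ l ∈ s, a l • S.e l) k) x = x := by
  classical
  induction s using Finset.induction with
  | empty =>
    have : eich Q (0 : ι → F) k = 1 := by
      refine S.eich_eq (qzero S.hQ) (pzero_left S.hQ _) fun y => ?_
      rw [act_one, pzero_right S.hQ]; simp
    rw [Finset.sum_empty, this, map_one, Module.End.one_apply]
  | insert l s hl ih =>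
    have h1 : pol Q (a l • S.e l) k = 0 := by rw [psmul_left S.hQ, S.pol_e_K l hk, mul_zero]
    have h3 : pol Q (S.e l) (∑ i ∈ s, a i • S.e i) = 0 := by rw [pcomm, S.pol_sum_left]; simp [S.pee]
    rw [Finset.sum_insert hl, S.eich_add_left (by rw [Quad.qsmul S.hQ, S.qe, mul_zero]) (S.q_sum_singular _ S.qe S.pee a s)
      (by rw [psmul_left S.hQ, h3, mul_zero]) h1
      (by rw [S.pol_sum_left]; exact Finset.sum_eq_zero fun i _ => by rw [S.pol_e_K i hk, mul_zero]),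
      map_mul, map_mul, Module.End.mul_apply, Module.End.mul_apply, S.eich_smul_left (S.qe l) (S.pol_e_K l hk),
      S.eich_smul_left (S.qe l) (by rw [psmul_right S.hQ, h3, mul_zero]), Finset.smul_sum, Finset.smul_sum]
    simp only [smul_smul]
    rw [VS_eich_span hx, ih, hx.2 l _ (S.K.smul_mem _ hk)]

theorem VS_le (g : SpecialLinearGroup (Fin m) F) {x : V} (hx : x ∈ S.VS ρ) : ρ (S.le g) x ∈ S.VS ρ := by
  constructor
  · intro M
    have h : S.zel M * S.le g = S.le g * S.zel ((g⁻¹).1 * M * ((g⁻¹).1)ᵀ) := by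
      have e : g.1 * (g⁻¹).1 = 1 := by
        rw [show g.1 * (g⁻¹).1 = (g * g⁻¹).1 from rfl, mul_inv_cancel]; rfl
      have e' : ((g⁻¹).1)ᵀ * g.1ᵀ = 1 := by rw [← transpose_mul, e, transpose_one]
      rw [le_mul_zel]
      congr 2
      rw [← Matrix.mul_assoc, ← Matrix.mul_assoc, e, Matrix.one_mul, Matrix.mul_assoc, e', Matrix.mul_one]
    rw [← Module.End.mul_apply, ← map_mul, h, map_mul, Module.End.mul_apply, hx.1]
  · intro i k hk
    have h := S.eich_conj (S.qe i) (S.pol_e_K i hk) (S.le g⁻¹)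
    rw [act_le_e, S.act_le_K _ hk, map_inv, inv_inv] at h
    have h' : eich Q (S.e i) k * S.le g = S.le g * eich Q (∑ j, (g⁻¹).1 j i • S.e j) k := by
      rw [← h]; group
    rw [← Module.End.mul_apply, ← map_mul, h', map_mul, Module.End.mul_apply, VS_eich_K hx _ _ hk]

theorem VS_tor (d : ↥(sqDet F m)) {x : V} (hx : x ∈ S.VS ρ) : ρ (S.tor d) x ∈ S.VS ρ := by
  constructor
  · intro M
    have h := S.tor_mul_zel d (Matrix.of fun i j => ((d.1 i)⁻¹ : Fˣ) * M i j * (((d.1 j)⁻¹ : Fˣ) : F))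
    have e : (Matrix.of fun i j => (d.1 i : F) *
        (Matrix.of fun i j => (((d.1 i)⁻¹ : Fˣ) : F) * M i j * (((d.1 j)⁻¹ : Fˣ) : F)) i j * d.1 j) = M := by
      ext i j
      simp only [Matrix.of_apply]
      linear_combination (M i j * (((d.1 j)⁻¹ : Fˣ) : F) * d.1 j) * (d.1 i).mul_inv + M i j * (d.1 j).inv_mul
    rw [e] at h
    rw [← Module.End.mul_apply, ← map_mul, ← h, map_mul, Module.End.mul_apply, hx.1]
  · intro i k hk
    have h := S.tor_eK d i (S.K.smul_mem (((d.1 i)⁻¹ : Fˣ) : F) hk)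
    rw [smul_smul, Units.mul_inv, one_smul] at h
    rw [← Module.End.mul_apply, ← map_mul, ← h, map_mul, Module.End.mul_apply, hx.2 i _ (S.K.smul_mem _ hk)]

theorem rowE_mul_le {i : Fin m} (u : ↥(RowSp F i)) (g : SpecialLinearGroup (Fin m) F) (a : Fˣ)
    (hg : g.1 *ᵥ Pi.single i 1 = (a : F) • Pi.single i 1) (u' : ↥(RowSp F i))
    (hu : u.1 ᵥ* g.1 = (a : F) • u'.1) : S.rowE i u * S.le g = S.le g * S.rowE i u' := by
  rw [rowE, rowE, ← map_mul, ← map_mul]
  congr 1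
  refine sl_ext fun v => ?_
  rw [sl_mul_mulVec, sl_mul_mulVec, tv_mulVec, tv_mulVec, mulVec_add, mulVec_smul, hg, dotProduct_mulVec, hu,
    smul_dotProduct, smul_smul, smul_eq_mul, mul_comm]

theorem exists_row_conj {i : Fin m} (u : ↥(RowSp F i)) (g : SpecialLinearGroup (Fin m) F)
    (hg : ∀ y, y ≤ i → ∃ a : Fˣ, g.1 *ᵥ Pi.single y 1 = (a : F) • Pi.single y 1) :
    ∃ (a : Fˣ) (u' : ↥(RowSp F i)), g.1 *ᵥ Pi.single i 1 = (a : F) • Pi.single i 1 ∧
      u.1 ᵥ* g.1 = (a : F) • u'.1 := by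
  obtain ⟨a, ha⟩ := hg i le_rfl
  refine ⟨a, ⟨(a : F)⁻¹ • (u.1 ᵥ* g.1), fun y hy => ?_⟩, ha, by rw [smul_smul, mul_inv_cancel₀ a.ne_zero, one_smul]⟩
  obtain ⟨b, hb⟩ := hg y hy
  have : (u.1 ᵥ* g.1) y = u.1 ⬝ᵥ (g.1 *ᵥ Pi.single y 1) := by
    rw [dotProduct_mulVec, dotProduct_single, mul_one]
  rw [Pi.smul_apply, this, hb, dotProduct_smul, dotProduct_single, u.2 y hy]
  simp

theorem W_le {n : ℕ} (g : SpecialLinearGroup (Fin m) F)
    (hg : ∀ y : Fin m, (y : ℕ) < n → ∃ a : Fˣ, g.1 *ᵥ Pi.single y 1 = (a : F) • Pi.single y 1)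
    {x : V} (hx : x ∈ S.W ρ n) : ρ (S.le g) x ∈ S.W ρ n := by
  refine ⟨VS_le g hx.1, fun i hi u => ?_⟩
  obtain ⟨a, u', ha, hu⟩ := exists_row_conj u g fun y hy => hg y (lt_of_le_of_lt (Fin.le_def.1 hy) hi)
  rw [← Module.End.mul_apply, ← map_mul, rowE_mul_le u g a ha u' hu, map_mul, Module.End.mul_apply, hx.2 i hi]

theorem rowE_mul_tor {i : Fin m} (d : ↥(sqDet F m)) (u : ↥(RowSp F i)) :
    ∃ u' : ↥(RowSp F i), (∀ l, u'.1 l = (((d.1 i)⁻¹ : Fˣ) : F) * d.1 l * u.1 l) ∧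
      S.rowE i u * S.tor d = S.tor d * S.rowE i u' := by
  refine ⟨⟨fun l => (((d.1 i)⁻¹ : Fˣ) : F) * d.1 l * u.1 l, fun l hl => ?_⟩, fun l => rfl, ?_⟩
  · show _ * u.1 l = 0
    rw [u.2 l hl, mul_zero]
  rw [rowE, rowE, tor_mul_le_tv]
  congr 1
  refine congrArg S.le (sl_ext fun v => ?_)
  rw [tv_mulVec, tv_mulVec]
  have e1 : (fun x => (d.1 x : F) * (Pi.single i 1 : Fin m → F) x) = (d.1 i : F) • Pi.single i 1 := funext fun x => by
    rcases eq_or_ne x i with rfl | hx <;> simp [*]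
  have e2 : (fun x => (((d.1 x)⁻¹ : Fˣ) : F) * ((((d.1 i)⁻¹ : Fˣ) : F) * d.1 x * u.1 x)) =
      (((d.1 i)⁻¹ : Fˣ) : F) • u.1 := funext fun x => by
    simp only [Pi.smul_apply, smul_eq_mul]
    linear_combination ((((d.1 i)⁻¹ : Fˣ) : F) * u.1 x) * (d.1 x).inv_mul
  show _ = _ + (_ ⬝ᵥ v) • _
  rw [e1, e2, smul_dotProduct, smul_eq_mul, smul_smul]
  congr 2
  linear_combination -(u.1 ⬝ᵥ v) * (d.1 i).mul_inv

theorem W_tor {n : ℕ} (d : ↥(sqDet F m)) {x : V} (hx : x ∈ S.W ρ n) : ρ (S.tor d) x ∈ S.W ρ n := by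
  refine ⟨VS_tor d hx.1, fun i hi u => ?_⟩
  obtain ⟨u', -, e⟩ := rowE_mul_tor (S := S) d u
  rw [← Module.End.mul_apply, ← map_mul, e, map_mul, Module.End.mul_apply, hx.2 i hi]

omit [Fintype F] in
theorem tv_single_fix {j : Fin m} (u : ↥(RowSp F j)) {y : Fin m} (hy : y ≤ j) :
    (tv (Pi.single j 1) u.1 (RowSp.dot j u)).1 *ᵥ Pi.single y 1 = Pi.single y 1 := by
  rw [tv_mulVec, dotProduct_single, u.2 y hy]; simp

theorem W_row {j : Fin m} {n : ℕ} (hn : n ≤ j + 1) (u : ↥(RowSp F j)) {x : V} (hx : x ∈ S.W ρ n) :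
    ρ (S.rowE j u) x ∈ S.W ρ n :=
  W_le _ (fun y hy => ⟨1, by rw [Units.val_one, one_smul]; exact tv_single_fix u (Fin.le_def.2 (by omega))⟩) hx

theorem fix_tv_of_W {j : Fin m} {x : V} (hx : x ∈ S.W ρ j) (c : Fin m → F) (hc : ∀ l, l < j → c l = 0)
    (b : Fin m → F) (hb : ∀ l, j ≤ l → b l = 0) (h : c ⬝ᵥ b = 0) : ρ (S.le (tv b c h)) x = x := by
  classical
  suffices key : ∀ s : Finset (Fin m), (∀ l ∈ s, l < j) → ∀ h,
      ρ (S.le (tv (∑ l ∈ s, b l • Pi.single l 1) c h)) x = x by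
    have e : b = ∑ l ∈ Finset.univ.filter (· < j), b l • Pi.single l 1 := by
      funext y
      rw [Finset.sum_apply]
      simp only [Pi.smul_apply, Pi.single_apply, smul_eq_mul, mul_ite, mul_one, mul_zero, Finset.sum_ite_eq,
        Finset.mem_filter, Finset.mem_univ, true_and]
      split_ifs with hy
      · rfl
      · exact hb y (not_lt.1 hy)
    have := key (Finset.univ.filter (· < j)) (fun l hl => (Finset.mem_filter.1 hl).2) (by rw [← e]; exact h)
    simp only [← e] at this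
    exact this
  intro s
  induction s using Finset.induction with
  | empty =>
    intro _ h
    have e : tv (∑ l ∈ (∅ : Finset (Fin m)), b l • (Pi.single l 1 : Fin m → F)) c h = 1 := sl_ext fun v => by
      rw [tv_mulVec, Finset.sum_empty, smul_zero, add_zero, sl_one_mulVec]
    rw [e, map_one, map_one, Module.End.one_apply]
  | insert l s hl ih =>
    intro hs h
    have h1 : c ⬝ᵥ (b l • Pi.single l 1) = 0 := by
      rw [dotProduct_smul, dotProduct_single, hc l (hs l (Finset.mem_insert_self l s))]; simp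
    have h2 : c ⬝ᵥ (∑ i ∈ s, b i • Pi.single i 1) = 0 := by
      rw [Finset.sum_insert hl, dotProduct_add, h1, zero_add] at h
      exact h
    have hmem : b l • c ∈ RowSp F l := fun y hy => by
      rw [Pi.smul_apply, hc y (lt_of_le_of_lt hy (hs l (Finset.mem_insert_self l s))), smul_zero]
    have e : tv (∑ i ∈ insert l s, b i • (Pi.single i 1 : Fin m → F)) c h =
        tv (Pi.single l 1) (b l • c) (RowSp.dot l ⟨_, hmem⟩) * tv (∑ i ∈ s, b i • Pi.single i 1) c h2 := by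
      rw [← tv_smul (Pi.single l 1) c (b l) (by
        rw [dotProduct_single, hc l (hs l (Finset.mem_insert_self l s)), zero_mul]), tv_add_left]
      simp only [Finset.sum_insert hl]
    rw [e, map_mul, map_mul, Module.End.mul_apply, ih (fun i hi => hs i (Finset.mem_insert_of_mem hi)) h2]
    exact hx.2 l (hs l (Finset.mem_insert_self l s)) ⟨_, hmem⟩

theorem proj_move' {I : Fin m} {g : ↥(Cfsg.Omega F Q)} {a : F} (ha : a ≠ 0) (he : act g (S.e I) = a • S.e I)
    (hf : act g (S.f I) = a⁻¹ • S.f I) (v : ι → F) (x : V) :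
    ρ g ((S.R ρ I).proj (S.chi ψ I v) x) = (S.R ρ I).proj (S.chi ψ I (a⁻¹ • act g v)) (ρ g x) := by
  have hmem : ∀ b : ↥(S.P I), a • act g b.1 ∈ S.P I := fun b => by
    refine (S.P I).smul_mem _ ⟨?_, ?_⟩
    · have h1 := pol_act g b.1 (S.e I)
      rw [he, psmul_right S.hQ, b.2.1] at h1
      exact (mul_eq_zero.1 h1).resolve_left ha
    · have h1 := pol_act g b.1 (S.f I)
      rw [hf, psmul_right S.hQ, b.2.2] at h1
      exact (mul_eq_zero.1 h1).resolve_left (inv_ne_zero ha)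
  let f : ↥(S.P I) → ↥(S.P I) := fun b => ⟨a • act g b.1, hmem b⟩
  have hf' : Function.Bijective f := (Finite.injective_iff_bijective).1 fun b b' e => Subtype.ext <| by
    have h := smul_right_injective (ι → F) ha (congrArg Subtype.val e)
    have h' := congrArg (act g⁻¹) h
    rwa [act_inv_act, act_inv_act] at h'
  have h := (S.R ρ I).proj_conj (g := ρ g) (χ := S.chi ψ I v) (χ' := S.chi ψ I (a⁻¹ • act g v)) hf' (fun b => by
    show ρ g * ρ (S.rp I b) = ρ (S.rp I (f b)) * ρ g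
    rw [← map_mul, ← map_mul]
    congr 1
    exact mul_inv_eq_iff_eq_mul.1 (S.move_rp he b)) fun b => by
      rw [chi_apply, chi_apply]
      show ψ (pol Q (a • act g b.1) (a⁻¹ • act g v)) = _
      rw [psmul_left S.hQ, psmul_right S.hQ, pol_act g, ← mul_assoc, mul_inv_cancel₀ ha, one_mul]
  exact congrArg (fun T : Module.End ℂ V => T x) h

variable {ψ} (H : S.Small ρ ψ)
include H

theorem Small.Sp_inj {j : Fin m} {r : ↥(RowSp F j)} (hr : r.1 ≠ 0) {x : V} (hx : x ∈ S.Sp ρ ψ j r.1)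
    (h0 : (S.R ρ j).proj (S.chi ψ j (S.vec (-r.1) 0 0)) x = 0) : x = 0 := by
  classical
  haveI := H.fd
  obtain ⟨hxW, hxr⟩ := (S.mem_Sp ρ ψ).1 hx
  rw [← (S.R ρ j).sum_proj_apply x]
  refine Finset.sum_eq_zero fun χ _ => ?_
  obtain ⟨⟨v, hv⟩, rfl⟩ := S.chi_surj H.hψ j χ
  set p := (S.R ρ j).proj (S.chi ψ j v) x with hp
  by_contra hp0
  have hpE : p ∈ S.Eg ρ ψ j v := (S.R ρ j).proj_mem _ x
  have hscal : ∀ a ∈ S.P j, ∀ s : ℂ, ρ (eich Q (S.e j) a) x = s • x → ψ (pol Q a v) = s := by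
    intro a ha s hs
    have h1 := congrArg (fun T : Module.End ℂ V => T x)
      ((S.R ρ j).proj_comm (g := (S.R ρ j).τ ⟨a, ha⟩) (fun b => by rw [← (S.R ρ j).add, ← (S.R ρ j).add, add_comm])
        (S.chi ψ j v))
    simp only [Module.End.mul_apply] at h1
    rw [show (S.R ρ j).τ ⟨a, ha⟩ x = s • x from hs, map_smul, ← hp] at h1
    exact smul_left_injective ℂ hp0 (((S.mem_Eg ρ ψ).1 hpE a ha).symm.trans h1)
  have hbe : S.be v = 0 := funext fun l => by
    rcases eq_or_ne l j with rfl | hl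
    · exact hv.1
    refine eq_zero_of_psi H.hψ fun t => ?_
    have h := hscal _ ((S.P j).smul_mem t (S.e_mem_P hl)) 1 (by rw [one_smul, ← zel_single]; exact hxW.1.1 _)
    rwa [psmul_left S.hQ, pcomm _ v, ← be_apply] at h
  have hkp : S.kp v = 0 := S.kp_eq_zero fun k hk => eq_zero_of_psi H.hψ fun t => by
    have h := hscal _ (S.K_le_P j (S.K.smul_mem t hk)) 1 (by rw [one_smul]; exact hxW.1.2 j _ (S.K.smul_mem t hk))
    rwa [psmul_left S.hQ] at h
  have hal : ∀ l, j < l → S.al v l = -r.1 l := fun l hl => by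
    refine eq_neg_of_add_eq_zero_left (eq_zero_of_psi H.hψ fun t => ?_)
    have hmem : (Pi.single l t : Fin m → F) ∈ RowSp F j := fun y hy => Pi.single_eq_of_ne (hy.trans_lt hl).ne _
    have h := hscal _ ((S.P j).smul_mem (-t) (S.f_mem_P hl.ne')) (ψ (t * r.1 l)) (by
      rw [S.eich_ef hl.ne, neg_neg, trv_eq_tv]
      have := hxr ⟨_, hmem⟩
      rw [single_dotProduct] at this
      exact this)
    rw [psmul_left S.hQ, pcomm _ v, ← al_apply] at h
    rw [mul_add, AddChar.map_add_eq_mul, ← h, ← AddChar.map_add_eq_mul]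
    rw [neg_mul, add_neg_cancel, AddChar.map_zero_eq_one]
  obtain ⟨i, hi⟩ : ∃ i, r.1 i ≠ 0 := Function.ne_iff.1 hr
  have hij : j < i := not_le.1 fun h => hi (r.2 i h)
  set b : Fin m → F := fun l => if l < j then -(r.1 i)⁻¹ * S.al v l else 0 with hb
  have hcb : (Pi.single i 1 : Fin m → F) ⬝ᵥ b = 0 := by
    rw [single_dotProduct, hb]
    simp [not_lt.2 hij.le]
  have hfix := fix_tv_of_W hxW (Pi.single i 1) (fun l hl => Pi.single_eq_of_ne (hl.trans hij).ne 1) b
    (fun l hl => if_neg (not_lt.2 hl)) hcb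
  have hFix : S.Fix j (S.le (tv b (Pi.single i 1) hcb)) := by
    refine ⟨?_, ?_⟩
    · rw [act_le_tv_e, Pi.single_eq_of_ne hij.ne, zero_smul, add_zero]
    · rw [act_le_tv_f, hb]
      simp
  have hv' : act (S.le (tv b (Pi.single i 1) hcb)) (S.vec (-r.1) 0 0) = v := by
    rw [le_vec S S.K.zero_mem, tv_mulVec, mulVec_zero, ← S.mk_coords v, hkp, hbe]
    congr 1
    funext l
    simp only [single_dotProduct, Pi.add_apply, Pi.smul_apply, Pi.neg_apply, smul_eq_mul, hb, one_mul]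
    rcases lt_trichotomy l j with h | rfl | h
    · rw [if_pos h, r.2 l h.le]
      field_simp
      ring
    · rw [if_neg (lt_irrefl l), r.2 l le_rfl]
      simpa [al_apply] using (hv.2).symm
    · rw [if_neg (not_lt.2 h.le), hal l h]
      simp
  have h1 := S.proj_move ρ ψ hFix (S.vec (-r.1) 0 0) x
  rw [h0, map_zero, hfix, hv'] at h1
  exact hp0 h1.symm

theorem Small.Sp_line {j : Fin m} {r : ↥(RowSp F j)} (hr : r.1 ≠ 0) {x y : V} (hx : x ∈ S.Sp ρ ψ j r.1)
    (hy : y ∈ S.Sp ρ ψ j r.1) (hx0 : x ≠ 0) : ∃ a : ℂ, y = a • x := by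
  set P := (S.R ρ j).proj (S.chi ψ j (S.vec (-r.1) 0 0))
  have hP : P x ≠ 0 := fun e => hx0 (H.Sp_inj hr hx e)
  have hmem : S.vec (-r.1) 0 0 ∈ S.P j := by
    refine ⟨?_, ?_⟩
    · rw [← be_apply, S.be_mk S.K.zero_mem]; rfl
    · rw [← al_apply, S.al_mk S.K.zero_mem, Pi.neg_apply, r.2 j le_rfl, neg_zero]
  have hne : S.vec (-r.1) 0 0 ≠ 0 := fun e => hr (by
    have := congrArg S.al e
    rw [S.al_mk S.K.zero_mem, map_zero, neg_eq_zero] at this
    exact this)
  obtain ⟨a, ha⟩ := H.line hmem hne ((S.R ρ j).proj_mem _ x) ((S.R ρ j).proj_mem _ y) hP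
  refine ⟨a, sub_eq_zero.1 (H.Sp_inj hr (Submodule.sub_mem _ hy (Submodule.smul_mem _ a hx)) ?_)⟩
  rw [map_sub, map_smul, ha, sub_self]

theorem Small.finrank_Sp_le {j : Fin m} {r : ↥(RowSp F j)} (hr : r.1 ≠ 0) :
    finrank ℂ (S.Sp ρ ψ j r.1) ≤ 1 :=
  haveI := H.fd
  finrank_le_one_of_line fun _ hx _ hy hx0 => H.Sp_line hr hx hy hx0

end Fr

end CfsgLib.Classical.OrthMin
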