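/-
Counting the vectors fixed by the Siegel radical row by row.
-/
import Cfsg.Agent.Lib.Classical.OrthMin.Siegel

set_option autoImplicit false

namespace CfsgLib.Classical.OrthMin

open Matrix Module Cfsg.Geo CfsgLib.Perm.Trans CfsgLib.Perm.Trans.Quad

variable {ι : Type} [Fintype ι] [DecidableEq ι] {F : Type*} [Field F] [Fintype F]
variable {Q : (ι → F) → F} {m : ℕ}
variable {V : Type*} [AddCommGroup V] [Module ℂ V]

local notation "pol" => QuadraticMap.polar

namespace Act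

variable {A : Type*} [AddCommGroup A] [Fintype A] (T : Act A V)

/-- The restriction to an invariant subspace. -/
noncomputable def restrict (U : Submodule ℂ V) (h : ∀ a, ∀ x ∈ U, T.τ a x ∈ U) : Act A ↥U where
  τ a := (T.τ a).restrict (h a)
  zero := LinearMap.ext fun x => Subtype.ext (by simp [T.zero])
  add a b := LinearMap.ext fun x => Subtype.ext (by simp [T.add])

theorem finrank_restrict_eig (U : Submodule ℂ V) (h : ∀ a, ∀ x ∈ U, T.τ a x ∈ U) (χ : AddChar A ℂ) :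
    finrank ℂ ((T.restrict U h).eig χ) = finrank ℂ (U ⊓ T.eig χ : Submodule ℂ V) := by
  have e : ((T.restrict U h).eig χ).map U.subtype = U ⊓ T.eig χ := by
    ext x
    simp only [Submodule.mem_map, Submodule.mem_inf, Submodule.coe_subtype, Subtype.exists, exists_and_right,
      exists_eq_right]
    constructor
    · rintro ⟨hx, hx'⟩
      exact ⟨hx, fun a => congrArg Subtype.val (hx' a)⟩
    · rintro ⟨hx, hx'⟩
      exact ⟨hx, fun a => Subtype.ext (hx' a)⟩
  rw [← e, Submodule.finrank_map_subtype_eq]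

end Act

theorem card_RowSp (j : Fin m) : Fintype.card ↥(RowSp F j) = Fintype.card F ^ (m - 1 - j) := by
  classical
  have e : ↥(RowSp F j) ≃ ({l : Fin m // j < l} → F) :=
    { toFun := fun u l => u.1 l.1
      invFun := fun f => ⟨fun l => if h : j < l then f ⟨l, h⟩ else 0, fun l hl => dif_neg (not_lt.2 hl)⟩
      left_inv := fun u => Subtype.ext (funext fun l => by
        by_cases h : j < l
        · simp [h]
        · simp only [dif_neg h]; exact (u.2 l (not_lt.1 h)).symm)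
      right_inv := fun f => funext fun l => dif_pos l.2 }
  rw [Fintype.card_congr e, Fintype.card_fun]
  congr 1
  rw [Fintype.card_subtype, ← Fin.card_Ioi]
  congr 1
  ext l
  simp

namespace Fr

variable {S : Fr Q m} {ρ : Representation ℂ ↥(Cfsg.Omega F Q) V} {ψ : AddChar F ℂ}

theorem W_succ_top {n : ℕ} (hn : m ≤ n) : S.W ρ n = S.VU ρ :=
  le_antisymm (S.W_anti ρ hn) (S.VU_le ρ n)

theorem Sp_le {j : Fin m} (g : SpecialLinearGroup (Fin m) F)
    (hg : ∀ y : Fin m, y ≤ j → ∃ a : Fˣ, g.1 *ᵥ Pi.single y 1 = (a : F) • Pi.single y 1) {a : Fˣ}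
    (ha : g.1 *ᵥ Pi.single j 1 = (a : F) • Pi.single j 1) {r r' : Fin m → F}
    (hr : (a : F) • r' = g.1 *ᵥ r) {x : V} (hx : x ∈ S.Sp ρ ψ j r) : ρ (S.le g) x ∈ S.Sp ρ ψ j r' := by
  rw [mem_Sp] at hx ⊢
  refine ⟨W_le g (fun y hy => hg y (Fin.le_def.2 hy.le)) hx.1, fun u => ?_⟩
  obtain ⟨b, u', hb, hu⟩ := exists_row_conj u g hg
  have hba : b = a := Units.ext <| by
    have h := congrFun (hb.symm.trans ha) j
    simpa using h
  subst hba
  rw [← Module.End.mul_apply, ← map_mul, rowE_mul_le u g b hb u' hu, map_mul, Module.End.mul_apply, hx.2 u', map_smul]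
  congr 2
  have h : (b : F) • (u.1 ⬝ᵥ r') = (b : F) • (u'.1 ⬝ᵥ r) := by
    rw [← dotProduct_smul, hr, dotProduct_mulVec, hu, smul_dotProduct]
  exact (mul_left_cancel₀ b.ne_zero h).symm

theorem Sp_tor {j : Fin m} (d : ↥(sqDet F m)) {r r' : Fin m → F}
    (hr : ∀ l, (d.1 j : F) * r' l = d.1 l * r l) {x : V} (hx : x ∈ S.Sp ρ ψ j r) :
    ρ (S.tor d) x ∈ S.Sp ρ ψ j r' := by
  rw [mem_Sp] at hx ⊢
  refine ⟨W_tor d hx.1, fun u => ?_⟩
  obtain ⟨u', hu', e⟩ := rowE_mul_tor (S := S) d u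
  rw [← Module.End.mul_apply, ← map_mul, e, map_mul, Module.End.mul_apply, hx.2 u', map_smul]
  congr 2
  refine Finset.sum_congr rfl fun l _ => ?_
  rw [hu']
  linear_combination -((((d.1 j)⁻¹ : Fˣ) : F) * u.1 l) * hr l + (u.1 l * r' l) * (d.1 j).inv_mul

theorem Sp_ne_bot_all {j J : Fin m} (hJ : (J : ℕ) = j + 1) {c : F} (hc : c ≠ 0)
    (h : S.Sp ρ ψ j (Pi.single J c) ≠ ⊥) (r : ↥(RowSp F j)) (hr : r.1 ≠ 0) : S.Sp ρ ψ j r.1 ≠ ⊥ := by
  have hjJ : j < J := Fin.lt_def.2 (by omega)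
  have step : ∀ {r r' : Fin m → F}, (∃ g : ↥(Cfsg.Omega F Q), ∀ x ∈ S.Sp ρ ψ j r, ρ g x ∈ S.Sp ρ ψ j r') →
      S.Sp ρ ψ j r ≠ ⊥ → S.Sp ρ ψ j r' ≠ ⊥ := by
    rintro r r' ⟨g, hg⟩ hne he
    obtain ⟨x, hx, hx0⟩ := Submodule.exists_mem_ne_zero_of_ne_bot hne
    have := hg x hx
    rw [he, Submodule.mem_bot] at this
    exact hx0 (rho_injective ρ g (by rw [this, map_zero]))
  -- the scalar multiples on the axis
  have hA : ∀ s : F, s ≠ 0 → S.Sp ρ ψ j (Pi.single J s) ≠ ⊥ := fun s hs => by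
    obtain ⟨l, hlj, hlJ⟩ := S.exists_ne_two j J
    refine step ⟨S.tor (hmn J l (Units.mk0 (s / c) (div_ne_zero hs hc))), fun x hx => Sp_tor _ (fun y => ?_) hx⟩ h
    rcases eq_or_ne y J with rfl | hy
    · simp [hmn_val, hjJ.ne, hlj.symm, hlJ.symm]
      field_simp
    · simp [hy]
  -- a nonzero first coordinate
  have hB : ∀ r : ↥(RowSp F j), r.1 J ≠ 0 → S.Sp ρ ψ j r.1 ≠ ⊥ := fun r hrJ => by
    set w : Fin m → F := fun l => if l = J then 0 else (r.1 J)⁻¹ * r.1 l with hw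
    have hw0 : (Pi.single J 1 : Fin m → F) ⬝ᵥ w = 0 := by simp [hw]
    refine step ⟨S.le (tv w (Pi.single J 1) hw0), fun x hx => Sp_le _ (fun y hy => ⟨1, ?_⟩) (a := 1) ?_ ?_ hx⟩ (hA _ hrJ)
    · rw [tv_mulVec, single_dotProduct, Pi.single_eq_of_ne (hy.trans_lt hjJ).ne']
      simp
    · rw [tv_mulVec, single_dotProduct, Pi.single_eq_of_ne hjJ.ne']
      simp
    · rw [Units.val_one, one_smul, tv_mulVec, single_dotProduct, Pi.single_eq_same, one_mul]
      funext l
      rcases eq_or_ne l J with rfl | hl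
      · simp [hw]
      · simp [hw, hl, mul_inv_cancel_left₀ hrJ]
  rcases eq_or_ne (r.1 J) 0 with hrJ | hrJ
  swap
  · exact hB r hrJ
  obtain ⟨i, hi⟩ : ∃ i, r.1 i ≠ 0 := Function.ne_iff.1 hr
  have hij : j < i := not_le.1 fun h => hi (r.2 i h)
  have hiJ : i ≠ J := fun e => hi (e ▸ hrJ)
  have hmem : r.1 + Pi.single J (r.1 i) ∈ RowSp F j := fun y hy => by
    rw [Pi.add_apply, r.2 y hy, Pi.single_eq_of_ne (hy.trans_lt hjJ).ne, add_zero]
  have hd : (Pi.single i (-1) : Fin m → F) ⬝ᵥ Pi.single J 1 = 0 := single_dot_single hiJ.symm 1 (-1)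
  refine step ⟨S.le (tv (Pi.single J 1) (Pi.single i (-1)) hd), fun x hx =>
    Sp_le _ (fun y hy => ⟨1, ?_⟩) (a := 1) ?_ ?_ hx⟩ (hB ⟨_, hmem⟩ (by simp [hrJ, hi]))
  · rw [tv_mulVec, single_dotProduct, Pi.single_eq_of_ne (hy.trans_lt hij).ne']
    simp
  · rw [tv_mulVec, single_dotProduct, Pi.single_eq_of_ne hij.ne']
    simp
  · rw [Units.val_one, one_smul, tv_mulVec, single_dotProduct]
    funext l
    rcases eq_or_ne l J with rfl | hl
    · simp [hiJ]
    · simp [hl, hiJ]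

theorem Rw_W (j : Fin m) (a : ↥(RowSp F j)) (x : V) (hx : x ∈ S.W ρ j) : (S.Rw ρ j).τ a x ∈ S.W ρ j :=
  W_row (Nat.le_succ _) a hx

theorem W_split [FiniteDimensional ℂ V] (hψ : ψ.IsPrimitive) (j : Fin m) :
    finrank ℂ (S.W ρ j) = ∑ r : ↥(RowSp F j), finrank ℂ (S.Sp ρ ψ j r.1) := by
  rw [((S.Rw ρ j).restrict (S.W ρ j) (Rw_W j)).finrank_eq_sum]
  refine (Fintype.sum_bijective _ (chiRow_bijective hψ j) _ _ fun r => ?_).symm
  rw [Act.finrank_restrict_eig]
  rfl

variable (H : S.Small ρ ψ)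
include H

theorem Small.W_upper (d : ℕ) (hd : d ≤ m) :
    (Fintype.card F - 1) * (finrank ℂ (S.W ρ (m - d)) + d) + 1 ≤
      (Fintype.card F - 1) * finrank ℂ (S.VU ρ) + Fintype.card F ^ d := by
  classical
  haveI := H.fd
  induction d with
  | zero => rw [Nat.sub_zero, VU, add_zero, pow_zero]
  | succ d ih =>
    have h := ih (by omega)
    set j : Fin m := ⟨m - (d + 1), by omega⟩
    have hj : m - d = (j : ℕ) + 1 := by simp [j]; omega
    have hcard : Fintype.card ↥(RowSp F j) = Fintype.card F ^ d := by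
      rw [card_RowSp]; congr 1; simp [j]; omega
    have hW := W_split (S := S) (ρ := ρ) H.hψ j
    rw [← Finset.add_sum_erase _ _ (Finset.mem_univ (0 : ↥(RowSp F j))), Submodule.coe_zero, Sp_zero, ← hj] at hW
    have hle : ∑ r ∈ Finset.univ.erase (0 : ↥(RowSp F j)), finrank ℂ (S.Sp ρ ψ j r.1) ≤ Fintype.card F ^ d - 1 := by
      refine (Finset.sum_le_card_nsmul _ _ 1 fun r hr => H.finrank_Sp_le ?_).trans ?_
      · exact fun e => (Finset.mem_erase.1 hr).1 (Subtype.ext e)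
      · rw [Finset.card_erase_of_mem (Finset.mem_univ _), Finset.card_univ, hcard, smul_eq_mul, mul_one]
    show (Fintype.card F - 1) * (finrank ℂ (S.W ρ (j : ℕ)) + (d + 1)) + 1 ≤ _
    rw [hW]
    have hp : 1 ≤ Fintype.card F ^ d := Nat.one_le_pow _ _ Fintype.card_pos
    have h2 : Fintype.card F ^ (d + 1) = (Fintype.card F - 1) * Fintype.card F ^ d + Fintype.card F ^ d := by
      rw [Nat.sub_mul, one_mul, pow_succ, mul_comm, Nat.sub_add_cancel (Nat.le_mul_of_pos_left _ Fintype.card_pos)]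
    calc (Fintype.card F - 1) * (finrank ℂ (S.W ρ (m - d)) +
          ∑ r ∈ Finset.univ.erase (0 : ↥(RowSp F j)), finrank ℂ (S.Sp ρ ψ j r.1) + (d + 1)) + 1
        ≤ (Fintype.card F - 1) * ((finrank ℂ (S.W ρ (m - d)) + d) + Fintype.card F ^ d) + 1 :=
          Nat.add_le_add_right (Nat.mul_le_mul_left _ (by omega)) 1
      _ ≤ _ := by rw [mul_add, h2]; omega

theorem Small.W_lower (hSp : ∀ j : Fin m, ∀ r : ↥(RowSp F j), r.1 ≠ 0 → S.Sp ρ ψ j r.1 ≠ ⊥) (d : ℕ) (hd : d ≤ m) :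
    (Fintype.card F - 1) * finrank ℂ (S.VU ρ) + Fintype.card F ^ d ≤
      (Fintype.card F - 1) * (finrank ℂ (S.W ρ (m - d)) + d) + 1 := by
  classical
  haveI := H.fd
  induction d with
  | zero => rw [Nat.sub_zero, VU, add_zero, pow_zero]
  | succ d ih =>
    have h := ih (by omega)
    set j : Fin m := ⟨m - (d + 1), by omega⟩
    have hj : m - d = (j : ℕ) + 1 := by simp [j]; omega
    have hcard : Fintype.card ↥(RowSp F j) = Fintype.card F ^ d := by
      rw [card_RowSp]; congr 1; simp [j]; omega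
    have hW := W_split (S := S) (ρ := ρ) H.hψ j
    rw [← Finset.add_sum_erase _ _ (Finset.mem_univ (0 : ↥(RowSp F j))), Submodule.coe_zero, Sp_zero, ← hj] at hW
    have hle : Fintype.card F ^ d - 1 ≤ ∑ r ∈ Finset.univ.erase (0 : ↥(RowSp F j)), finrank ℂ (S.Sp ρ ψ j r.1) := by
      refine le_trans ?_ (Finset.card_nsmul_le_sum _ _ 1 fun r hr => Submodule.one_le_finrank_iff.2 (hSp j r ?_))
      · rw [Finset.card_erase_of_mem (Finset.mem_univ _), Finset.card_univ, hcard, smul_eq_mul, mul_one]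
      · exact fun e => (Finset.mem_erase.1 hr).1 (Subtype.ext e)
    show _ ≤ (Fintype.card F - 1) * (finrank ℂ (S.W ρ (j : ℕ)) + (d + 1)) + 1
    rw [hW]
    have hp : 1 ≤ Fintype.card F ^ d := Nat.one_le_pow _ _ Fintype.card_pos
    have h2 : Fintype.card F ^ (d + 1) = (Fintype.card F - 1) * Fintype.card F ^ d + Fintype.card F ^ d := by
      rw [Nat.sub_mul, one_mul, pow_succ, mul_comm, Nat.sub_add_cancel (Nat.le_mul_of_pos_left _ Fintype.card_pos)]
    calc (Fintype.card F - 1) * finrank ℂ (S.VU ρ) + Fintype.card F ^ (d + 1)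
        ≤ (Fintype.card F - 1) * ((finrank ℂ (S.W ρ (m - d)) + d) + Fintype.card F ^ d) + 1 := by
          rw [mul_add, h2]; omega
      _ ≤ _ := Nat.add_le_add_right (Nat.mul_le_mul_left _ (by omega)) 1

/-- An axis vector fixed by the Siegel radical and moved by the first row. -/
theorem Small.VS_moved (i₀ i₁ : Fin m) (h01 : i₀ ≠ i₁) :
    ∃ x ∈ S.VS ρ, ∃ t : F, ρ (S.le (trv h01 t)) x ≠ x := by
  haveI := H.fd
  obtain ⟨w, hw, hw0⟩ := H.exists_e h01 (one_ne_zero (α := F))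
  rw [one_smul] at hw
  have hP : S.e i₁ ∈ S.P i₀ := S.e_mem_P h01.symm
  have hE : ∀ a ∈ S.P i₀, ρ (eich Q (S.e i₀) a) w = ψ (pol Q a (S.e i₁)) • w := (S.mem_Eg ρ ψ).1 hw
  have hfix : ∀ x, x ∈ S.Eg ρ ψ i₀ ((1 : F) • S.e i₁) ↔ x ∈ S.Eg ρ ψ i₀ (S.e i₁) := fun x => by rw [one_smul]
  have hz : ∀ k l t, ρ (S.zel (single k l t)) w = w := by
    intro k l t
    rcases eq_or_ne k l with rfl | hkl
    · rw [S.zel_congr (N := 0) (fun a b => ?_), zel_zero, map_one, Module.End.one_apply]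
      simp only [single_apply, Matrix.zero_apply, sub_zero, and_comm, sub_self]
    rcases eq_or_ne k i₀ with rfl | hk0
    · rw [zel_single, hE _ ((S.P k).smul_mem t (S.e_mem_P hkl.symm)), psmul_left S.hQ, S.pee, mul_zero,
        AddChar.map_zero_eq_one, one_smul]
    rcases eq_or_ne l i₀ with rfl | hl0
    · have e : S.zel (single k l t) = S.zel (single l k (-t)) := S.zel_congr fun a b => by
        simp only [single_apply, and_comm]
        split_ifs <;> simp
      rw [e, zel_single, hE _ ((S.P l).smul_mem _ (S.e_mem_P hkl)), psmul_left S.hQ, S.pee, mul_zero,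
        AddChar.map_zero_eq_one, one_smul]
    obtain ⟨a, ha⟩ := exists_sq_ne_one (F := F) H.hq
    obtain ⟨y, hy, hy1⟩ : ∃ y, (y = k ∨ y = l) ∧ y ≠ i₁ := by
      by_cases hk1 : k = i₁
      · exact ⟨l, Or.inr rfl, fun e => hkl (hk1.trans e.symm)⟩
      · exact ⟨k, Or.inl rfl, hk1⟩
    have hy0 : y ≠ i₀ := by rcases hy with rfl | rfl <;> assumption
    refine H.fix_of_scale hP (S.e_ne_zero i₁) (fun t => S.zel (single k l t))
      (fun s t => by rw [← zel_add, ← single_add])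
      (fun t => ⟨⟨S.act_zel_e _ _, ?_⟩, S.act_zel_e _ _⟩) (h := S.tor (dsq y a)) (fix_tor_dsq hy0.symm a) ?_ ha
      (fun t => ?_) t hw
    · rw [act_zel_f]
      simp [single_apply, hk0, hl0]
    · rw [act_tor_e, dsq_val, Pi.mulSingle_eq_of_ne hy1.symm]
      simp
    · rw [tor_mul_zel]
      congr 1
      refine congrArg S.zel ?_
      ext p q
      simp only [Matrix.of_apply, single_apply, dsq_val]
      split_ifs with h
      · obtain ⟨rfl, rfl⟩ := h
        rcases hy with rfl | rfl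
        · simp [hkl.symm]
        · simp [hkl]
          ring
      · simp
  have hz' : ∀ M, ρ (S.zel M) w = w := by
    intro M
    induction M using Matrix.induction_on' with
    | h_zero => rw [zel_zero, map_one, Module.End.one_apply]
    | h_add M N hM hN => rw [zel_add, map_mul, Module.End.mul_apply, hN, hM]
    | h_std_basis i j t => exact hz i j t
  have hK : ∀ i, ∀ k ∈ S.K, ρ (eich Q (S.e i) k) w = w := by
    have haway : ∀ i, i ≠ i₀ → i ≠ i₁ → ∀ k ∈ S.K, ρ (eich Q (S.e i) k) w = w := fun i h0 h1 k hk =>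
      (H.away_eK h01 h0 h1 hk 1 one_ne_zero).2 w ((hfix w).2 hw)
    intro i k hk
    rcases eq_or_ne i i₀ with rfl | hi0
    · rw [hE k (S.K_le_P i hk), hk.1, AddChar.map_zero_eq_one, one_smul]
    rcases eq_or_ne i i₁ with rfl | hi1
    · obtain ⟨l, hl0, hl1⟩ := S.exists_ne_two i₀ i
      set X := S.le (trv (Ne.symm hl1) (1 : F)) with hX
      have hXF : S.Fix i₀ X := S.le_trv_fix (Ne.symm hl1) h01 hl0.symm 1
      have hXe : act X (S.e i) = S.e i := by rw [hX, act_trv_e, if_neg hl1.symm]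
      have hXw : ∀ y ∈ S.Eg ρ ψ i₀ (S.e i), ρ X y ∈ S.Eg ρ ψ i₀ (S.e i) := fun y hy => by
        have := S.Eg_fix ρ ψ hXF (S.e i) hy
        rwa [hXe] at this
      obtain ⟨c, hc⟩ := H.line hP (S.e_ne_zero i) hw (hXw w hw) hw0
      have h := S.eich_conj (S.qe l) (S.pol_e_K l hk) X
      have e1 : act X (S.e l) = S.e l + S.e i := by rw [hX, act_trv_e, if_pos rfl, one_smul]
      have e2 : act X k = k := S.act_le_K _ hk
      rw [e1, e2, S.eich_add_left (S.qe l) (S.qe i) (S.pee l i) (S.pol_e_K l hk) (S.pol_e_K i hk),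
        mul_inv_eq_iff_eq_mul] at h
      have h2 := congrArg (fun g => ρ g w) h
      simp only [map_mul, Module.End.mul_apply, haway l hl0 hl1 k hk, hc, map_smul] at h2
      rw [← zel_single, hz'] at h2
      have hc0 : c ≠ 0 := fun e => hw0 (rho_injective ρ X (by rw [hc, e, zero_smul, map_zero]))
      have h3 := smul_right_injective V hc0 h2
      exact rho_injective ρ (eich Q (S.e l) k) (by rw [← h3, haway l hl0 hl1 k hk])
    exact haway i hi0 hi1 k hk
  refine ⟨w, ⟨hz', hK⟩, ?_⟩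
  by_contra hall
  push Not at hall
  refine hw0 ?_
  have h1 : (1 : F) = 0 := eq_zero_of_psi H.hψ fun t => by
    have h := hE _ ((S.P i₀).smul_mem t (S.f_mem_P h01.symm))
    rw [S.eich_ef h01, hall, psmul_left S.hQ, S.pfe, if_pos rfl] at h
    by_contra hne
    have : ((1 : ℂ) - ψ (t * 1)) • w = 0 := by rw [sub_smul, one_smul, ← h, sub_self]
    exact hw0 ((smul_eq_zero.1 this).resolve_left (sub_ne_zero.2 (Ne.symm hne)))
  exact absurd h1 one_ne_zero

end Fr

end CfsgLib.Classical.OrthMin
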