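/-
A node of the diagram of the Levi factor acting on the vectors fixed by the positive unipotent elements.
-/
import Cfsg.Agent.Lib.Classical.OrthMin.Rows

set_option autoImplicit false

namespace CfsgLib.Classical.OrthMin

open Matrix Module Cfsg.Geo CfsgLib.Perm.Trans CfsgLib.Perm.Trans.Quad

variable {ι : Type} [Fintype ι] [DecidableEq ι] {F : Type*} [Field F] [Fintype F]
variable {Q : (ι → F) → F} {m : ℕ}
variable {V : Type*} [AddCommGroup V] [Module ℂ V]

local notation "pol" => QuadraticMap.polar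

/-- The transformations of a pair of coordinates. -/
def OnPair (i j : Fin m) (h : SpecialLinearGroup (Fin m) F) : Prop :=
  (∀ y, y ≠ i → y ≠ j → h.1 *ᵥ Pi.single y 1 = Pi.single y 1) ∧
    ∀ y, (y = i ∨ y = j) → ∀ z, z ≠ i → z ≠ j → (h.1 *ᵥ Pi.single y 1) z = 0

theorem OnPair.trv {i j a b : Fin m} (hab : a ≠ b) (ha : (a = i ∧ b = j) ∨ (a = j ∧ b = i)) (t : F) :
    OnPair i j (Fr.trv hab t) := by
  constructor
  · intro y hyi hyj
    have hyb : y ≠ b := by rcases ha with ⟨-, rfl⟩ | ⟨-, rfl⟩ <;> assumption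
    rw [trv_mulVec, Pi.single_eq_of_ne hyb.symm, mul_zero, add_zero, Function.update_eq_self]
  · intro y hy z hzi hzj
    have hza : z ≠ a := by rcases ha with ⟨rfl, -⟩ | ⟨rfl, -⟩ <;> assumption
    have hzy : z ≠ y := by rcases hy with rfl | rfl <;> assumption
    rw [trv_mulVec, Function.update_of_ne hza, Pi.single_eq_of_ne hzy]

theorem OnPair.mul {i j : Fin m} {g h : SpecialLinearGroup (Fin m) F} (hg : OnPair i j g) (hh : OnPair i j h) :
    OnPair i j (g * h) := by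
  classical
  constructor
  · intro y hyi hyj
    rw [sl_mul_mulVec, hh.1 y hyi hyj, hg.1 y hyi hyj]
  · intro y hy z hzi hzj
    rw [sl_mul_mulVec]
    set v := h.1 *ᵥ Pi.single y 1
    have e : g.1 *ᵥ v = ∑ l, v l • (g.1 *ᵥ Pi.single l 1) := by
      conv_lhs => rw [← (Pi.basisFun F (Fin m)).sum_repr v]
      simp [mulVec_sum, mulVec_smul]
    rw [e, Finset.sum_apply]
    refine Finset.sum_eq_zero fun l _ => ?_
    rw [Pi.smul_apply]
    by_cases hl : l = i ∨ l = j
    · rw [hg.2 l hl z hzi hzj, smul_zero]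
    · push Not at hl
      rw [show v l = 0 from hh.2 y hy l hl.1 hl.2, zero_smul]

theorem OnPair.wel {i j : Fin m} (hij : i ≠ j) (t : F) : OnPair i j (wel hij t) :=
  ((OnPair.trv hij (Or.inl ⟨rfl, rfl⟩) _).mul (OnPair.trv hij.symm (Or.inr ⟨rfl, rfl⟩) _)).mul
    (OnPair.trv hij (Or.inl ⟨rfl, rfl⟩) _)

theorem wel_one_mulVec {i j : Fin m} (hij : i ≠ j) (v : Fin m → F) :
    (wel hij (1 : F)).1 *ᵥ v = Function.update (Function.update v i (v j)) j (-v i) := by
  rw [wel_mulVec hij one_ne_zero]; simp [wv]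

namespace Fr

variable (S : Fr Q m) (ρ : Representation ℂ ↥(Cfsg.Omega F Q) V)

noncomputable instance : Fintype Fˣ := Fintype.ofFinite _

/-- The Weyl element of a node. -/
noncomputable def nd {i j : Fin m} (hij : i ≠ j) : ↥(Cfsg.Omega F Q) := S.le (wel hij 1)

/-- The root element of a node. -/
noncomputable def xr {i j : Fin m} (hij : i ≠ j) (t : F) : ↥(Cfsg.Omega F Q) := S.le (trv hij t)

theorem xr_add {i j : Fin m} (hij : i ≠ j) (s t : F) : S.xr hij (s + t) = S.xr hij s * S.xr hij t := by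
  rw [xr, trv_add, map_mul]; rfl

theorem xr_zero {i j : Fin m} (hij : i ≠ j) : S.xr hij (0 : F) = 1 := by
  have h := S.xr_add hij 0 0
  rw [add_zero] at h
  exact left_eq_mul.1 h

theorem nd_mul_nd {i j : Fin m} (hij : i ≠ j) : S.nd hij * S.nd hij = S.tor (hmn i j (-1)) := by
  rw [tor_hmn_eq S hij, nd, ← map_mul]
  congr 1
  refine sl_ext fun v => ?_
  rw [sl_mul_mulVec, wel_one_mulVec, wel_one_mulVec, wel_word_mulVec]
  funext x
  rcases eq_or_ne x j with rfl | hxj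
  · simp [hmn_val, hij, hij.symm]
  rcases eq_or_ne x i with rfl | hxi
  · simp [hmn_val, hxj]
  · simp [hmn_val, hxi, hxj]

theorem nd_xr_nd {i j : Fin m} (hij : i ≠ j) {t : F} (ht : t ≠ 0) :
    S.nd hij * S.xr hij t * S.nd hij =
      S.xr hij (-t⁻¹) * S.nd hij * S.tor (hmn i j (-Units.mk0 t ht)) * S.xr hij (-t⁻¹) := by
  simp only [xr, nd, tor_hmn_eq S hij, ← map_mul]
  congr 1
  refine sl_ext fun v => ?_
  have hw : ∀ w : Fin m → F, (wel hij (((-Units.mk0 t ht : Fˣ) : F))).1 *ᵥ ((wel hij (-1)).1 *ᵥ w) = fun x =>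
      ((hmn i j (-Units.mk0 t ht)).1 x : F) * w x := fun w => by rw [← sl_mul_mulVec, wel_word_mulVec]
  simp only [sl_mul_mulVec, hw, wel_one_mulVec, trv_mulVec]
  funext x
  rcases eq_or_ne x j with rfl | hxj
  · simp [hmn_val, hij, hij.symm]
    field_simp
  rcases eq_or_ne x i with rfl | hxi
  · simp [hmn_val, hij, hij.symm]
    field_simp
    ring
  · simp [hmn_val, hxi, hxj]

theorem tor_xr {i j : Fin m} (hij : i ≠ j) (d : ↥(sqDet F m)) (t : F) :
    S.tor d * S.xr hij t = S.xr hij ((d.1 i : F) * (((d.1 j)⁻¹ : Fˣ) : F) * t) * S.tor d := by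
  rw [xr, xr, trv_eq_tv, tor_mul_le_tv, trv_eq_tv]
  congr 1
  refine congrArg S.le (sl_ext fun v => ?_)
  rw [tv_mulVec, tv_mulVec]
  funext x
  rcases eq_or_ne x i with rfl | hx
  · simp [dotProduct, Pi.single_apply, hij.symm]
    ring
  · simp [hx]

/-- A torus element with two entries exchanged. -/
def swd (i j : Fin m) (d : ↥(sqDet F m)) : ↥(sqDet F m) :=
  ⟨d.1 ∘ Equiv.swap i j, by
    obtain ⟨c, hc⟩ := d.2
    exact ⟨c, by rw [← hc]; exact Fintype.prod_equiv (Equiv.swap i j) _ _ fun _ => rfl⟩⟩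

theorem nd_tor {i j : Fin m} (hij : i ≠ j) (d : ↥(sqDet F m)) :
    S.nd hij * S.tor d = S.tor (swd i j d) * S.nd hij := by
  refine Subtype.ext ?_
  show S.leI (SpecialLinearGroup.toGL _) * S.leI (dgl d.1) = S.leI (dgl _) * S.leI (SpecialLinearGroup.toGL _)
  rw [← map_mul, ← map_mul]
  congr 1
  refine Units.ext (Matrix.ext_iff_mulVec.2 fun v => ?_)
  rw [Units.val_mul, Units.val_mul, ← mulVec_mulVec, ← mulVec_mulVec]
  simp only [SpecialLinearGroup.toGL, dgl, MonoidHom.coe_mk, OneHom.coe_mk, wel_one_mulVec]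
  funext x
  rcases eq_or_ne x j with rfl | hxj
  · simp [mulVec_diagonal, swd, hij.symm]
  rcases eq_or_ne x i with rfl | hxi
  · simp [mulVec_diagonal, swd, hxj]
  · simp [mulVec_diagonal, swd, hxi, hxj, Equiv.swap_apply_of_ne_of_ne hxi hxj]

theorem xr_lower {i j : Fin m} (hij : i ≠ j) (t : F) :
    S.nd hij * S.xr hij (-t) = S.xr hij.symm t * S.nd hij := by
  simp only [xr, nd, ← map_mul]
  congr 1
  refine sl_ext fun v => ?_
  simp only [sl_mul_mulVec, wel_one_mulVec, trv_mulVec]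
  funext x
  rcases eq_or_ne x j with rfl | hxj
  · simp [hij, hij.symm]
    ring
  rcases eq_or_ne x i with rfl | hxi
  · simp [hij, hij.symm]
  · simp [hxi, hxj]

theorem nd_eq {i j : Fin m} (hij : i ≠ j) :
    S.nd hij = S.xr hij (1 : F) * S.xr hij.symm (-1) * S.xr hij 1 := by
  simp only [xr, nd, wel, map_mul, inv_one]

/-- The operator of a node. -/
noncomputable def Top {i j : Fin m} (hij : i ≠ j) : Module.End ℂ V := ∑ t : F, ρ (S.xr hij t * S.nd hij)

/-- The vectors fixed by all positive unipotent elements but one root group. -/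
noncomputable def Zn (i j : Fin m) : Submodule ℂ V where
  carrier := {x | x ∈ S.VS ρ ∧ ∀ (k : Fin m) (u : ↥(RowSp F k)), (k = i → u.1 j = 0) → ρ (S.rowE k u) x = x}
  zero_mem' := ⟨zero_mem _, fun _ _ _ => map_zero _⟩
  add_mem' := fun {a b} ha hb => ⟨add_mem ha.1 hb.1, fun k u h => by rw [map_add, ha.2 k u h, hb.2 k u h]⟩
  smul_mem' := fun c a ha => ⟨Submodule.smul_mem _ c ha.1, fun k u h => by rw [map_smul, ha.2 k u h]⟩

/-- The torus acting on the module. -/
noncomputable def Tact : Act (Additive ↥(sqDet F m)) V where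
  τ d := ρ (S.tor (Additive.toMul d))
  zero := by rw [toMul_zero, map_one, map_one]
  add a b := by rw [toMul_add, map_mul, map_mul]

variable {S ρ}

theorem VU_le_Zn (i j : Fin m) : S.VU ρ ≤ S.Zn ρ i j := fun _ hx => ⟨hx.1, fun k u _ => hx.2 k k.2 u⟩

theorem Zn_le {i j : Fin m} (hj : (j : ℕ) = i + 1) {h : SpecialLinearGroup (Fin m) F} (hh : OnPair i j h)
    (hh' : OnPair i j h⁻¹) {x : V} (hx : x ∈ S.Zn ρ i j) : ρ (S.le h) x ∈ S.Zn ρ i j := by
  classical
  refine ⟨VS_le h hx.1, fun k u hu => ?_⟩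
  have key : ∀ y, (u.1 ᵥ* h.1) y = u.1 ⬝ᵥ (h.1 *ᵥ Pi.single y 1) := fun y => by
    rw [dotProduct_mulVec, dotProduct_single, mul_one]
  have hsum : ∀ y, (y = i ∨ y = j) → u.1 i = 0 → u.1 j = 0 → (u.1 ᵥ* h.1) y = 0 := fun y hy hui huj => by
    rw [key]
    refine Finset.sum_eq_zero fun z _ => ?_
    rcases eq_or_ne z i with rfl | hzi
    · rw [hui, zero_mul]
    rcases eq_or_ne z j with rfl | hzj
    · rw [huj, zero_mul]
    · rw [hh.2 y hy z hzi hzj, mul_zero]
  have hout : ∀ y, y ≠ i → y ≠ j → (u.1 ᵥ* h.1) y = u.1 y := fun y hyi hyj => by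
    rw [key, hh.1 y hyi hyj, dotProduct_single, mul_one]
  have hdot : (u.1 ᵥ* h.1) ⬝ᵥ ((h⁻¹).1 *ᵥ Pi.single k 1) = 0 := by
    rw [← dotProduct_mulVec, sl_mulVec_inv]; exact RowSp.dot k u
  have hconj : S.rowE k u * S.le h = S.le h * S.le (tv ((h⁻¹).1 *ᵥ Pi.single k 1) (u.1 ᵥ* h.1) hdot) := by
    rw [rowE, ← map_mul, ← map_mul]
    congr 1
    refine sl_ext fun v => ?_
    rw [sl_mul_mulVec, sl_mul_mulVec, tv_mulVec, tv_mulVec, mulVec_add, mulVec_smul, sl_mulVec_inv,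
      ← dotProduct_mulVec]
  rw [← Module.End.mul_apply, ← map_mul, hconj, map_mul, Module.End.mul_apply]
  congr 1
  by_cases hk : k = i ∨ k = j
  · have hui : u.1 i = 0 := u.2 i (Fin.le_def.2 (by rcases hk with rfl | rfl <;> omega))
    have huj : u.1 j = 0 := by
      rcases hk with rfl | rfl
      exacts [hu rfl, u.2 _ le_rfl]
    have hu' : u.1 ᵥ* h.1 = u.1 := funext fun y => by
      by_cases hy : y = i ∨ y = j
      · rw [hsum y hy hui huj]
        rcases hy with rfl | rfl <;> simp [hui, huj]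
      · push Not at hy
        exact hout y hy.1 hy.2
    set v := (h⁻¹).1 *ᵥ Pi.single k 1
    have hne : i ≠ j := fun e => by rw [e] at hj; omega
    have hv : v = v i • Pi.single i 1 + v j • Pi.single j 1 := funext fun z => by
      rcases eq_or_ne z i with rfl | hzi
      · simp [hne]
      rcases eq_or_ne z j with rfl | hzj
      · simp [hne.symm]
      · simp only [Pi.add_apply, Pi.smul_apply, Pi.single_eq_of_ne hzi, Pi.single_eq_of_ne hzj, smul_zero, add_zero]
        exact hh'.2 k hk z hzi hzj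
    have hlow : ∀ y, y ≤ j → u.1 y = 0 := fun y hy => by
      rcases hk with rfl | rfl
      · rcases eq_or_ne y j with rfl | hyj
        · exact huj
        · exact u.2 y (Fin.le_def.2 (by
            have := Fin.le_def.1 hy
            have := fun h => hyj (Fin.ext h)
            omega))
      · exact u.2 y hy
    have m1 : v i • u.1 ∈ RowSp F i := fun y hy => by
      rw [Pi.smul_apply, hlow y (hy.trans (Fin.le_def.2 (by omega))), smul_zero]
    have m2 : v j • u.1 ∈ RowSp F j := fun y hy => by rw [Pi.smul_apply, hlow y hy, smul_zero]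
    have e : S.le (tv v (u.1 ᵥ* h.1) hdot) = S.rowE i ⟨_, m1⟩ * S.rowE j ⟨_, m2⟩ := by
      rw [rowE, rowE, ← map_mul]
      congr 1
      refine sl_ext fun w => ?_
      rw [sl_mul_mulVec, tv_mulVec, tv_mulVec, tv_mulVec, hu']
      have h0 : (v i • u.1) ⬝ᵥ Pi.single j 1 = 0 := by
        rw [smul_dotProduct, dotProduct_single, huj]; simp
      conv_lhs => rw [hv]
      rw [dotProduct_add (v i • u.1), dotProduct_smul, h0, smul_zero, add_zero, smul_dotProduct, smul_dotProduct,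
        smul_add, smul_smul, smul_smul, smul_eq_mul, smul_eq_mul, mul_comm (v i), mul_comm (v j)]
      abel
    rw [e, map_mul, Module.End.mul_apply, hx.2 j ⟨_, m2⟩ (fun e => absurd e hne.symm),
      hx.2 i ⟨_, m1⟩ (fun _ => by simp [huj])]
  · push Not at hk
    have hek : (h⁻¹).1 *ᵥ Pi.single k 1 = Pi.single k 1 := hh'.1 k hk.1 hk.2
    have m1 : u.1 ᵥ* h.1 ∈ RowSp F k := fun y hy => by
      by_cases hy' : y = i ∨ y = j
      · have hik : (i : ℕ) ≤ k ∧ (j : ℕ) ≤ k := by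
          have := Fin.le_def.1 hy
          have := fun h => hk.1 (Fin.ext h)
          have := fun h => hk.2 (Fin.ext h)
          rcases hy' with rfl | rfl <;> omega
        exact hsum y hy' (u.2 i (Fin.le_def.2 hik.1)) (u.2 j (Fin.le_def.2 hik.2))
      · push Not at hy'
        rw [hout y hy'.1 hy'.2, u.2 y hy]
    have e : S.le (tv ((h⁻¹).1 *ᵥ Pi.single k 1) (u.1 ᵥ* h.1) hdot) = S.rowE k ⟨_, m1⟩ := by
      rw [rowE]
      congr 1
      refine sl_ext fun w => ?_
      rw [tv_mulVec, tv_mulVec, hek]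
    rw [e, hx.2 k ⟨_, m1⟩ (fun e => absurd e hk.1)]

theorem inv_wel_OnPair {i j : Fin m} (hij : i ≠ j) : OnPair i j (wel hij (1 : F))⁻¹ := by
  rw [wel, _root_.mul_inv_rev, _root_.mul_inv_rev, trv_inv, trv_inv]
  exact (OnPair.trv hij (Or.inl ⟨rfl, rfl⟩) _).mul
    ((OnPair.trv hij.symm (Or.inr ⟨rfl, rfl⟩) _).mul (OnPair.trv hij (Or.inl ⟨rfl, rfl⟩) _))

theorem Zn_xr {i j : Fin m} (hj : (j : ℕ) = i + 1) {a b : Fin m} (hab : a ≠ b)
    (ha : (a = i ∧ b = j) ∨ (a = j ∧ b = i)) (t : F) {x : V} (hx : x ∈ S.Zn ρ i j) :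
    ρ (S.xr hab t) x ∈ S.Zn ρ i j :=
  Zn_le hj (OnPair.trv hab ha t) (by rw [trv_inv]; exact OnPair.trv hab ha _) hx

theorem Zn_nd {i j : Fin m} (hij : i ≠ j) (hj : (j : ℕ) = i + 1) {x : V} (hx : x ∈ S.Zn ρ i j) :
    ρ (S.nd hij) x ∈ S.Zn ρ i j :=
  Zn_le hj (OnPair.wel hij 1) (inv_wel_OnPair hij) hx

theorem rowE_split {i j : Fin m} (hij : i ≠ j) (u : ↥(RowSp F i)) (hlt : i < j) :
    ∃ u' : ↥(RowSp F i), u'.1 j = 0 ∧ (∀ y, y ≠ j → u'.1 y = u.1 y) ∧
      S.rowE i u = S.xr hij (u.1 j) * S.rowE i u' := by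
  refine ⟨⟨Function.update u.1 j 0, fun y hy => ?_⟩, Function.update_self _ _ _,
    fun y hy => Function.update_of_ne hy _ _, ?_⟩
  · rcases eq_or_ne y j with rfl | h
    · simp
    · rw [Function.update_of_ne h, u.2 y hy]
  · rw [xr, rowE, rowE, ← map_mul, trv_eq_tv, tv_add]
    congr 1
    refine sl_ext fun v => ?_
    rw [tv_mulVec, tv_mulVec]
    congr 3
    funext y
    rcases eq_or_ne y j with rfl | h <;> simp [*]

theorem mem_VU_of_Zn {i j : Fin m} (hij : i ≠ j) (hj : (j : ℕ) = i + 1) {x : V} (hx : x ∈ S.Zn ρ i j)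
    (hfix : ∀ t : F, ρ (S.xr hij t) x = x) : x ∈ S.VU ρ := by
  refine ⟨hx.1, fun k _ u => ?_⟩
  rcases eq_or_ne k i with rfl | hk
  · obtain ⟨u', h0, -, e⟩ := rowE_split (S := S) hij u (Fin.lt_def.2 (by omega))
    rw [e, map_mul, Module.End.mul_apply, hx.2 k u' (fun _ => h0), hfix]
  · exact hx.2 k u fun e => absurd e hk

theorem xr_fix_VU {i j : Fin m} (hij : i ≠ j) (hlt : i < j) {x : V} (hx : x ∈ S.VU ρ) (t : F) :
    ρ (S.xr hij t) x = x := by
  have hmem : (Pi.single j t : Fin m → F) ∈ RowSp F i := fun y hy => Pi.single_eq_of_ne (hy.trans_lt hlt).ne _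
  have h := hx.2 i i.2 ⟨_, hmem⟩
  rwa [rowE, ← trv_eq_tv hij] at h

theorem Top_apply {i j : Fin m} (hij : i ≠ j) (b : V) :
    S.Top ρ hij b = ∑ t : F, ρ (S.xr hij t) (ρ (S.nd hij) b) := by
  rw [Top, LinearMap.sum_apply]
  exact Finset.sum_congr rfl fun t _ => by rw [map_mul, Module.End.mul_apply]

theorem xr_Top {i j : Fin m} (hij : i ≠ j) (b : V) (s : F) :
    ρ (S.xr hij s) (S.Top ρ hij b) = S.Top ρ hij b := by
  rw [Top_apply, map_sum]
  refine Fintype.sum_equiv (Equiv.addLeft s) _ _ fun t => ?_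
  rw [← Module.End.mul_apply, ← map_mul, ← xr_add]
  rfl

theorem Top_mem {i j : Fin m} (hij : i ≠ j) (hj : (j : ℕ) = i + 1) {b : V} (hb : b ∈ S.VU ρ) :
    S.Top ρ hij b ∈ S.VU ρ := by
  refine mem_VU_of_Zn hij hj ?_ (fun s => xr_Top hij b s)
  rw [Top_apply]
  exact Submodule.sum_mem _ fun t _ => Zn_xr hj hij (Or.inl ⟨rfl, rfl⟩) t (Zn_nd hij hj (VU_le_Zn i j hb))

theorem Top_eig {i j : Fin m} (hij : i ≠ j) {b : V} {χ : ↥(sqDet F m) → ℂ}
    (hχ : ∀ d, ρ (S.tor d) b = χ d • b) (d : ↥(sqDet F m)) :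
    ρ (S.tor d) (S.Top ρ hij b) = χ (swd i j d) • S.Top ρ hij b := by
  rw [Top_apply, map_sum, Finset.smul_sum]
  refine Fintype.sum_equiv (Equiv.mulLeft₀ ((d.1 i : F) * (((d.1 j)⁻¹ : Fˣ) : F))
    (mul_ne_zero (Units.ne_zero _) (Units.ne_zero _))) _ _ fun t => ?_
  rw [← Module.End.mul_apply, ← map_mul, tor_xr, map_mul, Module.End.mul_apply, ← map_smul]
  congr 1
  have e : swd i j (swd i j d) = d := Subtype.ext (funext fun x => by simp [swd])
  have h := S.nd_tor hij (swd i j d)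
  rw [e] at h
  rw [← Module.End.mul_apply, ← map_mul, ← h, map_mul, Module.End.mul_apply, hχ, map_smul]

theorem nd_Top {i j : Fin m} (hij : i ≠ j) (hlt : i < j) {b : V} (hb : b ∈ S.VU ρ)
    {χ : ↥(sqDet F m) → ℂ} (hχ : ∀ d, ρ (S.tor d) b = χ d • b) :
    ρ (S.nd hij) (S.Top ρ hij b) = χ (hmn i j (-1)) • b +
      ∑ t : Fˣ, χ (hmn i j (-t)) • ρ (S.xr hij (-(t : F)⁻¹)) (ρ (S.nd hij) b) := by
  classical
  rw [Top_apply, map_sum, ← Finset.add_sum_erase _ _ (Finset.mem_univ (0 : F))]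
  congr 1
  · rw [xr_zero, map_one, Module.End.one_apply, ← Module.End.mul_apply, ← map_mul, nd_mul_nd, hχ]
  · refine (Finset.sum_bij (fun (t : Fˣ) _ => (t : F)) (fun t _ => by simp) (fun a _ b _ h => Units.ext h)
      (fun t ht => ⟨Units.mk0 t (Finset.ne_of_mem_erase ht), Finset.mem_univ _, rfl⟩) fun t _ => ?_).symm
    rw [← Module.End.mul_apply (ρ (S.nd hij)), ← map_mul, ← Module.End.mul_apply (ρ (S.nd hij * _)), ← map_mul,
      S.nd_xr_nd hij t.ne_zero, Units.mk0_val]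
    simp only [map_mul, Module.End.mul_apply]
    rw [xr_fix_VU hij hlt hb, hχ, map_smul, map_smul]

theorem Top_Top {i j : Fin m} (hij : i ≠ j) (hlt : i < j) {b : V} (hb : b ∈ S.VU ρ)
    {χ : ↥(sqDet F m) → ℂ} (hχ : ∀ d, ρ (S.tor d) b = χ d • b) :
    S.Top ρ hij (S.Top ρ hij b) = ((Fintype.card F : ℂ) * χ (hmn i j (-1))) • b +
      (∑ t : Fˣ, χ (hmn i j (-t))) • S.Top ρ hij b := by
  classical
  rw [Top_apply hij (S.Top ρ hij b)]
  simp only [nd_Top hij hlt hb hχ, map_add, map_smul, map_sum, Finset.sum_add_distrib]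
  congr 1
  · rw [Finset.sum_congr rfl fun s _ => by rw [xr_fix_VU hij hlt hb], Finset.sum_const, Finset.card_univ,
      ← Nat.cast_smul_eq_nsmul ℂ, smul_smul]
  · rw [Finset.sum_comm, Finset.sum_smul]
    refine Finset.sum_congr rfl fun t _ => ?_
    rw [← Finset.smul_sum]
    congr 1
    rw [Top_apply]
    refine Fintype.sum_equiv (Equiv.addRight (-(t : F)⁻¹)) _ _ fun s => ?_
    rw [← Module.End.mul_apply, ← map_mul, ← xr_add]
    rfl

/-- The nontrivial part of the image of a fixed vector under the Weyl element. -/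
noncomputable def rem (S : Fr Q m) (ρ : Representation ℂ ↥(Cfsg.Omega F Q) V) {i j : Fin m} (hij : i ≠ j) (b : V) :
    V := ρ (S.nd hij) b - (Fintype.card F : ℂ)⁻¹ • S.Top ρ hij b

theorem rem_zero_fix {i j : Fin m} (hij : i ≠ j) {b : V} (h : rem S ρ hij b = 0) (t : F) :
    ρ (S.xr hij.symm t) b = b := by
  have h' : ρ (S.nd hij) b = (Fintype.card F : ℂ)⁻¹ • S.Top ρ hij b := sub_eq_zero.1 h
  have hx : ρ (S.xr hij (-t)) (ρ (S.nd hij) b) = ρ (S.nd hij) b := by rw [h', map_smul, xr_Top]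
  have e : S.xr hij.symm t = S.nd hij * S.xr hij (-t) * (S.nd hij)⁻¹ := by rw [xr_lower]; group
  -- conjugate back by the square
  have h2 : ρ (S.nd hij)⁻¹ (ρ (S.nd hij) b) = b := by
    rw [← Module.End.mul_apply, ← map_mul, inv_mul_cancel, map_one, Module.End.one_apply]
  have e2 : S.xr hij.symm t = (S.nd hij)⁻¹ * S.xr hij (-t) * S.nd hij := by
    have h1 : S.nd hij * S.xr hij.symm t * (S.nd hij)⁻¹ = S.xr hij (-t) := by
      rw [e]
      have hc : S.nd hij * S.nd hij * S.xr hij (-t) = S.xr hij (-t) * (S.nd hij * S.nd hij) := by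
        rw [nd_mul_nd, tor_xr]
        congr 2
        simp [hmn_val, hij, hij.symm]
      calc S.nd hij * (S.nd hij * S.xr hij (-t) * (S.nd hij)⁻¹) * (S.nd hij)⁻¹
          = S.nd hij * S.nd hij * S.xr hij (-t) * (S.nd hij * S.nd hij)⁻¹ := by group
        _ = S.xr hij (-t) := by rw [hc]; group
    rw [← h1]; group
  rw [e2, map_mul, map_mul, Module.End.mul_apply, Module.End.mul_apply, hx, h2]

end Fr

end CfsgLib.Classical.OrthMin
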