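/-
Highest weight vectors: existence, the alternative at a node, and the criterion for being fixed by the group.
-/
import Cfsg.Agent.Lib.Classical.OrthMin.Node
import Cfsg.Agent.Lib.LinDeg.Bound
import Cfsg.Agent.Lib.LinDeg.Constituent

set_option autoImplicit false

namespace CfsgLib.Classical.OrthMin

open Matrix Module Cfsg.Geo CfsgLib.Perm.Trans CfsgLib.Perm.Trans.Quad CfsgLib.LinDeg

variable {ι : Type} [Fintype ι] [DecidableEq ι] {F : Type*} [Field F] [Fintype F]
variable {Q : (ι → F) → F} {m : ℕ}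
variable {V : Type*} [AddCommGroup V] [Module ℂ V]

local notation "pol" => QuadraticMap.polar

namespace Fr

variable (S : Fr Q m) (ρ : Representation ℂ ↥(Cfsg.Omega F Q) V)

/-- A root group acting on the module. -/
noncomputable def Xact {i j : Fin m} (hij : i ≠ j) : Act F V where
  τ t := ρ (S.xr hij t)
  zero := by rw [xr_zero, map_one]
  add a b := by rw [xr_add, map_mul]

variable {S ρ} {ψ : AddChar F ℂ} (H : S.Small ρ ψ)
include H

/-- Excluded small cases do not occur. -/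
theorem Small.not_four : ¬ (Fintype.card F = 4 ∧ m = 3) := by
  rintro ⟨h4, h3⟩
  rcases H.hkind with hp | ⟨z, hz⟩
  · have := hp.four
    omega
  · have h := Nat.cast_card_eq_zero F
    rw [h4] at h
    have h2 : (2 : F) * 2 = 0 := by
      have e : ((4 : ℕ) : F) = 2 * 2 := by norm_num
      rw [← e]; exact h
    exact hz.two_ne (mul_self_eq_zero.1 h2)

/-- There are nonzero vectors fixed by all positive unipotent elements. -/
theorem Small.VU_ne : S.VU ρ ≠ ⊥ := by
  classical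
  haveI := H.fd
  intro hbot
  have hm3 := S.hm
  have hq := H.hq
  obtain ⟨j, rfl⟩ : ∃ j, m = j + 1 := ⟨m - 1, by omega⟩
  let σ : Representation ℂ (SpecialLinearGroup (Fin (j + 1)) F) ↥(S.VS ρ) :=
    { toFun := fun g => (ρ (S.le g)).restrict fun x hx => VS_le g hx
      map_one' := LinearMap.ext fun x => Subtype.ext (by simp)
      map_mul' := fun g h => LinearMap.ext fun x => Subtype.ext (by simp) }
  have h01 : (⟨0, by omega⟩ : Fin (j + 1)) ≠ ⟨1, by omega⟩ := by simp
  obtain ⟨x, hx, t, ht⟩ := H.VS_moved _ _ h01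
  set v : Fin j → F := fun _ => 1
  have hv : v ≠ 0 := fun h => one_ne_zero (congrFun h ⟨0, by omega⟩)
  have hσ : σ (uSL v) ≠ 1 := by
    intro h
    have htop := eq_top_of_transv (by omega) (MonoidHom.ker σ) (uSL_isTransv hv) (MonoidHom.mem_ker.2 h)
    have h1 : σ (trv h01 t) = 1 := MonoidHom.mem_ker.1 (htop ▸ Subgroup.mem_top _)
    exact ht (congrArg Subtype.val (LinearMap.congr_fun h1 ⟨x, hx⟩))
  obtain ⟨n, τ, hτ, hτ1, hn⟩ := exists_irr_ne_one σ hσ
  haveI := hτ
  have hb := sl_bound (m := j) (by omega) (fun e => by omega) (fun e => by omega)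
    (fun e => H.not_four ⟨e.1, by omega⟩) τ ⟨v, hτ1⟩
  have hu := H.W_upper (j + 1) le_rfl
  rw [Nat.sub_self, W_zero, hbot, finrank_bot, mul_zero, zero_add, ← geo_mul_pred (Fintype.card F) (j + 1) (by omega),
    add_le_add_iff_right, mul_comm _ (Fintype.card F - 1)] at hu
  have := Nat.le_of_mul_le_mul_left hu (by omega)
  omega

/-- An eigenvector of the torus among them. -/
theorem Small.exists_weight : ∃ b ∈ S.VU ρ, b ≠ 0 ∧ ∃ χ : ↥(sqDet F m) → ℂ, ∀ d, ρ (S.tor d) b = χ d • b := by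
  classical
  haveI : Fintype (Additive ↥(sqDet F m)) := Fintype.ofFinite _
  obtain ⟨x, hx, hx0⟩ := Submodule.exists_mem_ne_zero_of_ne_bot H.VU_ne
  obtain ⟨χ, hχ⟩ := (S.Tact ρ).exists_proj_ne_zero hx0
  refine ⟨(S.Tact ρ).proj χ x, ?_, hχ, fun d => χ (Additive.ofMul d), fun d => ?_⟩
  · rw [Act.proj, LinearMap.smul_apply, LinearMap.sum_apply]
    exact Submodule.smul_mem _ _ (Submodule.sum_mem _ fun a _ => Submodule.smul_mem _ _ (W_tor _ hx))
  · exact (S.Tact ρ).proj_mem χ x (Additive.ofMul d)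

/-- The torus acts on a row eigenspace of an axis by the sign. -/
theorem Small.Sp_axis_scalar {i j : Fin m} (hlt : i < j) {c : F} (hc : c ≠ 0) {p : V}
    (hp : p ∈ S.Sp ρ ψ i (Pi.single j c)) (d : ↥(sqDet F m)) (hd : d.1 i = d.1 j) :
    ρ (S.tor d) p = S.sg (d.1 i) • p := by
  have hij : i ≠ j := hlt.ne
  let r : ↥(RowSp F i) := ⟨Pi.single j c, fun l hl => Pi.single_eq_of_ne (hl.trans_lt hlt).ne _⟩
  have hr : r.1 ≠ 0 := fun e => hc (by simpa [r] using congrFun e j)
  have hdp : ρ (S.tor d) p ∈ S.Sp ρ ψ i r.1 := Sp_tor d (fun l => by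
    rcases eq_or_ne l j with rfl | hl
    · rw [hd]
    · simp [r, hl]) hp
  have hv : S.vec (-r.1) 0 0 = (-c) • S.e j := by
    simp [r, vec, Pi.single_apply]
  have he := S.act_tor_e d i
  have hf := S.act_tor_f d i
  rw [Units.val_inv_eq_inv_val] at hf
  have hP := S.proj_move' (ρ := ρ) (ψ := ψ) (d.1 i).ne_zero he hf (S.vec (-r.1) 0 0) p
  have hv' : (d.1 i : F)⁻¹ • act (S.tor d) (S.vec (-r.1) 0 0) = S.vec (-r.1) 0 0 := by
    rw [hv, act_smul, act_tor_e, ← hd, smul_comm (-c), smul_smul, inv_mul_cancel₀ (d.1 i).ne_zero, one_smul]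
  rw [hv'] at hP
  have hmem : (S.R ρ i).proj (S.chi ψ i (S.vec (-r.1) 0 0)) p ∈ S.Eg ρ ψ i ((-c) • S.e j) := by
    have := (S.R ρ i).proj_mem (S.chi ψ i (S.vec (-r.1) 0 0)) p
    rw [Eg, ← hv]
    exact this
  rw [H.tor_scalar hij (neg_ne_zero.2 hc) d hd hmem] at hP
  refine sub_eq_zero.1 (H.Sp_inj hr (Submodule.sub_mem _ hdp (Submodule.smul_mem _ _ hp)) ?_)
  rw [map_sub, map_smul, hP, sub_self]

/-- The alternative at a node. -/
theorem Small.rem_component {i j : Fin m} (hij : i ≠ j) (hj : (j : ℕ) = i + 1) {b : V} (hb : b ∈ S.VU ρ)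
    (h : rem S ρ hij b ≠ 0) :
    ∃ c : F, c ≠ 0 ∧ (S.Xact ρ hij).proj (ψ.mulShift c) (ρ (S.nd hij) b) ≠ 0 ∧
      (S.Xact ρ hij).proj (ψ.mulShift c) (ρ (S.nd hij) b) ∈ S.Sp ρ ψ i (Pi.single j c) := by
  classical
  have hbij : Function.Bijective fun c : F => ψ.mulShift c := by
    rw [Fintype.bijective_iff_injective_and_card]
    refine ⟨fun a a' h => sub_eq_zero.1 (eq_zero_of_psi H.hψ fun t => ?_), AddChar.card_eq.symm⟩
    have h1 := congrArg (fun φ : AddChar F ℂ => φ t) h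
    simp only [AddChar.mulShift_apply] at h1
    rw [mul_sub, AddChar.map_sub_eq_div, mul_comm t, mul_comm t, h1, div_self (AddChar.val_isUnit ψ _).ne_zero]
  set y := ρ (S.nd hij) b with hy
  have hsum : ∑ c : F, (S.Xact ρ hij).proj (ψ.mulShift c) y = y :=
    ((Equiv.ofBijective _ hbij).sum_comp fun φ => (S.Xact ρ hij).proj φ y).trans ((S.Xact ρ hij).sum_proj_apply y)
  have h0 : (S.Xact ρ hij).proj (ψ.mulShift 0) y = (Fintype.card F : ℂ)⁻¹ • S.Top ρ hij b := by
    rw [Act.proj, LinearMap.smul_apply, LinearMap.sum_apply, Top_apply]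
    congr 1
    refine Finset.sum_congr rfl fun t _ => ?_
    rw [LinearMap.smul_apply, AddChar.mulShift_apply, zero_mul, AddChar.map_zero_eq_one, one_smul]
    rfl
  obtain ⟨c, hc, hne⟩ : ∃ c : F, c ≠ 0 ∧ (S.Xact ρ hij).proj (ψ.mulShift c) y ≠ 0 := by
    by_contra hno
    push Not at hno
    apply h
    rw [rem, ← hy, sub_eq_zero, ← h0]
    conv_lhs => rw [← hsum]
    exact Finset.sum_eq_single 0 (fun c _ hc => hno c hc) fun h => absurd (Finset.mem_univ _) h
  refine ⟨c, hc, hne, ?_⟩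
  set p := (S.Xact ρ hij).proj (ψ.mulShift c) y
  have hyZ : y ∈ S.Zn ρ i j := Zn_nd hij hj (VU_le_Zn i j hb)
  have hpZ : p ∈ S.Zn ρ i j := by
    show (S.Xact ρ hij).proj _ y ∈ _
    rw [Act.proj, LinearMap.smul_apply, LinearMap.sum_apply]
    exact Submodule.smul_mem _ _ (Submodule.sum_mem _ fun t _ =>
      Submodule.smul_mem _ _ (Zn_xr hj hij (Or.inl ⟨rfl, rfl⟩) t hyZ))
  rw [mem_Sp]
  refine ⟨⟨hpZ.1, fun k hk u => hpZ.2 k u fun e => absurd (congrArg Fin.val e) hk.ne⟩, fun u => ?_⟩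
  obtain ⟨u', h0', -, e⟩ := rowE_split (S := S) hij u (Fin.lt_def.2 (by omega))
  rw [e, map_mul, Module.End.mul_apply, hpZ.2 i u' (fun _ => h0')]
  have := (S.Xact ρ hij).proj_mem (ψ.mulShift c) y (u.1 j)
  rw [show ρ (S.xr hij (u.1 j)) p = _ from this, AddChar.mulShift_apply, dotProduct_single, mul_comm]

theorem Small.Sp_of_rem {i j : Fin m} (hij : i ≠ j) (hj : (j : ℕ) = i + 1) {b : V} (hb : b ∈ S.VU ρ)
    (h : rem S ρ hij b ≠ 0) (r : ↥(RowSp F i)) (hr : r.1 ≠ 0) : S.Sp ρ ψ i r.1 ≠ ⊥ := by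
  obtain ⟨c, hc, hne, hp⟩ := H.rem_component hij hj hb h
  exact Sp_ne_bot_all hj hc (fun e => hne (by rwa [e, Submodule.mem_bot] at hp)) r hr

/-- A weight vector moved at a node has the sign as its weight on the kernel of the root. -/
theorem Small.flip {i j : Fin m} (hij : i ≠ j) (hj : (j : ℕ) = i + 1) {b : V} (hb : b ∈ S.VU ρ)
    {χ : ↥(sqDet F m) → ℂ} (hχ : ∀ d, ρ (S.tor d) b = χ d • b) (h : rem S ρ hij b ≠ 0)
    (d : ↥(sqDet F m)) (hd : d.1 i = d.1 j) : χ d = S.sg (d.1 i) := by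
  obtain ⟨c, hc, hne, hp⟩ := H.rem_component hij hj hb h
  set p := (S.Xact ρ hij).proj (ψ.mulShift c) (ρ (S.nd hij) b)
  have h1 : ρ (S.tor d) p = χ d • p := by
    have hcomm := congrArg (fun T : Module.End ℂ V => T (ρ (S.nd hij) b))
      ((S.Xact ρ hij).proj_comm (g := ρ (S.tor d)) (fun t => by
        show ρ _ * ρ _ = ρ _ * ρ _
        rw [← map_mul, ← map_mul, tor_xr, hd, Units.mul_inv, one_mul]) (ψ.mulShift c))
    simp only [Module.End.mul_apply] at hcomm
    have hs : swd i j d = d := Subtype.ext (funext fun x => by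
      rcases eq_or_ne x i with rfl | hxi
      · simp [swd, hd]
      rcases eq_or_ne x j with rfl | hxj
      · simp [swd, hd]
      · simp [swd, Equiv.swap_apply_of_ne_of_ne hxi hxj])
    have h2 : ρ (S.tor d) (ρ (S.nd hij) b) = χ d • ρ (S.nd hij) b := by
      have := S.nd_tor hij d
      rw [hs] at this
      rw [← Module.End.mul_apply, ← map_mul, ← this, map_mul, Module.End.mul_apply, hχ, map_smul]
    rw [h2, map_smul] at hcomm
    exact hcomm
  rw [H.Sp_axis_scalar (Fin.lt_def.2 (by omega)) hc hp d hd] at h1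
  exact (smul_left_injective ℂ hne h1).symm

omit H

/-- The stabiliser of a vector. -/
noncomputable def stab (ρ : Representation ℂ ↥(Cfsg.Omega F Q) V) (b : V) : Subgroup ↥(Cfsg.Omega F Q) where
  carrier := {g | ρ g b = b}
  one_mem' := by simp
  mul_mem' := fun {g h} hg hh => by
    show ρ (g * h) b = b
    rw [map_mul, Module.End.mul_apply, hh, hg]
  inv_mem' := fun {g} hg => by
    show ρ g⁻¹ b = b
    conv_lhs => rw [← hg]
    rw [← Module.End.mul_apply, ← map_mul, inv_mul_cancel, map_one, Module.End.one_apply]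

theorem mem_stab {b : V} {g : ↥(Cfsg.Omega F Q)} : g ∈ stab ρ b ↔ ρ g b = b := Iff.rfl

/-- A fixed vector is fixed by the whole Levi factor if it is fixed by the simple negative roots. -/
theorem trv_mem_stab {b : V} (hb : b ∈ S.VU ρ)
    (hlow : ∀ (i j : Fin m) (hij : i ≠ j), (j : ℕ) = i + 1 → ∀ t, ρ (S.xr hij.symm t) b = b)
    {x y : Fin m} (hxy : x ≠ y) (t : F) : S.le (trv hxy t) ∈ stab ρ b := by
  rcases lt_or_gt_of_ne hxy with h | h
  · exact xr_fix_VU hxy h hb t
  obtain ⟨n, hn⟩ : ∃ n, (x : ℕ) = y + 1 + n := ⟨x - y - 1, by have := Fin.lt_def.1 h; omega⟩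
  clear h
  induction n generalizing x y t with
  | zero => exact hlow y x hxy.symm hn t
  | succ n ih =>
    let z : Fin m := ⟨y + 1 + n, by omega⟩
    have hxz : x ≠ z := fun e => by rw [e] at hn; simp [z] at hn
    have hzy : z ≠ y := fun e => by have := congrArg Fin.val e; simp [z] at this; omega
    have e : trv hxy t = trv hxz t * trv hzy 1 * trv hxz (-t) * trv hzy (-1) := by
      refine sl_ext fun v => ?_
      simp only [sl_mul_mulVec, trv_mulVec]
      funext l
      rcases eq_or_ne l x with rfl | hlx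
      · simp [hxz, hxy, hxz.symm, hxy.symm, hzy, hzy.symm]
        ring
      rcases eq_or_ne l z with rfl | hlz
      · simp [hxz, hxy, hxz.symm, hxy.symm, hzy, hzy.symm]
      · simp [hlx, hlz]
    rw [e, map_mul, map_mul, map_mul]
    exact mul_mem (mul_mem (mul_mem (hlow z x hxz.symm (by simp [z]; omega) t) (ih hzy 1 rfl))
      (hlow z x hxz.symm (by simp [z]; omega) _)) (ih hzy _ rfl)

theorem act_nd_f {i j : Fin m} (hij : i ≠ j) : act (S.nd hij) (S.f j) = S.f i := by
  rw [nd_eq, act_mul, act_mul]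
  simp only [xr, act_trv_f, if_neg hij.symm, if_true, act_add, act_smul, sub_eq_add_neg, neg_smul, one_smul,
    neg_neg]
  abel

theorem act_nd_f_fix {i j l : Fin m} (hij : i ≠ j) (hli : l ≠ i) (hlj : l ≠ j) :
    act (S.nd hij) (S.f l) = S.f l := by
  rw [nd_eq, act_mul, act_mul]
  simp only [xr, act_trv_f, if_neg hli, if_neg hlj]

theorem nd_mem_stab {b : V} (hb : b ∈ S.VU ρ)
    (hlow : ∀ (i j : Fin m) (hij : i ≠ j), (j : ℕ) = i + 1 → ∀ t, ρ (S.xr hij.symm t) b = b)
    {i j : Fin m} (hij : i ≠ j) : S.nd hij ∈ stab ρ b := by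
  rw [nd_eq]
  exact mul_mem (mul_mem (trv_mem_stab hb hlow hij _) (trv_mem_stab hb hlow hij.symm _)) (trv_mem_stab hb hlow hij _)

include H

/-- A vector fixed by a set of generators vanishes. -/
theorem Small.eq_zero_of_fixed {b : V} (hb : b ∈ S.VU ρ)
    (hlow : ∀ (i j : Fin m) (hij : i ≠ j), (j : ℕ) = i + 1 → ∀ t, ρ (S.xr hij.symm t) b = b)
    (L o : Fin m) (hK : ∀ k ∈ S.K, ρ (eich Q (S.f L) k) b = b)
    (hff : ∀ l, l ≠ o → ∀ t : F, ρ (eich Q (S.f o) (t • S.f l)) b = b) : b = 0 := by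
  classical
  refine H.hfix b fun g => ?_
  have hKo : ∀ k ∈ S.K, eich Q (S.f o) k ∈ stab ρ b := by
    intro k hk
    rcases eq_or_ne o L with rfl | hoL
    · exact hK k hk
    have h := S.eich_conj (S.qf L) (S.pol_f_K L hk) (S.nd hoL)
    have e1 := act_nd_f (S := S) hoL
    have e2 : act (S.nd hoL) k = k := S.act_le_K _ hk
    rw [e1, e2] at h
    rw [← h]
    exact mul_mem (mul_mem (nd_mem_stab hb hlow hoL) (hK k hk)) (inv_mem (nd_mem_stab hb hlow hoL))
  have hz : ∀ M, S.zel M ∈ stab ρ b := hb.1.1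
  have key : ∀ (u : ι → F), Q u = 0 → (∀ l, pol Q u (S.e l) = 0 ∨ l = o) →
      (∀ l, pol Q u (S.f l) = 0 ∨ l = o) → (∀ k ∈ S.K, pol Q u k = 0) →
      (∀ l, l ≠ o → ∀ t : F, eich Q u (t • S.e l) ∈ stab ρ b) →
      (∀ l, l ≠ o → ∀ t : F, eich Q u (t • S.f l) ∈ stab ρ b) →
      (∀ k ∈ S.K, eich Q u k ∈ stab ρ b) → ∀ a ∈ S.P o, eich Q u a ∈ stab ρ b := by
    intro u hu hue huf huK he hf hk a ha
    let A : Submodule F (ι → F) :=
      { carrier := {a | pol Q u a = 0 ∧ ∀ s : F, eich Q u (s • a) ∈ stab ρ b}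
        zero_mem' := ⟨pzero_right S.hQ u, fun s => by rw [smul_zero, S.eich_zero hu]; exact one_mem _⟩
        add_mem' := fun {x y} hx hy => ⟨by rw [padd_right S.hQ, hx.1, hy.1, add_zero], fun s => by
          rw [smul_add, S.eich_add hu (by rw [psmul_right S.hQ, hx.1, mul_zero]) (by rw [psmul_right S.hQ, hy.1, mul_zero])]
          exact mul_mem (hx.2 s) (hy.2 s)⟩
        smul_mem' := fun c x hx => ⟨by rw [psmul_right S.hQ, hx.1, mul_zero], fun s => by
          rw [smul_smul]; exact hx.2 _⟩ }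
    have hA : a ∈ A := by
      rw [← S.mk_coords a, vec]
      refine A.add_mem (A.add_mem (A.sum_mem fun l _ => ?_) (A.sum_mem fun l _ => ?_))
        ⟨huK _ (S.kp_mem a), fun s => hk _ (S.K.smul_mem s (S.kp_mem a))⟩
      · rcases eq_or_ne l o with rfl | hl
        · rw [al_apply, ha.2, zero_smul]; exact A.zero_mem
        · exact A.smul_mem _ ⟨(hue l).resolve_right hl, fun s => he l hl s⟩
      · rcases eq_or_ne l o with rfl | hl
        · rw [be_apply, ha.1, zero_smul]; exact A.zero_mem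
        · exact A.smul_mem _ ⟨(huf l).resolve_right hl, fun s => hf l hl s⟩
    simpa using hA.2 1
  have htop := S.eq_top_of_radicals (stab ρ b) o
    (fun a ha => key (S.e o) (S.qe o) (fun l => Or.inl (S.pee o l))
      (fun l => by rw [S.pef]; by_cases h : o = l <;> simp [h])
      (fun k hk => S.pol_e_K o hk) (fun l _ t => by rw [← zel_single]; exact hz _)
      (fun l hl t => by rw [S.eich_ef hl.symm]; exact trv_mem_stab hb hlow hl.symm _)
      (fun k hk => hb.1.2 o k hk) a ha)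
    fun a ha => key (S.f o) (S.qf o) (fun l => by rw [S.pfe]; by_cases h : o = l <;> simp [h])
      (fun l => Or.inl (S.pff o l))
      (fun k hk => S.pol_f_K o hk) (fun l hl t => by
        have h1 : pol Q (S.f o) (t • S.e l) = 0 := by rw [psmul_right S.hQ, S.pfe, if_neg hl.symm, mul_zero]
        rw [S.eich_swap (S.qf o) (by rw [Quad.qsmul S.hQ, S.qe, mul_zero]) h1,
          S.eich_smul_left (S.qe l) (by rw [pneg_right S.hQ, S.pef, if_neg hl, neg_zero]), smul_neg, ← neg_smul,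
          S.eich_ef hl]
        exact trv_mem_stab hb hlow hl _)
      (fun l hl t => hff l hl t) hKo a ha
  exact mem_stab.1 (htop ▸ Subgroup.mem_top g)

end Fr

end CfsgLib.Classical.OrthMin
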