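/-
The graph automorphism given by exchanging the vectors of the last pair.
-/
import Cfsg.Agent.Lib.Classical.OrthMin.Flip

set_option autoImplicit false

namespace CfsgLib.Classical.OrthMin

open Matrix Module Cfsg.Geo CfsgLib.Perm.Trans CfsgLib.Perm.Trans.Quad

variable {ι : Type} [Fintype ι] [DecidableEq ι] {F : Type*} [Field F] [Fintype F]
variable {Q : (ι → F) → F} {m : ℕ}
variable {V : Type*} [AddCommGroup V] [Module ℂ V]

local notation "pol" => QuadraticMap.polar

namespace Fr

variable (S : Fr Q m) (L : Fin m)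

theorem omega_normal : (Cfsg.Omega F Q).Normal := inferInstance

/-- The automorphism. -/
noncomputable def twist : ↥(Cfsg.Omega F Q) →* ↥(Cfsg.Omega F Q) where
  toFun g := ⟨S.swI {L} * g.1 * (S.swI {L})⁻¹, omega_normal.conj_mem g.1 g.2 (S.swI {L})⟩
  map_one' := Subtype.ext (by simp)
  map_mul' g h := Subtype.ext (by simp [mul_assoc])

theorem twist_twist (g : ↥(Cfsg.Omega F Q)) : S.twist L (S.twist L g) = g := Subtype.ext (by
  show S.swI {L} * (S.swI {L} * g.1 * (S.swI {L})⁻¹) * (S.swI {L})⁻¹ = g.1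
  have h := S.swI_mul_self {L}
  rw [S.swI_inv {L}]
  calc S.swI {L} * (S.swI {L} * g.1 * S.swI {L}) * S.swI {L}
      = (S.swI {L} * S.swI {L}) * g.1 * (S.swI {L} * S.swI {L}) := by group
    _ = g.1 := by rw [h, one_mul, mul_one])

omit [Fintype F] in
theorem iact_swI_e (x : Fin m) : iact (S.swI {L}) (S.e x) = if x = L then S.f x else S.e x := by
  rw [vec_e, swI_vec S S.K.zero_mem]
  split_ifs with h
  · rw [vec_f S x]
    congr 1 <;> funext y <;> rcases eq_or_ne y x with rfl | hy <;> simp_all [Pi.single_apply]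
  · congr 1 <;> funext y <;> rcases eq_or_ne y x with rfl | hy <;> simp [*]

omit [Fintype F] in
theorem iact_swI_f (x : Fin m) : iact (S.swI {L}) (S.f x) = if x = L then S.e x else S.f x := by
  rw [vec_f, swI_vec S S.K.zero_mem]
  split_ifs with h
  · rw [vec_e S x]
    congr 1 <;> funext y <;> rcases eq_or_ne y x with rfl | hy <;> simp_all [Pi.single_apply]
  · congr 1 <;> funext y <;> rcases eq_or_ne y x with rfl | hy <;> simp [*]

omit [Fintype F] in
theorem iact_smul {g : ↥(Cfsg.isometryGroup F Q)} (c : F) (x : ι → F) : iact g (c • x) = c • iact g x :=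
  mulVec_smul _ _ _

theorem twist_eich {u a : ι → F} (hu : Q u = 0) (hua : pol Q u a = 0) :
    S.twist L (eich Q u a) = eich Q (iact (S.swI {L}) u) (iact (S.swI {L}) a) :=
  Subtype.ext (S.eich_conj_iso hu hua (S.swI {L}))

theorem twist_zel {a b : Fin m} (ha : a ≠ L) (hb : b ≠ L) (t : F) :
    S.twist L (S.zel (single a b t)) = S.zel (single a b t) := by
  rw [zel_single, S.twist_eich L (S.qe a) (by rw [psmul_right S.hQ, S.pee, mul_zero]), iact_smul, iact_swI_e,
    iact_swI_e, if_neg ha, if_neg hb]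

theorem twist_zel_last {a : Fin m} (ha : a ≠ L) (t : F) :
    S.twist L (S.zel (single a L t)) = S.le (trv ha (-t)) := by
  rw [zel_single, S.twist_eich L (S.qe a) (by rw [psmul_right S.hQ, S.pee, mul_zero]), iact_smul, iact_swI_e,
    iact_swI_e, if_neg ha, if_pos rfl, S.eich_ef ha]

theorem twist_trv {a b : Fin m} (hab : a ≠ b) (ha : a ≠ L) (hb : b ≠ L) (t : F) :
    S.twist L (S.le (trv hab t)) = S.le (trv hab t) := by
  rw [← neg_neg t, ← S.eich_ef hab,
    S.twist_eich L (S.qe a) (by rw [psmul_right S.hQ, S.pef, if_neg hab, mul_zero]), iact_smul, iact_swI_e,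
    iact_swI_f, if_neg ha, if_neg hb]

theorem twist_trv_last {a : Fin m} (ha : a ≠ L) (t : F) :
    S.twist L (S.le (trv ha t)) = S.zel (single a L (-t)) := by
  rw [← neg_neg t, ← S.eich_ef ha, neg_neg, zel_single,
    S.twist_eich L (S.qe a) (by rw [psmul_right S.hQ, S.pef, if_neg ha, mul_zero]), iact_smul, iact_swI_e,
    iact_swI_f, if_neg ha, if_pos rfl]

theorem twist_trv_first {a : Fin m} (ha : L ≠ a) (t : F) :
    S.twist L (S.le (trv ha t)) = eich Q (S.f L) ((-t) • S.f a) := by
  rw [← neg_neg t, ← S.eich_ef ha, neg_neg,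
    S.twist_eich L (S.qe L) (by rw [psmul_right S.hQ, S.pef, if_neg ha, mul_zero]), iact_smul, iact_swI_e,
    iact_swI_f, if_pos rfl, if_neg ha.symm]

/-- The torus element with one entry inverted. -/
def twd (d : ↥(sqDet F m)) : ↥(sqDet F m) :=
  ⟨fun x => if x = L then (d.1 x)⁻¹ else d.1 x, by
    obtain ⟨c, hc⟩ := d.2
    refine ⟨c * (d.1 L)⁻¹, ?_⟩
    have e : (fun x => if x = L then (d.1 x)⁻¹ else d.1 x) = d.1 * Pi.mulSingle L ((d.1 L)⁻¹ * (d.1 L)⁻¹) :=
      funext fun x => by
        by_cases h : x = L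
        · subst h; simp
        · simp [h]
    simp only [e, Pi.mul_apply, Finset.prod_mul_distrib, hc, Fintype.prod_pi_mulSingle']
    exact mul_mul_mul_comm c c _ _⟩

omit [Fintype F] in
theorem twd_twd (d : ↥(sqDet F m)) : twd L (twd L d) = d :=
  Subtype.ext (funext fun x => by
    show (if x = L then (if x = L then (d.1 x)⁻¹ else d.1 x)⁻¹ else _) = _
    by_cases h : x = L <;> simp [h, twd])

theorem twist_tor (d : ↥(sqDet F m)) : S.twist L (S.tor d) = S.tor (twd L d) := by
  refine Subtype.ext ?_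
  show S.swI {L} * (S.tor d).1 * (S.swI {L})⁻¹ = (S.tor (twd L d)).1
  rw [mul_inv_eq_iff_eq_mul]
  refine S.vec_ext_iact fun a b k hk => ?_
  rw [iact_mul, iact_mul]
  show iact _ (act _ _) = act _ _
  rw [tor_vec S hk, swI_vec S hk, swI_vec S hk, tor_vec S hk]
  congr 1 <;> funext x <;> by_cases h : x = L <;> simp [h, twd]

/-- The twisted representation. -/
noncomputable def tw (ρ : Representation ℂ ↥(Cfsg.Omega F Q) V) : Representation ℂ ↥(Cfsg.Omega F Q) V :=
  ρ.comp (S.twist L)

variable {S} {ρ : Representation ℂ ↥(Cfsg.Omega F Q) V} {ψ : AddChar F ℂ}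

theorem tw_apply (g : ↥(Cfsg.Omega F Q)) : S.tw L ρ g = ρ (S.twist L g) := rfl

theorem tw_tw : S.tw L (S.tw L ρ) = ρ := MonoidHom.ext fun g => by
  show ρ (S.twist L (S.twist L g)) = ρ g
  rw [twist_twist]

theorem Small.twisted (H : S.Small ρ ψ) : S.Small (S.tw L ρ) ψ where
  fd := H.fd
  hψ := H.hψ
  hq := H.hq
  hV := H.hV
  hne := by
    obtain ⟨g, hg⟩ := H.hne
    exact ⟨S.twist L g, by rw [tw_apply, twist_twist]; exact hg⟩
  hfix := fun x h => H.hfix x fun g => by
    have := h (S.twist L g)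
    rwa [tw_apply, twist_twist] at this
  hkind := H.hkind

theorem row_of_trv {x : V} {i : Fin m} (h : ∀ l (hil : i < l) (t : F), ρ (S.le (trv hil.ne t)) x = x)
    (u : ↥(RowSp F i)) : ρ (S.rowE i u) x = x := by
  classical
  let A : AddSubmonoid ↥(RowSp F i) :=
    { carrier := {u | ρ (S.rowE i u) x = x}
      zero_mem' := by
        show (S.Rw ρ i).τ 0 x = x
        rw [(S.Rw ρ i).zero]; rfl
      add_mem' := fun {a b} ha hb => by
        show (S.Rw ρ i).τ (a + b) x = x
        rw [(S.Rw ρ i).add, Module.End.mul_apply]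
        show ρ (S.rowE i a) (ρ (S.rowE i b) x) = x
        rw [hb, ha] }
  have hmem : ∀ l, (fun y => if y = l then u.1 l else 0) ∈ RowSp F i := fun l y hy => by
    show (if y = l then u.1 l else 0) = 0
    split_ifs with hyl
    · exact u.2 l (hyl ▸ hy)
    · rfl
  have hu : u = ∑ l, (⟨_, hmem l⟩ : ↥(RowSp F i)) := Subtype.ext (funext fun y => by
    simp [Finset.sum_apply])
  suffices u ∈ A from this
  rw [hu]
  refine A.sum_mem fun l _ => ?_
  show ρ (S.rowE i _) x = x
  rcases le_or_gt l i with hl | hl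
  · have e : (⟨_, hmem l⟩ : ↥(RowSp F i)) = 0 := Subtype.ext (funext fun y => by simp [u.2 l hl])
    rw [e]
    show (S.Rw ρ i).τ 0 x = x
    rw [(S.Rw ρ i).zero]; rfl
  · have e : S.rowE i ⟨_, hmem l⟩ = S.le (trv hl.ne (u.1 l)) := by
      rw [rowE, trv_eq_tv]
      congr 1
      refine sl_ext fun v => ?_
      rw [tv_mulVec, tv_mulVec]
      congr 3
      funext y
      simp [Pi.single_apply]
    rw [e]
    exact h l hl _

theorem VU_le_tw (hK : ∀ k ∈ S.K, k = 0) (hL : (L : ℕ) + 1 = m) : S.VU ρ ≤ S.VU (S.tw L ρ) := by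
  intro x hx
  have hlast : ∀ {a : Fin m}, a ≠ L → a < L := fun {a} ha => Fin.lt_def.2 (by
    have := fun e => ha (Fin.ext e); omega)
  have hz : ∀ a b t, ρ (S.twist L (S.zel (single a b t))) x = x := by
    intro a b t
    have hd : ∀ (a : Fin m) (t : F), S.zel (single a a t) = 1 := fun a t => by
      rw [S.zel_congr (N := 0) (fun p q => by simp only [single_apply, Matrix.zero_apply, sub_zero, and_comm, sub_self]),
        zel_zero]
    rcases eq_or_ne a b with rfl | hab
    · rw [hd, map_one, map_one, Module.End.one_apply]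
    rcases eq_or_ne b L with rfl | hb
    · rw [twist_zel_last S b hab]
      exact xr_fix_VU hab (hlast hab) hx _
    rcases eq_or_ne a L with rfl | ha
    · have e : S.zel (single a b t) = S.zel (single b a (-t)) := S.zel_congr fun p q => by
        simp only [single_apply, and_comm]
        split_ifs <;> simp
      rw [e, twist_zel_last S a hb]
      exact xr_fix_VU hb (hlast hb) hx _
    rw [twist_zel S L ha hb]
    exact hx.1.1 _
  refine ⟨⟨fun M => ?_, fun i k hk => ?_⟩, fun i _ u => row_of_trv (fun l hil t => ?_) u⟩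
  · induction M using Matrix.induction_on' with
    | h_zero => rw [zel_zero, map_one, Module.End.one_apply]
    | h_add M N hM hN => rw [zel_add, map_mul, Module.End.mul_apply, hN, hM]
    | h_std_basis i j t => exact hz i j t
  · rw [hK k hk, S.eich_zero (S.qe i), map_one, Module.End.one_apply]
  · show ρ (S.twist L (S.le (trv hil.ne t))) x = x
    have hiL : i ≠ L := fun e => by
      rw [e] at hil
      have := Fin.lt_def.1 hil
      omega
    rcases eq_or_ne l L with rfl | hl
    · rw [twist_trv_last S l hil.ne]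
      exact hx.1.1 _
    · rw [twist_trv S L hil.ne hiL hl]
      exact xr_fix_VU hil.ne hil hx t

theorem VU_tw (hK : ∀ k ∈ S.K, k = 0) (hL : (L : ℕ) + 1 = m) : S.VU (S.tw L ρ) = S.VU ρ := by
  refine le_antisymm ?_ (VU_le_tw L hK hL)
  have := VU_le_tw (ρ := S.tw L ρ) L hK hL
  rwa [tw_tw] at this

end Fr

end CfsgLib.Classical.OrthMin
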