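/-
Relations between the operators of the nodes.
-/
import Cfsg.Agent.Lib.Classical.OrthMin.Twist

set_option autoImplicit false

namespace CfsgLib.Classical.OrthMin

open Matrix Module Cfsg.Geo CfsgLib.Perm.Trans CfsgLib.Perm.Trans.Quad

variable {ι : Type} [Fintype ι] [DecidableEq ι] {F : Type*} [Field F] [Fintype F]
variable {Q : (ι → F) → F} {m : ℕ}
variable {V : Type*} [AddCommGroup V] [Module ℂ V]

local notation "pol" => QuadraticMap.polar

namespace Fr

variable (S : Fr Q m) (ρ : Representation ℂ ↥(Cfsg.Omega F Q) V)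

/-- The operator of a node, shifted to have rank one. -/
noncomputable def Rop {i j : Fin m} (hij : i ≠ j) : Module.End ℂ V :=
  S.Top ρ hij - (Fintype.card F : ℂ) • 1

theorem Rop_apply {i j : Fin m} (hij : i ≠ j) (b : V) :
    S.Rop ρ hij b = S.Top ρ hij b - (Fintype.card F : ℂ) • b := rfl

variable {i j k l : Fin m}

theorem sl_root_identities (hij : i ≠ j) (hjk : j ≠ k) (hik : i ≠ k) (t : F) :
    wel hij (1 : F) * trv hjk t = trv hik t * wel hij 1 ∧
    wel hij (1 : F) * trv hik t = trv hjk (-t) * wel hij 1 ∧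
    wel hjk (1 : F) * trv hij t = trv hik (-t) * wel hjk 1 ∧
    wel hjk (1 : F) * trv hik t = trv hij t * wel hjk 1 ∧
    wel hij (1 : F) * wel hjk 1 * wel hij 1 = wel hjk (1 : F) * wel hij 1 * wel hjk 1 ∧
    ∀ r, trv hjk r * trv hij t = trv hij t * trv hik (-(r * t)) * trv hjk r ∧
      trv hik r * trv hjk t = trv hjk t * trv hik r ∧ trv hik r * trv hij t = trv hij t * trv hik r := by
  refine ⟨?_, ?_, ?_, ?_, ?_, fun r => ⟨?_, ?_, ?_⟩⟩ <;>
  · refine sl_ext fun v => ?_
    simp only [sl_mul_mulVec, trv_mulVec, wel_one_mulVec]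
    funext x
    rcases eq_or_ne x i with rfl | hxi
    · simp [hij, hik, hij.symm, hik.symm, hjk, hjk.symm]
      try ring
    rcases eq_or_ne x j with rfl | hxj
    · simp [hij, hik, hij.symm, hik.symm, hjk, hjk.symm]
      try ring
    rcases eq_or_ne x k with rfl | hxk
    · simp [hij, hik, hij.symm, hik.symm, hjk, hjk.symm]
      try ring
    · simp [hxi, hxj, hxk]

theorem Top_word3 (a b c : Fin m) (d e f : Fin m) (hab : a ≠ d) (hbc : b ≠ e) (hce : c ≠ f) :
    S.Top ρ hab * S.Top ρ hbc * S.Top ρ hce =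
      ∑ p : F × F × F, ρ (S.xr hab p.1 * S.nd hab * (S.xr hbc p.2.1 * S.nd hbc) * (S.xr hce p.2.2 * S.nd hce)) := by
  rw [Top, Top, Top, Finset.sum_mul_sum]
  simp only [Finset.sum_mul]
  simp only [Finset.mul_sum, Fintype.sum_prod_type, map_mul, mul_assoc]

theorem Top_braid (hij : i ≠ j) (hjk : j ≠ k) (hik : i ≠ k) :
    S.Top ρ hij * S.Top ρ hjk * S.Top ρ hij = S.Top ρ hjk * S.Top ρ hij * S.Top ρ hjk := by
  rw [Top_word3, Top_word3]
  obtain ⟨-, -, -, -, hw, -⟩ := sl_root_identities hij hjk hik (0 : F)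
  have h := fun t => sl_root_identities hij hjk hik (t : F)
  let W := S.le (wel hij 1 * wel hjk 1 * wel hij 1)
  -- both sides in the normal order
  have left : ∀ r s t : F, S.xr hij r * S.nd hij * (S.xr hjk s * S.nd hjk) * (S.xr hij t * S.nd hij) =
      S.le (trv hij r * trv hik s * trv hjk t) * W := fun r s t => by
    simp only [xr, nd, W, ← map_mul]
    congr 1
    calc trv hij r * wel hij 1 * (trv hjk s * wel hjk 1) * (trv hij t * wel hij 1)
        = trv hij r * (wel hij 1 * trv hjk s) * (wel hjk 1 * trv hij t) * wel hij 1 := by simp only [mul_assoc]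
      _ = trv hij r * trv hik s * (wel hij 1 * trv hik (-t)) * wel hjk 1 * wel hij 1 := by
        rw [(h s).1, (h t).2.2.1]; simp only [mul_assoc]
      _ = trv hij r * trv hik s * trv hjk t * (wel hij 1 * wel hjk 1 * wel hij 1) := by
        rw [(h (-t)).2.1, neg_neg]; simp only [mul_assoc]
  have right : ∀ r s t : F, S.xr hjk r * S.nd hjk * (S.xr hij s * S.nd hij) * (S.xr hjk t * S.nd hjk) =
      S.le (trv hij t * trv hik (-s - r * t) * trv hjk r) * W := fun r s t => by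
    simp only [xr, nd, W, ← map_mul]
    congr 1
    calc trv hjk r * wel hjk 1 * (trv hij s * wel hij 1) * (trv hjk t * wel hjk 1)
        = trv hjk r * (wel hjk 1 * trv hij s) * (wel hij 1 * trv hjk t) * wel hjk 1 := by simp only [mul_assoc]
      _ = trv hjk r * trv hik (-s) * (wel hjk 1 * trv hik t) * wel hij 1 * wel hjk 1 := by
        rw [(h s).2.2.1, (h t).1]; simp only [mul_assoc]
      _ = trv hjk r * (trv hik (-s) * trv hij t) * (wel hjk 1 * wel hij 1 * wel hjk 1) := by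
        rw [(h t).2.2.2.1]; simp only [mul_assoc]
      _ = trv hij t * trv hik (-s - r * t) * trv hjk r * (wel hij 1 * wel hjk 1 * wel hij 1) := by
        rw [((h t).2.2.2.2.2 (-s)).2.2, ← mul_assoc (trv hjk r), ((h t).2.2.2.2.2 r).1, ← hw]
        have e : trv hjk r * trv hik (-s) = trv hik (-s) * trv hjk r := (((h r).2.2.2.2.2 (-s)).2.1).symm
        rw [mul_assoc (trv hij t * _) (trv hjk r), e, ← mul_assoc (trv hij t * _), mul_assoc (trv hij t),
          ← trv_add, show -(r * t) + -s = -s - r * t by ring]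
  simp only [left, right]
  let e : F × F × F ≃ F × F × F :=
    { toFun := fun p => (p.2.2, -p.2.1 - p.1 * p.2.2, p.1)
      invFun := fun p => (p.2.2, -p.2.1 - p.2.2 * p.1, p.1)
      left_inv := fun p => by ext <;> simp
      right_inv := fun p => by ext <;> simp }
  exact (Fintype.sum_equiv e _ _ fun p => rfl).symm

theorem Top_comm (hij : i ≠ j) (hkl : k ≠ l) (hki : k ≠ i) (hkj : k ≠ j) (hli : l ≠ i) (hlj : l ≠ j) :
    S.Top ρ hij * S.Top ρ hkl = S.Top ρ hkl * S.Top ρ hij := by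
  simp only [Top, Finset.sum_mul, Finset.mul_sum]
  rw [Finset.sum_comm]
  refine Finset.sum_congr rfl fun t _ => Finset.sum_congr rfl fun s _ => ?_
  rw [← map_mul, ← map_mul]
  congr 1
  simp only [xr, nd, ← map_mul]
  congr 1
  refine sl_ext fun v => ?_
  simp only [sl_mul_mulVec, trv_mulVec, wel_one_mulVec]
  funext x
  rcases eq_or_ne x i with rfl | hxi
  · simp [hij, hki.symm, hli.symm, hij.symm, hkj, hkj.symm, hlj.symm, hlj, hkl]
  rcases eq_or_ne x j with rfl | hxj
  · simp [hij, hki, hki.symm, hli, hli.symm, hkj.symm, hlj.symm, hij.symm, hkl]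
  rcases eq_or_ne x k with rfl | hxk
  · simp [hki, hkj, hkl, hkl.symm, hli, hlj, hij, hki.symm, hkj.symm]
  rcases eq_or_ne x l with rfl | hxl
  · simp [hli, hlj, hkl, hkl.symm, hki, hkj, hij, hli.symm, hlj.symm]
  · simp [hxi, hxj, hxk, hxl]

variable {S ρ} {ψ : AddChar F ℂ} (H : S.Small ρ ψ) (hT : ∀ b ∈ S.VU ρ, ∀ d, ρ (S.tor d) b = b)
include H

/-- All components with nontrivial character lie in the row eigenspaces of the axis. -/
theorem Small.proj_mem_Sp (hij : i ≠ j) (hj : (j : ℕ) = i + 1) {b : V} (hb : b ∈ S.VU ρ) (c : F) :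
    (S.Xact ρ hij).proj (ψ.mulShift c) (ρ (S.nd hij) b) ∈ S.Sp ρ ψ i (Pi.single j c) := by
  set p := (S.Xact ρ hij).proj (ψ.mulShift c) (ρ (S.nd hij) b)
  have hyZ : ρ (S.nd hij) b ∈ S.Zn ρ i j := Zn_nd hij hj (VU_le_Zn i j hb)
  have hpZ : p ∈ S.Zn ρ i j := by
    show (S.Xact ρ hij).proj _ _ ∈ _
    rw [Act.proj, LinearMap.smul_apply, LinearMap.sum_apply]
    exact Submodule.smul_mem _ _ (Submodule.sum_mem _ fun t _ =>
      Submodule.smul_mem _ _ (Zn_xr hj hij (Or.inl ⟨rfl, rfl⟩) t hyZ))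
  rw [mem_Sp]
  refine ⟨⟨hpZ.1, fun k hk u => hpZ.2 k u fun e => absurd (congrArg Fin.val e) hk.ne⟩, fun u => ?_⟩
  obtain ⟨u', h0', -, e⟩ := rowE_split (S := S) hij u (Fin.lt_def.2 (by omega))
  rw [e, map_mul, Module.End.mul_apply, hpZ.2 i u' (fun _ => h0')]
  have := (S.Xact ρ hij).proj_mem (ψ.mulShift c) (ρ (S.nd hij) b) (u.1 j)
  rw [show ρ (S.xr hij (u.1 j)) p = _ from this, AddChar.mulShift_apply, dotProduct_single, mul_comm]

theorem Small.rem_eq_sum (hij : i ≠ j) (b : V) :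
    open _root_.Classical in
    rem S ρ hij b = ∑ c ∈ Finset.univ.erase (0 : F), (S.Xact ρ hij).proj (ψ.mulShift c) (ρ (S.nd hij) b) := by
  classical
  have hbij : Function.Bijective fun c : F => ψ.mulShift c := by
    rw [Fintype.bijective_iff_injective_and_card]
    refine ⟨fun a a' h => sub_eq_zero.1 (eq_zero_of_psi H.hψ fun t => ?_), AddChar.card_eq.symm⟩
    have h1 := congrArg (fun φ : AddChar F ℂ => φ t) h
    simp only [AddChar.mulShift_apply] at h1
    rw [mul_sub, AddChar.map_sub_eq_div, mul_comm t, mul_comm t, h1, div_self (AddChar.val_isUnit ψ _).ne_zero]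
  have hsum : ∑ c : F, (S.Xact ρ hij).proj (ψ.mulShift c) (ρ (S.nd hij) b) = ρ (S.nd hij) b :=
    ((Equiv.ofBijective _ hbij).sum_comp fun φ => (S.Xact ρ hij).proj φ (ρ (S.nd hij) b)).trans
      ((S.Xact ρ hij).sum_proj_apply _)
  have h0 : (S.Xact ρ hij).proj (ψ.mulShift 0) (ρ (S.nd hij) b) = (Fintype.card F : ℂ)⁻¹ • S.Top ρ hij b := by
    rw [Act.proj, LinearMap.smul_apply, LinearMap.sum_apply, Top_apply]
    congr 1
    refine Finset.sum_congr rfl fun t _ => ?_
    rw [LinearMap.smul_apply, AddChar.mulShift_apply, zero_mul, AddChar.map_zero_eq_one, one_smul]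
    rfl
  rw [rem, ← h0, Finset.sum_erase_eq_sub (Finset.mem_univ _), hsum]

include hT

theorem Small.Top_Top_one (hij : i ≠ j) (hlt : i < j) {b : V} (hb : b ∈ S.VU ρ) :
    S.Top ρ hij (S.Top ρ hij b) = (Fintype.card F : ℂ) • b + ((Fintype.card F : ℂ) - 1) • S.Top ρ hij b := by
  have h := Top_Top hij hlt hb (χ := fun _ => 1) fun d => by rw [hT b hb d, one_smul]
  rw [mul_one] at h
  rw [h, Finset.sum_const, Finset.card_univ, nsmul_eq_mul, mul_one]
  congr 2
  have h2 := Nat.card_units F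
  rw [Nat.card_eq_fintype_card, Nat.card_eq_fintype_card] at h2
  rw [h2, Nat.cast_sub Fintype.card_pos, Nat.cast_one]

theorem Small.Rop_sq (hij : i ≠ j) (hlt : i < j) {b : V} (hb : b ∈ S.VU ρ) :
    S.Rop ρ hij (S.Rop ρ hij b) = (-((Fintype.card F : ℂ) + 1)) • S.Rop ρ hij b := by
  simp only [Rop_apply, map_sub, map_smul, H.Top_Top_one hT hij hlt hb]
  module

theorem Small.nd_Top_one (hij : i ≠ j) (hlt : i < j) {b : V} (hb : b ∈ S.VU ρ) :
    ρ (S.nd hij) (S.Top ρ hij b) = b + S.Top ρ hij b - ρ (S.nd hij) b := by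
  classical
  rw [nd_Top hij hlt hb (χ := fun _ => 1) fun d => by rw [hT b hb d, one_smul], one_smul, add_sub_assoc]
  congr 1
  simp only [one_smul]
  have h0 := Finset.sum_erase_eq_sub (f := fun t : F => ρ (S.xr hij t) (ρ (S.nd hij) b)) (Finset.mem_univ (0 : F))
  simp only [xr_zero, map_one, Module.End.one_apply] at h0
  rw [Top_apply, ← h0]
  refine Finset.sum_bij (fun (t : Fˣ) _ => -(t : F)⁻¹) (fun t _ => by simp) (fun a _ b _ h => ?_)
    (fun t ht => ⟨Units.mk0 (-t⁻¹) (by simpa using Finset.ne_of_mem_erase ht), Finset.mem_univ _, by simp⟩)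
    fun t _ => rfl
  exact Units.ext (by simpa using h)

/-- The kernel of the shifted operator. -/
theorem Small.rem_zero_of_Rop (hij : i ≠ j) (hlt : i < j) {b : V} (hb : b ∈ S.VU ρ) (h : S.Rop ρ hij b = 0) :
    rem S ρ hij b = 0 := by
  have hTb : S.Top ρ hij b = (Fintype.card F : ℂ) • b := sub_eq_zero.1 h
  have hn := H.nd_Top_one hT hij hlt hb
  rw [hTb, map_smul] at hn
  have hq1 : (Fintype.card F : ℂ) + 1 ≠ 0 := Nat.cast_add_one_ne_zero _
  have h2 : ((Fintype.card F : ℂ) + 1) • (ρ (S.nd hij) b - b) = 0 := by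
    have : (Fintype.card F : ℂ) • ρ (S.nd hij) b - (b + (Fintype.card F : ℂ) • b - ρ (S.nd hij) b) = 0 :=
      sub_eq_zero.2 hn
    rw [← this]; module
  rw [rem, hTb, smul_smul, inv_mul_cancel₀ (Nat.cast_ne_zero.2 Fintype.card_ne_zero), one_smul]
  exact (smul_eq_zero.1 h2).resolve_left hq1

theorem Small.Rop_of_rem_zero (hij : i ≠ j) (hlt : i < j) {b : V} (hb : b ∈ S.VU ρ) (h : rem S ρ hij b = 0) :
    S.Rop ρ hij b = 0 := by
  have hy := rem_zero_fix hij h
  have hx := fun t => xr_fix_VU (ρ := ρ) hij hlt hb t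
  have hn : ρ (S.nd hij) b = b := by
    rw [nd_eq, map_mul, map_mul, Module.End.mul_apply, Module.End.mul_apply, hx, hy, hx]
  rw [Rop_apply, Top_apply, Finset.sum_congr rfl fun t _ => by rw [hn, hx t], Finset.sum_const, Finset.card_univ,
    ← Nat.cast_smul_eq_nsmul ℂ, sub_self]

/-- The shifted operator has rank at most one. -/
theorem Small.Rop_line (hij : i ≠ j) (hj : (j : ℕ) = i + 1) :
    ∃ u ∈ S.VU ρ, ∀ b ∈ S.VU ρ, ∃ a : ℂ, S.Rop ρ hij b = a • u := by
  classical
  have hlt : i < j := Fin.lt_def.2 (by omega)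
  by_cases hall : ∀ b ∈ S.VU ρ, S.Rop ρ hij b = 0
  · exact ⟨0, zero_mem _, fun b hb => ⟨0, by rw [hall b hb, zero_smul]⟩⟩
  push Not at hall
  obtain ⟨b₀, hb₀, h₀⟩ := hall
  refine ⟨S.Rop ρ hij b₀, ?_, fun b hb => ?_⟩
  · rw [Rop_apply]
    exact Submodule.sub_mem _ (Top_mem hij hj hb₀) (Submodule.smul_mem _ _ hb₀)
  -- the component at one character determines the others
  let φ : V → V := fun b => (S.Xact ρ hij).proj (ψ.mulShift 1) (ρ (S.nd hij) b)
  have hker : ∀ b ∈ S.VU ρ, φ b = 0 → rem S ρ hij b = 0 := by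
    intro b hb hφ
    rw [H.rem_eq_sum hij b]
    refine Finset.sum_eq_zero fun c hc => ?_
    have hc0 : c ≠ 0 := Finset.ne_of_mem_erase hc
    obtain ⟨o, hoi, hoj⟩ := S.exists_ne_two i j
    set d := hmn i o (Units.mk0 c⁻¹ (inv_ne_zero hc0))
    have hfix : ρ (S.tor d) (ρ (S.nd hij) b) = ρ (S.nd hij) b := by
      have e : swd i j (swd i j d) = d := Subtype.ext (funext fun x => by simp [swd])
      have h := S.nd_tor hij (swd i j d)
      rw [e] at h
      rw [← Module.End.mul_apply, ← map_mul, ← h, map_mul, Module.End.mul_apply, hT b hb]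
    have hd : (d.1 i : F) * (((d.1 j)⁻¹ : Fˣ) : F) = c⁻¹ := by simp [d, hmn_val, hij, hij.symm, hoi.symm, hoj.symm]
    have h := congrArg (fun T : Module.End ℂ V => T (ρ (S.nd hij) b)) ((S.Xact ρ hij).proj_conj (g := ρ (S.tor d))
      (f := fun t => c⁻¹ * t) (mulLeft_bijective₀ _ (inv_ne_zero hc0)) (χ := ψ.mulShift 1) (χ' := ψ.mulShift c)
      (fun t => by
        show ρ _ * ρ _ = ρ _ * ρ _
        rw [← map_mul, ← map_mul, tor_xr, hd]) fun t => by
        rw [AddChar.mulShift_apply, AddChar.mulShift_apply, ← mul_assoc, mul_inv_cancel₀ hc0])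
    simp only [Module.End.mul_apply, hfix] at h
    rw [← h, show (S.Xact ρ hij).proj (ψ.mulShift 1) (ρ (S.nd hij) b) = 0 from hφ, map_zero]
  have hr₀ : φ b₀ ≠ 0 := fun e => h₀ (H.Rop_of_rem_zero hT hij hlt hb₀ (hker b₀ hb₀ e))
  let r : ↥(RowSp F i) := ⟨Pi.single j 1, fun l hl => Pi.single_eq_of_ne (hl.trans_lt hlt).ne _⟩
  have hr : r.1 ≠ 0 := fun e => one_ne_zero (α := F) (by simpa [r] using congrFun e j)
  obtain ⟨a, ha⟩ := H.Sp_line hr (H.proj_mem_Sp hij hj hb₀ 1) (H.proj_mem_Sp hij hj hb 1) hr₀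
  refine ⟨a, ?_⟩
  have hmem : b - a • b₀ ∈ S.VU ρ := Submodule.sub_mem _ hb (Submodule.smul_mem _ a hb₀)
  have h := H.Rop_of_rem_zero hT hij hlt hmem (hker _ hmem (by
    show (S.Xact ρ hij).proj _ (ρ _ (b - a • b₀)) = 0
    simp only [map_sub, map_smul, ha, sub_self]))
  rwa [map_sub, map_smul, sub_eq_zero] at h

/-- Elements commuting with the node and fixing its axis components fix the image. -/
theorem Small.fix_Rop (hij : i ≠ j) (hj : (j : ℕ) = i + 1) {g : ↥(Cfsg.Omega F Q)}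
    (hg : ∀ c : F, c ≠ 0 → ∀ p ∈ S.Sp ρ ψ i (Pi.single j c), ρ g p = p) (hgn : g * S.nd hij = S.nd hij * g)
    {b : V} (hb : b ∈ S.VU ρ) : ρ g (S.Rop ρ hij b) = S.Rop ρ hij b := by
  classical
  have hlt : i < j := Fin.lt_def.2 (by omega)
  have hrem : ρ g (rem S ρ hij b) = rem S ρ hij b := by
    rw [H.rem_eq_sum hij b, map_sum]
    exact Finset.sum_congr rfl fun c hc => hg c (Finset.ne_of_mem_erase hc) _ (H.proj_mem_Sp hij hj hb c)
  have hq : (Fintype.card F : ℂ) ≠ 0 := Nat.cast_ne_zero.2 Fintype.card_ne_zero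
  have hq1 : (Fintype.card F : ℂ) - 1 ≠ 0 := by
    rw [sub_ne_zero]
    exact_mod_cast (show Fintype.card F ≠ 1 by have := H.hq; omega)
  have hnn : ρ (S.nd hij) (ρ (S.nd hij) b) = b := by
    rw [← Module.End.mul_apply, ← map_mul, nd_mul_nd, hT b hb]
  have key : S.Rop ρ hij b = ((Fintype.card F : ℂ) ^ 2 / ((Fintype.card F : ℂ) - 1)) •
      ((Fintype.card F : ℂ)⁻¹ • rem S ρ hij b - ρ (S.nd hij) (rem S ρ hij b)) := by
    rw [rem, map_sub, map_smul, hnn, H.nd_Top_one hT hij hlt hb, Rop_apply]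
    match_scalars <;> field_simp <;> ring
  rw [key, map_smul, map_sub, map_smul, hrem, ← Module.End.mul_apply (ρ g), ← map_mul, hgn, map_mul,
    Module.End.mul_apply, hrem]

theorem Small.Rop_braid (hij : i ≠ j) (hjk : j ≠ k) (hj : (j : ℕ) = i + 1) (hk : (k : ℕ) = j + 1) {b : V}
    (hb : b ∈ S.VU ρ) :
    S.Rop ρ hij (S.Rop ρ hjk (S.Rop ρ hij b)) - (Fintype.card F : ℂ) • S.Rop ρ hij b =
      S.Rop ρ hjk (S.Rop ρ hij (S.Rop ρ hjk b)) - (Fintype.card F : ℂ) • S.Rop ρ hjk b := by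
  have hik : i ≠ k := fun e => by rw [e] at hj; omega
  have hbr := congrArg (fun T : Module.End ℂ V => T b) (S.Top_braid ρ hij hjk hik)
  simp only [Module.End.mul_apply] at hbr
  simp only [Rop_apply, map_sub, map_smul, hbr, H.Top_Top_one hT hij (Fin.lt_def.2 (by omega)) hb,
    H.Top_Top_one hT hjk (Fin.lt_def.2 (by omega)) hb]
  module

end Fr

end CfsgLib.Classical.OrthMin
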