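/-
The weights when the complement is a line: enough vectors fixed by the Siegel radical.
-/
import Cfsg.Agent.Lib.Classical.OrthMin.Flip

set_option autoImplicit false

namespace CfsgLib.Classical.OrthMin

open Matrix Module Cfsg.Geo CfsgLib.Perm.Trans CfsgLib.Perm.Trans.Quad

variable {ι : Type} [Fintype ι] [DecidableEq ι] {F : Type*} [Field F] [Fintype F]
variable {Q : (ι → F) → F} {m : ℕ}
variable {V : Type*} [AddCommGroup V] [Module ℂ V]

local notation "pol" => QuadraticMap.polar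

namespace Fr

variable {S : Fr Q m} {ρ : Representation ℂ ↥(Cfsg.Omega F Q) V} {ψ : AddChar F ℂ}

/-- A weight vector with a given weight. -/
def IsWeight (S : Fr Q m) (ρ : Representation ℂ ↥(Cfsg.Omega F Q) V) (χ : ↥(sqDet F m) → ℂ) : Prop :=
  ∃ b ∈ S.VU ρ, b ≠ 0 ∧ ∀ d, ρ (S.tor d) b = χ d • b

theorem IsWeight.map_mul {χ : ↥(sqDet F m) → ℂ} (h : IsWeight S ρ χ) (d d' : ↥(sqDet F m)) :
    χ (d * d') = χ d * χ d' := by
  obtain ⟨b, -, hb0, hb⟩ := h
  refine smul_left_injective ℂ hb0 ?_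
  show χ (d * d') • b = (χ d * χ d') • b
  rw [← hb, MonoidHom.map_mul, _root_.map_mul, Module.End.mul_apply, hb d', map_smul, hb, smul_smul, mul_comm]

theorem IsWeight.map_one {χ : ↥(sqDet F m) → ℂ} (h : IsWeight S ρ χ) : χ 1 = 1 := by
  obtain ⟨b, -, hb0, hb⟩ := h
  refine smul_left_injective ℂ hb0 ?_
  show χ 1 • b = (1 : ℂ) • b
  rw [← hb, one_smul, MonoidHom.map_one, _root_.map_one, Module.End.one_apply]

theorem IsWeight.ne_zero {χ : ↥(sqDet F m) → ℂ} (h : IsWeight S ρ χ) (d : ↥(sqDet F m)) : χ d ≠ 0 := fun e => by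
  have h1 := h.map_mul d d⁻¹
  rw [mul_inv_cancel, h.map_one, e, zero_mul] at h1
  exact one_ne_zero h1

theorem hmn_mul (i j : Fin m) (a b : Fˣ) : hmn i j a * hmn i j b = hmn i j (a * b) :=
  Subtype.ext (by
    simp only [Subgroup.coe_mul, hmn_val, Pi.mulSingle_mul, _root_.mul_inv]
    rw [mul_mul_mul_comm])

/-- Weights are permuted by the node reflections. -/
theorem IsWeight.swap {χ : ↥(sqDet F m) → ℂ} (h : IsWeight S ρ χ) {i j : Fin m} (hij : i ≠ j)
    (hj : (j : ℕ) = i + 1) : IsWeight S ρ (fun d => χ (swd i j d)) := by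
  classical
  obtain ⟨b, hb, hb0, hχ⟩ := h
  have h : IsWeight S ρ χ := ⟨b, hb, hb0, hχ⟩
  by_cases htriv : ∀ a, χ (hmn i j a) = 1
  · refine ⟨b, hb, hb0, fun d => ?_⟩
    have e : swd i j d = d * hmn i j ((d.1 i)⁻¹ * d.1 j) := Subtype.ext (funext fun x => by
      rcases eq_or_ne x i with rfl | hxi
      · simp [swd, hmn_val, hij]
      rcases eq_or_ne x j with rfl | hxj
      · simp [swd, hmn_val, hxi, mul_comm (d.1 x)⁻¹]
      · simp [swd, hmn_val, hxi, hxj, Equiv.swap_apply_of_ne_of_ne hxi hxj])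
    show ρ (S.tor d) b = χ (swd i j d) • b
    rw [hχ, e, h.map_mul, htriv, mul_one]
  push Not at htriv
  obtain ⟨a, ha⟩ := htriv
  refine ⟨S.Top ρ hij b, Top_mem hij hj hb, fun e => ?_, fun d => Top_eig hij hχ d⟩
  have hlt : i < j := Fin.lt_def.2 (by omega)
  have h2 := Top_Top hij hlt hb hχ
  rw [e, map_zero, smul_zero, add_zero] at h2
  rcases smul_eq_zero.1 h2.symm with h3 | h3
  · rcases mul_eq_zero.1 h3 with h4 | h4
    · exact absurd (Nat.cast_eq_zero.1 h4) Fintype.card_ne_zero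
    · exact h.ne_zero _ h4
  · exact hb0 h3

variable (H : S.Small ρ ψ)
include H

/-- The last radical of the complement fixes the highest vectors. -/
theorem Small.last_fK {L : Fin m} (hL : (L : ℕ) + 1 = m) {b : V} (hb : b ∈ S.VU ρ) :
    ∀ k ∈ S.K, ρ (eich Q (S.f L) k) b = b := by
  classical
  haveI := H.fd
  intro k hk
  obtain ⟨o, hoL, -⟩ := S.exists_ne_two L L
  set w := S.sw hoL.symm
  set y := ρ w b with hy
  have hwinv : w⁻¹ = w := S.sw_inv _
  have conj : ∀ u a, Q u = 0 → pol Q u a = 0 → ρ (eich Q u a) b = b →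
      ρ (eich Q (act w u) (act w a)) y = y := fun u a hu hua h => by
    rw [← S.eich_conj hu hua w, map_mul, map_mul, Module.End.mul_apply, Module.End.mul_apply, hy,
      ← Module.End.mul_apply (ρ w⁻¹), ← map_mul, inv_mul_cancel, map_one, Module.End.one_apply, h]
  have hbl : ∀ l, l ≠ L → ∀ t : F, ρ (eich Q (S.f L) (t • S.e l)) b = b := fun l hl t => by
    have h1 : pol Q (S.f L) (t • S.e l) = 0 := by rw [psmul_right S.hQ, S.pfe, if_neg hl.symm, mul_zero]
    rw [S.eich_swap (S.qf L) (by rw [Quad.qsmul S.hQ, S.qe, mul_zero]) h1,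
      S.eich_smul_left (S.qe l) (by rw [pneg_right S.hQ, S.pef, if_neg hl, neg_zero]), smul_neg, ← neg_smul,
      S.eich_ef hl]
    exact xr_fix_VU hl (Fin.lt_def.2 (by have := fun e => hl (Fin.ext e); omega)) hb _
  have hwL : act w (S.f L) = S.e L := by rw [act_sw_f, if_pos (Or.inl rfl)]
  have hwo : act w (S.e o) = S.f o := by rw [act_sw_e, if_pos (Or.inr rfl)]
  have hy1 : ∀ l, l ≠ L → l ≠ o → ∀ t : F, ρ (eich Q (S.e L) (t • S.e l)) y = y := fun l hlL hlo t => by
    have h := conj (S.f L) (t • S.e l) (S.qf L) (by rw [psmul_right S.hQ, S.pfe, if_neg hlL.symm, mul_zero]) (hbl l hlL t)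
    rwa [hwL, act_smul, act_sw_e, if_neg (not_or.2 ⟨hlL, hlo⟩)] at h
  have hy2 : ∀ t : F, ρ (eich Q (S.e L) (t • S.f o)) y = y := fun t => by
    have h := conj (S.f L) (t • S.e o) (S.qf L) (by rw [psmul_right S.hQ, S.pfe, if_neg hoL.symm, mul_zero]) (hbl o hoL t)
    rwa [hwL, act_smul, hwo] at h
  -- all components are singular, hence orthogonal to the complement
  have hyk : ρ (eich Q (S.e L) k) y = y := by
    show (S.R ρ L).τ ⟨k, S.K_le_P L hk⟩ y = y
    rw [(S.R ρ L).apply_eq_sum]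
    conv_rhs => rw [← (S.R ρ L).sum_proj_apply y]
    refine Finset.sum_congr rfl fun χ _ => ?_
    obtain ⟨⟨v, hv⟩, rfl⟩ := S.chi_surj H.hψ L χ
    set p := (S.R ρ L).proj (S.chi ψ L v) y with hp
    rcases eq_or_ne p 0 with hp0 | hp0
    · rw [hp0, smul_zero]
    have hpE : p ∈ S.Eg ρ ψ L v := (S.R ρ L).proj_mem _ y
    have hQv : Q v = 0 := S.singular_of_Eg ρ H.hψ H.hq H.hV hv
      (fun e => hp0 (by rwa [e, Submodule.mem_bot] at hpE))
    have hscal : ∀ a ∈ S.P L, ρ (eich Q (S.e L) a) y = y → ψ (pol Q a v) = 1 := by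
      intro a ha hs
      have h1 := congrArg (fun T : Module.End ℂ V => T y)
        ((S.R ρ L).proj_comm (g := (S.R ρ L).τ ⟨a, ha⟩) (fun b => by rw [← (S.R ρ L).add, ← (S.R ρ L).add, add_comm])
          (S.chi ψ L v))
      simp only [Module.End.mul_apply] at h1
      rw [show (S.R ρ L).τ ⟨a, ha⟩ y = y from hs, ← hp] at h1
      exact smul_left_injective ℂ hp0
        (((S.mem_Eg ρ ψ).1 hpE a ha).symm.trans (h1.trans (one_smul ℂ p).symm))
    have hbe : ∀ l, l ≠ o → S.be v l = 0 := fun l hlo => by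
      rcases eq_or_ne l L with rfl | hlL
      · exact hv.1
      refine eq_zero_of_psi H.hψ fun t => ?_
      have h := hscal _ ((S.P L).smul_mem t (S.e_mem_P hlL)) (hy1 l hlL hlo t)
      rwa [psmul_left S.hQ, pcomm _ v, ← be_apply] at h
    have halo : S.al v o = 0 := eq_zero_of_psi H.hψ fun t => by
      have h := hscal _ ((S.P L).smul_mem t (S.f_mem_P hoL)) (hy2 t)
      rwa [psmul_left S.hQ, pcomm _ v, ← al_apply] at h
    have hdot : S.al v ⬝ᵥ S.be v = 0 := Finset.sum_eq_zero fun l _ => by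
      rcases eq_or_ne l o with rfl | hl
      · rw [halo, zero_mul]
      · rw [hbe l hl, mul_zero]
    rw [S.q_coords, hdot, zero_add] at hQv
    have hkp : S.kp v = 0 := S.aniso _ (S.kp_mem v).1 (S.kp_mem v).2 hQv
    have hpk : pol Q k v = 0 := by
      rw [pcomm, ← S.mk_coords v, pol_mk_left, hkp, pzero_left S.hQ]
      simp [S.pol_e_K _ hk, S.pol_f_K _ hk]
    rw [chi_apply, hpk, AddChar.map_zero_eq_one, one_smul]
  have hwe : act w (S.e L) = S.f L := by rw [act_sw_e, if_pos (Or.inl rfl)]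
  have hwk : act w k = k := S.act_sw_K hoL.symm hk
  have e := S.eich_conj (S.qe L) (S.pol_e_K L hk) w
  rw [hwe, hwk, hwinv] at e
  rw [← e, map_mul, map_mul, Module.End.mul_apply, Module.End.mul_apply, ← hy, hyk, hy, ← Module.End.mul_apply,
    ← map_mul]
  nth_rewrite 2 [← hwinv]
  rw [mul_inv_cancel, map_one, Module.End.one_apply]

variable {z : ι → F} (hz : S.IsOdd z)
include hz

/-- The squares of the torus act trivially on the highest vectors. -/
theorem Small.dsq_weight {χ : ↥(sqDet F m) → ℂ} (h : IsWeight S ρ χ) (j : Fin m) (a : Fˣ) : χ (dsq j a) = 1 := by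
  obtain ⟨n, hn⟩ : ∃ n, (j : ℕ) + 1 + n = m := ⟨m - j - 1, by omega⟩
  induction n generalizing j χ with
  | zero =>
    obtain ⟨b, hb, hb0, hχ⟩ := h
    have hs : ∀ t : F, ρ (S.shortW z j t) b = b := fun t => by
      rw [shortW, map_mul, map_mul, Module.End.mul_apply, Module.End.mul_apply,
        hb.1.2 j _ (S.K.smul_mem t hz.mem), H.last_fK hn hb _ (S.K.smul_mem _ hz.mem),
        hb.1.2 j _ (S.K.smul_mem t hz.mem)]
    refine smul_left_injective ℂ hb0 ?_
    show χ (dsq j a) • b = (1 : ℂ) • b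
    rw [← hχ, one_smul, S.tor_dsq_eq_word hz, MonoidHom.map_mul, Module.End.mul_apply, hs, hs]
  | succ n ih =>
    set k : Fin m := ⟨j + 1, by omega⟩
    have hjk : j ≠ k := fun e => by have := congrArg Fin.val e; simp [k] at this
    have h' := ih (h.swap hjk rfl) k (by simp [k]; omega)
    have e : swd j k (dsq k a) = dsq j a := Subtype.ext (funext fun x => by
      rcases eq_or_ne x j with rfl | hxj
      · simp [swd, dsq_val]
      rcases eq_or_ne x k with rfl | hxk
      · simp [swd, dsq_val, hjk]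
      · simp [swd, dsq_val, hxj, hxk, Equiv.swap_apply_of_ne_of_ne hxj hxk])
    simpa [e] using h'

omit H in
theorem sg_generator {g : Fˣ} (hg : ∀ x, x ∈ Subgroup.zpowers g) (hq : 3 < Fintype.card F) : S.sg g = -1 := by
  classical
  set π := MulAction.toPermHom Fˣ ↥S.K g with hπ
  have hzK : (⟨z, hz.mem⟩ : ↥S.K) ≠ 0 := fun e => hz.qne (by
    rw [show z = 0 from congrArg Subtype.val e]; exact qzero S.hQ)
  have hg1 : g ≠ 1 := fun e => by
    have hall : ∀ x : Fˣ, x = 1 := fun x => by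
      have := hg x
      rw [e, Subgroup.zpowers_one_eq_bot, Subgroup.mem_bot] at this
      exact this
    haveI : Subsingleton Fˣ := ⟨fun a b => (hall a).trans (hall b).symm⟩
    have h1 : Nat.card Fˣ ≤ 1 := Finite.card_le_one_iff_subsingleton.2 inferInstance
    have h2 := Nat.card_units F
    rw [Nat.card_eq_fintype_card (α := F)] at h2
    omega
  have hmove : ∀ y : ↥S.K, y ≠ 0 → π y ≠ y := fun y hy e => by
    have h : (g : F) • y.1 = y.1 := congrArg Subtype.val e
    have h2 : ((g : F) - 1) • y.1 = 0 := by rw [sub_smul, one_smul, h, sub_self]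
    exact hg1 (Units.ext (sub_eq_zero.1 ((smul_eq_zero.1 h2).resolve_right fun h => hy (Subtype.ext h))))
  have hcyc : π.IsCycle := by
    refine ⟨⟨z, hz.mem⟩, hmove _ hzK, fun y hy => ?_⟩
    have hy0 : y ≠ 0 := fun e => hy (by rw [e]; exact smul_zero g)
    obtain ⟨s, hs⟩ := hz.span _ y.2
    have hs0 : s ≠ 0 := fun e => hy0 (Subtype.ext (by rw [hs, e, zero_smul]; rfl))
    obtain ⟨n, hn⟩ := Subgroup.mem_zpowers_iff.1 (hg (Units.mk0 s hs0))
    refine ⟨n, Subtype.ext ?_⟩
    rw [hπ, ← map_zpow, hn]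
    exact hs.symm
  have hsupp : π.support = Finset.univ.erase 0 := by
    ext y
    simp only [Equiv.Perm.mem_support, Finset.mem_erase, Finset.mem_univ, and_true]
    exact ⟨fun h e => h (by rw [e]; exact smul_zero g), hmove y⟩
  show ((Equiv.Perm.sign π : ℤ) : ℂ) = -1
  rw [hcyc.sign, hsupp, Finset.card_erase_of_mem (Finset.mem_univ _), Finset.card_univ]
  rcases card_K (S := S) (Or.inr ⟨z, hz⟩) with h | ⟨h, h2⟩
  · exact absurd (Fintype.card_le_one_iff.1 h.le _ _) hzK
  have hodd : Odd (Fintype.card F) := Nat.odd_iff.2 (FiniteField.odd_card_of_char_ne_two fun e => h2 (by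
    haveI := ringChar.of_eq e
    exact CharTwo.two_eq_zero))
  have heven : Even (Fintype.card ↥S.K - 1) := by rw [h]; exact Nat.Odd.sub_odd hodd odd_one
  rw [heven.neg_one_pow]
  simp

/-- Some highest weight is the sign of one position. -/
theorem Small.exists_sign_weight : ∃ p : Fin m, IsWeight S ρ (fun d => S.sg (d.1 p)) := by
  classical
  obtain ⟨b, hb, hb0, χ, hχ⟩ := H.exists_weight
  have hw : IsWeight S ρ χ := ⟨b, hb, hb0, hχ⟩
  obtain ⟨i, j, hij, hj, hrem⟩ : ∃ (i j : Fin m) (hij : i ≠ j), (j : ℕ) = i + 1 ∧ rem S ρ hij b ≠ 0 := by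
    by_contra hno
    push Not at hno
    have hm3 := S.hm
    set L : Fin m := ⟨m - 1, by omega⟩
    set o : Fin m := ⟨0, by omega⟩
    have hlow : ∀ (i j : Fin m) (hij : i ≠ j), (j : ℕ) = i + 1 → ∀ t, ρ (S.xr hij.symm t) b = b :=
      fun i j hij hj t => rem_zero_fix hij (hno i j hij hj) t
    have hK := H.last_fK (L := L) (by simp [L]; omega) hb
    have hKall : ∀ l, ∀ k ∈ S.K, eich Q (S.f l) k ∈ stab ρ b := by
      intro l k hk
      rcases eq_or_ne l L with rfl | hlL
      · exact hK k hk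
      have h := S.eich_conj (S.qf L) (S.pol_f_K L hk) (S.nd hlL)
      have e1 := act_nd_f (S := S) hlL
      have e2 : act (S.nd hlL) k = k := S.act_le_K _ hk
      rw [e1, e2] at h
      rw [← h]
      exact mul_mem (mul_mem (nd_mem_stab hb hlow hlL) (hK k hk)) (inv_mem (nd_mem_stab hb hlow hlL))
    refine hb0 (H.eq_zero_of_fixed hb hlow L o hK fun l hlo t => ?_)
    set s : F := -t * (2 * Q z)⁻¹
    have hne : 2 * Q z ≠ 0 := mul_ne_zero hz.two_ne hz.qne
    have hsz := S.K.smul_mem s hz.mem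
    have h := S.eich_conj (S.qf o) (S.pol_f_K o hsz) (eich Q (S.f l) z)
    have e1 : act (eich Q (S.f l) z) (S.f o) = S.f o := S.act_fK_f l hz.mem o
    have e2 : act (eich Q (S.f l) z) (s • z) = s • z + t • S.f l := by
      rw [S.eich_spec (S.qf l) (S.pol_f_K l hz.mem), psmul_left S.hQ, psmul_left S.hQ, hz.mem.2, pself S.hQ]
      have : s * (2 * Q z) = -t := by rw [mul_assoc, inv_mul_cancel₀ hne, mul_one]
      rw [this]
      simp
    rw [e1, e2, S.eich_add (S.qf o) (S.pol_f_K o hsz) (by rw [psmul_right S.hQ, S.pff, mul_zero])] at h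
    have h2 : eich Q (S.f o) (t • S.f l) = (eich Q (S.f o) (s • z))⁻¹ *
        (eich Q (S.f l) z * eich Q (S.f o) (s • z) * (eich Q (S.f l) z)⁻¹) := by rw [h]; group
    show eich Q (S.f o) (t • S.f l) ∈ stab ρ b
    rw [h2]
    exact mul_mem (inv_mem (hKall o _ hsz))
      (mul_mem (mul_mem (hKall l z hz.mem) (hKall o _ hsz)) (inv_mem (hKall l z hz.mem)))
  have hflip := H.flip hij hj hb hχ hrem
  obtain ⟨k, hki, hkj⟩ := S.exists_ne_two i j
  set κ : Fˣ → ℂ := fun a => χ (hmn j k a)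
  have hdecomp : ∀ d : ↥(sqDet F m), χ d = κ ((d.1 i)⁻¹ * d.1 j) * S.sg (d.1 i) := by
    intro d
    have e : d = hmn j k ((d.1 i)⁻¹ * d.1 j) * ((hmn j k ((d.1 i)⁻¹ * d.1 j))⁻¹ * d) :=
      (mul_inv_cancel_left _ _).symm
    conv_lhs => rw [e]
    rw [hw.map_mul]
    congr 1
    have hv : ((hmn j k ((d.1 i)⁻¹ * d.1 j))⁻¹ * d).1 i = d.1 i := by simp [hmn_val, hij, hki.symm]
    rw [hflip _ ?_, hv]
    rw [hv]
    simp [hmn_val, hkj.symm, mul_comm]
  have hκmul : ∀ a a', κ (a * a') = κ a * κ a' := fun a a' => by simp only [κ, ← hmn_mul, hw.map_mul]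
  have hκ2 : ∀ a, κ a * κ a = 1 := fun a => by
    rw [← hκmul]
    have e : hmn j k (a * a) = dsq j a * dsq k a⁻¹ :=
      Subtype.ext (by simp [hmn_val, dsq_val, _root_.mul_inv_rev])
    show χ (hmn j k (a * a)) = 1
    rw [e, hw.map_mul, H.dsq_weight hz hw, H.dsq_weight hz hw, mul_one]
  obtain ⟨g, hg⟩ := IsCyclic.exists_generator (α := Fˣ)
  let κ' : Fˣ →* ℂ :=
    { toFun := κ, map_one' := by simp [κ, show hmn j k (1 : Fˣ) = 1 from Subtype.ext (by simp [hmn_val]), hw.map_one],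
      map_mul' := hκmul }
  have hext : ∀ φ φ' : Fˣ →* ℂ, φ g = φ' g → φ = φ' := fun φ φ' h => MonoidHom.ext fun x => by
    obtain ⟨n, hn⟩ := mem_powers_iff_mem_zpowers.2 (hg x)
    rw [← hn]
    show φ (g ^ n) = φ' (g ^ n)
    rw [_root_.map_pow, _root_.map_pow, h]
  rcases mul_self_eq_one_iff.1 (hκ2 g) with h | h
  · refine ⟨i, b, hb, hb0, fun d => ?_⟩
    have hk : κ' = 1 := hext κ' 1 (by simpa [κ'] using h)
    rw [hχ, hdecomp, show κ _ = κ' _ from rfl, hk, MonoidHom.one_apply, one_mul]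
  · refine ⟨j, b, hb, hb0, fun d => ?_⟩
    have hk : κ' = S.sg := hext κ' S.sg (by rw [sg_generator hz hg H.hq]; simpa [κ'] using h)
    rw [hχ, hdecomp, show κ _ = κ' _ from rfl, hk, ← _root_.map_mul]
    congr 2
    rw [mul_comm (d.1 i)⁻¹, inv_mul_cancel_right]

/-- Every position gives a highest weight. -/
theorem Small.sign_weight (p : Fin m) : IsWeight S ρ (fun d => S.sg (d.1 p)) := by
  classical
  obtain ⟨p₀, hp₀⟩ := H.exists_sign_weight hz
  have step : ∀ {i j : Fin m}, (j : ℕ) = i + 1 →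
      (IsWeight S ρ (fun d => S.sg (d.1 i)) ↔ IsWeight S ρ (fun d => S.sg (d.1 j))) := fun {i j} hj => by
    have hij : i ≠ j := fun e => by rw [e] at hj; omega
    constructor <;> intro h <;>
    · have h' := h.swap hij hj
      simp only [swd, Function.comp_apply, Equiv.swap_apply_left, Equiv.swap_apply_right] at h'
      exact h'
  have all : ∀ n (i j : Fin m), (j : ℕ) = i + n →
      (IsWeight S ρ (fun d => S.sg (d.1 i)) ↔ IsWeight S ρ (fun d => S.sg (d.1 j))) := by
    intro n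
    induction n with
    | zero => intro i j h; rw [show j = i from Fin.ext (by omega)]
    | succ n ih =>
      intro i j h
      exact (ih i ⟨i + n, by omega⟩ rfl).trans (step (by simp; omega))
  rcases le_total (p₀ : ℕ) p with h | h
  · exact (all (p - p₀) p₀ p (by omega)).1 hp₀
  · exact (all (p₀ - p) p p₀ (by omega)).2 hp₀

theorem Small.odd_count : Fintype.card F ^ m ≤ (Fintype.card F - 1) * finrank ℂ (S.VS ρ) + 1 := by
  classical
  haveI := H.fd
  obtain ⟨g, hg⟩ := IsCyclic.exists_generator (α := Fˣ)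
  have hsg := sg_generator (S := S) hz hg H.hq
  have hne1 : (-1 : ℂ) ≠ 1 := by norm_num
  have hw := H.sign_weight hz
  choose b hb hb0 hχ using hw
  have hSp : ∀ j : Fin m, ∀ r : ↥(RowSp F j), r.1 ≠ 0 → S.Sp ρ ψ j r.1 ≠ ⊥ := by
    intro j r hr
    obtain ⟨l, hl⟩ := Function.ne_iff.1 hr
    have hjl : j < l := not_le.1 fun h => hl (r.2 l h)
    set k : Fin m := ⟨j + 1, by have := Fin.lt_def.1 hjl; omega⟩
    have hjk : j ≠ k := fun e => by have := congrArg Fin.val e; simp [k] at this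
    refine H.Sp_of_rem hjk rfl (hb j) ?_ r hr
    intro h0
    have hfix : ρ (S.tor (hmn j k g)) (b j) = b j := by
      rw [tor_hmn_eq S hjk]
      have hx := fun t => xr_fix_VU (S := S) (ρ := ρ) hjk (Fin.lt_def.2 (by simp [k])) (hb j) t
      have hy := fun t => rem_zero_fix hjk h0 t
      simp only [xr] at hx hy
      simp only [wel, _root_.map_mul, Module.End.mul_apply, hx, hy]
    rw [hχ] at hfix
    beta_reduce at hfix
    have : ((hmn j k g).1 j : Fˣ) = g := by simp [hmn_val, hjk]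
    rw [this, hsg, ← one_smul ℂ (b j), smul_smul, mul_one] at hfix
    exact hne1 (smul_left_injective ℂ (hb0 j) hfix)
  have hli : LinearIndependent ℂ fun p : Fin m => (⟨b p, hb p⟩ : ↥(S.VU ρ)) := by
    rw [linearIndependent_iff']
    intro s c hsum p hp
    haveI : Fintype (Additive ↥(sqDet F m)) := Fintype.ofFinite _
    let φ : Fin m → AddChar (Additive ↥(sqDet F m)) ℂ := fun p =>
      { toFun := fun d => S.sg ((Additive.toMul d).1 p)
        map_zero_eq_one' := by simp
        map_add_eq_mul' := fun x y => by simp }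
    have hφ : ∀ p, b p ∈ (S.Tact ρ).eig (φ p) := fun p d => hχ p _
    have hinj : ∀ p p', p ≠ p' → φ p ≠ φ p' := fun p p' hne e => by
      obtain ⟨l, hlp, hlp'⟩ := S.exists_ne_two p p'
      have := congrArg (fun f : AddChar (Additive ↥(sqDet F m)) ℂ => f (Additive.ofMul (hmn p l g))) e
      simp only [φ, AddChar.coe_mk, toMul_ofMul, hmn_val, Pi.mul_apply, Pi.mulSingle_eq_same,
        Pi.mulSingle_eq_of_ne hlp.symm, Pi.mulSingle_eq_of_ne hne.symm, Pi.mulSingle_eq_of_ne hlp'.symm, mul_one,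
        _root_.map_one, hsg] at this
      exact hne1 this
    have h1 := congrArg (fun y : ↥(S.VU ρ) => (S.Tact ρ).proj (φ p) y.1) hsum
    simp only [Submodule.coe_sum, Submodule.coe_smul, map_sum, map_smul, Submodule.coe_zero, map_zero] at h1
    rw [Finset.sum_eq_single p] at h1
    · rw [Act.proj_eig _ (hφ p), if_pos rfl, smul_eq_zero] at h1
      exact h1.resolve_right (hb0 p)
    · intro p' _ hne
      rw [Act.proj_eig _ (hφ p'), if_neg (hinj p p' hne.symm), smul_zero]
    · exact fun h => absurd hp h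
  have hdim := hli.fintype_card_le_finrank
  rw [Fintype.card_fin] at hdim
  have hl := H.W_lower hSp m le_rfl
  rw [Nat.sub_self, W_zero, mul_add] at hl
  have := Nat.mul_le_mul_left (Fintype.card F - 1) hdim
  omega

end Fr

end CfsgLib.Classical.OrthMin
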