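/-
Operators of rank one satisfying the relations of the Hecke algebra of type `D` act on at least as many dimensions
as there are nodes.
-/
import Mathlib

set_option autoImplicit false

namespace CfsgLib.Classical.OrthMin.RankOne

open Module

variable {W : Type*} [AddCommGroup W] [Module ℂ W]

/-- Adjacency in the diagram with nodes `0, …, n + 3`, the last two joined to the node `n + 1`. -/
def Adj (n i j : ℕ) : Prop :=
  (i + 1 = j ∧ j ≤ n + 2) ∨ (j + 1 = i ∧ i ≤ n + 2) ∨ (i = n + 1 ∧ j = n + 3) ∨ (j = n + 1 ∧ i = n + 3)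

theorem Adj.symm {n i j : ℕ} (h : Adj n i j) : Adj n j i := by
  unfold Adj at *; omega

/-- An edge has a further edge at one of its ends only. -/
theorem exists_third {n i j : ℕ} (hi : i ≤ n + 3) (hj : j ≤ n + 3) (h : Adj n i j) :
    ∃ l ≤ n + 3, (Adj n l i ∧ ¬ Adj n l j ∧ l ≠ j) ∨ (Adj n l j ∧ ¬ Adj n l i ∧ l ≠ i) := by
  unfold Adj at *
  rcases h with h | h | h | h
  · rcases Nat.eq_zero_or_pos i with h0 | h0
    · exact ⟨2, by omega, Or.inr (by omega)⟩
    · exact ⟨i - 1, by omega, Or.inl (by omega)⟩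
  · rcases Nat.eq_zero_or_pos j with h0 | h0
    · exact ⟨2, by omega, Or.inl (by omega)⟩
    · exact ⟨j - 1, by omega, Or.inr (by omega)⟩
  · exact ⟨n, by omega, Or.inl (by omega)⟩
  · exact ⟨n, by omega, Or.inr (by omega)⟩

/-- The hypotheses. -/
structure Rel (n : ℕ) (q : ℂ) (R : ℕ → Module.End ℂ W) : Prop where
  sq : ∀ i ≤ n + 3, R i * R i = (-(q + 1)) • R i
  line : ∀ i ≤ n + 3, ∃ u : W, ∀ w, ∃ a : ℂ, R i w = a • u
  orth : ∀ i ≤ n + 3, ∀ j ≤ n + 3, i ≠ j → ¬ Adj n i j → R i * R j = 0
  braid : ∀ i ≤ n + 3, ∀ j ≤ n + 3, Adj n i j → R i * R j * R i - q • R i = R j * R i * R j - q • R j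
  nz : ∃ i ≤ n + 3, R i ≠ 0

variable {n : ℕ} {q : ℂ} {R : ℕ → Module.End ℂ W} (h : Rel n q R) (hq : q ≠ 0) (hq1 : q + 1 ≠ 0)

include h in
theorem Rel.sandwich {i : ℕ} (hi : i ≤ n + 3) (j : ℕ) : ∃ κ : ℂ, R i * R j * R i = κ • R i := by
  obtain ⟨u, hu⟩ := h.line i hi
  obtain ⟨κ, hκ⟩ := hu (R j u)
  refine ⟨κ, LinearMap.ext fun w => ?_⟩
  obtain ⟨a, ha⟩ := hu w
  show R i (R j (R i w)) = κ • R i w
  rw [ha, map_smul, map_smul, hκ, smul_comm]

include h hq

theorem Rel.adj_ne_zero {i j : ℕ} (hi : i ≤ n + 3) (hj : j ≤ n + 3) (ha : Adj n i j) (hne : R i ≠ 0) : R j ≠ 0 := by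
  intro h0
  have hb := h.braid i hi j hj ha
  rw [h0] at hb
  simp only [mul_zero, zero_mul, smul_zero, sub_zero, zero_sub, neg_eq_zero] at hb
  exact hne ((smul_eq_zero.1 hb).resolve_left hq)

theorem Rel.all_ne_zero {i : ℕ} (hi : i ≤ n + 3) : R i ≠ 0 := by
  obtain ⟨i₀, hi₀, hne⟩ := h.nz
  have down : ∀ k ≤ n + 3, R k ≠ 0 → R (n + 1) ≠ 0 := by
    intro k hk hk0
    rcases eq_or_ne k (n + 3) with rfl | hkf
    · exact h.adj_ne_zero hq hk (by omega) (by unfold Adj; omega) hk0
    rcases eq_or_ne k (n + 2) with rfl | hkl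
    · exact h.adj_ne_zero hq hk (by omega) (by unfold Adj; omega) hk0
    obtain ⟨d, hd⟩ : ∃ d, n + 1 = k + d := ⟨n + 1 - k, by omega⟩
    clear hkf hkl
    induction d generalizing k with
    | zero => rw [hd]; exact hk0
    | succ d ih => exact ih (k + 1) (by omega) (h.adj_ne_zero hq hk (by omega) (by unfold Adj; omega) hk0) (by omega)
  have hmid := down i₀ hi₀ hne
  intro h0
  rcases eq_or_ne i (n + 3) with rfl | hkf
  · exact h.adj_ne_zero hq (by omega) hi (by unfold Adj; omega) hmid h0
  rcases eq_or_ne i (n + 2) with rfl | hkl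
  · exact h.adj_ne_zero hq (by omega) hi (by unfold Adj; omega) hmid h0
  have up : ∀ d k, k + d = n + 1 → R k ≠ 0 := by
    intro d
    induction d with
    | zero => intro k hk; rw [show k = n + 1 by omega]; exact hmid
    | succ d ih => intro k hk; exact h.adj_ne_zero hq (by omega) (by omega) (by unfold Adj; omega) (ih (k + 1) (by omega))
  exact up (n + 1 - i) i (by omega) h0

include hq1

theorem Rel.adj_mul_ne_zero {i j : ℕ} (hi : i ≤ n + 3) (hj : j ≤ n + 3) (ha : Adj n i j) : R i * R j ≠ 0 := by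
  intro h0
  have hb := h.braid i hi j hj ha
  rw [h0, zero_mul, mul_assoc (R j), h0, mul_zero, zero_sub, zero_sub, neg_inj] at hb
  have he : R i = R j := smul_right_injective _ hq hb
  rw [← he, h.sq i hi, smul_eq_zero, neg_eq_zero] at h0
  exact h.all_ne_zero hq hi (h0.resolve_left hq1)

theorem Rel.adj_scalar {i j : ℕ} (hi : i ≤ n + 3) (hj : j ≤ n + 3) (ha : Adj n i j) :
    R i * R j * R i = q • R i := by
  obtain ⟨κ, hκ⟩ := h.sandwich hi j
  obtain ⟨κ', hκ'⟩ := h.sandwich hj i
  have hb := h.braid i hi j hj ha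
  rw [hκ, hκ', ← sub_smul, ← sub_smul] at hb
  obtain ⟨l, hl, hside⟩ := exists_third hi hj ha
  rcases hside with ⟨h1, h2, h3⟩ | ⟨h1, h2, h3⟩
  · have h4 := congrArg (fun T => R l * T) hb
    simp only [mul_smul_comm, h.orth l hl j hj h3 h2, smul_zero] at h4
    have hk := (smul_eq_zero.1 h4).resolve_right (h.adj_mul_ne_zero hq hq1 hl hi h1)
    rw [hκ, sub_eq_zero.1 hk]
  · have h4 := congrArg (fun T => R l * T) hb
    simp only [mul_smul_comm, h.orth l hl i hi h3 h2, smul_zero] at h4
    have hk := (smul_eq_zero.1 h4.symm).resolve_right (h.adj_mul_ne_zero hq hq1 hl hj h1)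
    rw [hk, zero_smul, smul_eq_zero] at hb
    rw [hκ, sub_eq_zero.1 (hb.resolve_right (h.all_ne_zero hq hi))]

omit hq1 hq h in
/-- The numbers in the recurrence. -/
theorem exists_geom (q : ℕ) : ∃ g : ℕ → ℕ, g 0 = 1 ∧ ∀ k, g (k + 1) = q * g k + 1 :=
  ⟨fun k => Nat.rec 1 (fun _ a => q * a + 1) k, rfl, fun _ => rfl⟩

/-- The count. -/
theorem Rel.count [FiniteDimensional ℂ W] {Qn : ℕ} (hQn : 2 ≤ Qn) (hqQ : q = Qn) : n + 4 ≤ finrank ℂ W := by
  classical
  subst hqQ
  -- the vectors along the diagram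
  have hex : ∀ k, ∃ u : W, u ≠ 0 ∧ (k ≤ n + 3 → ∀ w, ∃ a : ℂ, R k w = a • u) ∧ (k ≤ n + 3 → R k u = (-((Qn : ℂ) + 1)) • u) := by
    intro k
    by_cases hk : k ≤ n + 3
    · obtain ⟨w, hw⟩ : ∃ w, R k w ≠ 0 := by
        by_contra hno
        push Not at hno
        exact h.all_ne_zero hq hk (LinearMap.ext hno)
      obtain ⟨u₀, hu₀⟩ := h.line k hk
      refine ⟨R k w, hw, fun _ w' => ?_, fun _ => ?_⟩
      · obtain ⟨a, ha⟩ := hu₀ w
        obtain ⟨a', ha'⟩ := hu₀ w'
        have ha0 : a ≠ 0 := fun e => hw (by rw [ha, e, zero_smul])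
        exact ⟨a' / a, by rw [ha', ha, smul_smul, div_mul_cancel₀ _ ha0]⟩
      · rw [← Module.End.mul_apply, h.sq k hk]; rfl
    · obtain ⟨w, hw⟩ : ∃ w : W, w ≠ 0 := by
        by_contra hno
        push Not at hno
        exact h.all_ne_zero hq (le_refl (n + 3)) (LinearMap.ext fun w => by rw [hno w, map_zero]; rfl)
      exact ⟨w, hw, fun h' => absurd h' hk, fun h' => absurd h' hk⟩
  choose e he0 hline hself using hex
  -- rescale so that each vector is the image of the previous one
  have key : ∀ k, k ≤ n + 3 → ∀ l, l ≤ n + 3 → Adj n k l → ∀ w, w ≠ 0 → (∃ a : ℂ, w = a • e l) →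
      R k w ≠ 0 ∧ R l (R k w) = (Qn : ℂ) • w := by
    intro k hk l hl ha w hw ⟨a, hae⟩
    have hfix : R l (R k (e l)) = (Qn : ℂ) • e l := by
      have hs := LinearMap.congr_fun (h.adj_scalar hq hq1 hl hk ha.symm) (e l)
      simp only [Module.End.mul_apply, LinearMap.smul_apply, hself l hl, map_smul, smul_smul] at hs
      rw [mul_comm, ← smul_smul] at hs
      exact smul_right_injective W (neg_ne_zero.2 hq1) hs
    refine ⟨fun e0 => ?_, ?_⟩
    · have := congrArg (R l) e0
      rw [hae, map_smul, map_smul, map_zero, hfix, ← smul_comm, ← hae, smul_eq_zero] at this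
      exact this.elim hq hw
    · rw [hae, map_smul, map_smul, hfix, smul_comm]
  -- build the sequence
  let v : ℕ → W := fun k => Nat.rec (e 0) (fun k w => R (k + 1) w) k
  have hv0 : v 0 = e 0 := rfl
  have hvs : ∀ k, v (k + 1) = R (k + 1) (v k) := fun _ => rfl
  have hvk : ∀ k, k ≤ n + 2 → v k ≠ 0 ∧ ∃ a : ℂ, v k = a • e k := by
    intro k
    induction k with
    | zero => exact fun _ => ⟨he0 0, 1, by rw [one_smul, hv0]⟩
    | succ k ih =>
      intro hk
      obtain ⟨h1, h2⟩ := ih (by omega)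
      exact ⟨(key (k + 1) (by omega) k (by omega) (by unfold Adj; omega) _ h1 h2).1,
        hline (k + 1) (by omega) _⟩
  let vf : W := R (n + 3) (v (n + 1))
  have hvf : vf ≠ 0 ∧ ∃ a : ℂ, vf = a • e (n + 3) :=
    ⟨(key (n + 3) le_rfl (n + 1) (by omega) (by unfold Adj; omega) _ (hvk _ (by omega)).1 (hvk _ (by omega)).2).1,
      hline (n + 3) le_rfl _⟩
  let u : Fin (n + 4) → W := fun i => if i.val = n + 3 then vf else v i.val
  have hu0 : ∀ i, u i ≠ 0 := fun i => by
    show (if i.val = n + 3 then vf else v i.val) ≠ 0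
    split_ifs with h'
    exacts [hvf.1, (hvk _ (by omega)).1]
  have hue : ∀ i : Fin (n + 4), ∃ a : ℂ, u i = a • e i.val := fun i => by
    show ∃ a : ℂ, (if i.val = n + 3 then vf else v i.val) = a • e i.val
    split_ifs with h'
    · rw [h']; exact hvf.2
    · exact (hvk _ (by omega)).2
  have hself' : ∀ i : Fin (n + 4), R i.val (u i) = (-((Qn : ℂ) + 1)) • u i := fun i => by
    obtain ⟨a, ha⟩ := hue i
    rw [ha, map_smul, hself _ (by omega), smul_comm]
  have horth : ∀ i j : Fin (n + 4), i ≠ j → ¬ Adj n i.val j.val → R i.val (u j) = 0 := fun i j hne hna => by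
    obtain ⟨a, ha⟩ := hue j
    have h0 := LinearMap.congr_fun (h.orth i.val (by omega) j.val (by omega) (fun e => hne (Fin.ext e)) hna) (e j.val)
    rw [Module.End.mul_apply, hself _ (by omega), map_smul, LinearMap.zero_apply, smul_eq_zero, neg_eq_zero] at h0
    rw [ha, map_smul, h0.resolve_left hq1, smul_zero]
  -- coefficients
  have hstep : ∀ k (hk : k + 1 ≤ n + 2), R (k + 1) (v k) = v (k + 1) ∧ R k (v (k + 1)) = (Qn : ℂ) • v k :=
    fun k hk => ⟨(hvs k).symm,
      (key (k + 1) (by omega) k (by omega) (by unfold Adj; omega) _ (hvk k (by omega)).1 (hvk k (by omega)).2).2⟩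
  have hfork : R (n + 1) vf = (Qn : ℂ) • v (n + 1) :=
    (key (n + 3) le_rfl (n + 1) (by omega) (by unfold Adj; omega) _ (hvk _ (by omega)).1 (hvk _ (by omega)).2).2
  have hli : LinearIndependent ℂ u := by
    rw [Fintype.linearIndependent_iff]
    intro a ha
    let A : ℕ → ℂ := fun k => if hk : k < n + 4 then a ⟨k, hk⟩ else 0
    have hA : ∀ i : Fin (n + 4), A i.val = a i := fun i => dif_pos i.2
    have hsum : ∀ k, k ≤ n + 3 → ∑ i, a i • R k (u i) = 0 := fun k _ => by
      simpa using congrArg (R k) ha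
    have uval : ∀ k (hk : k < n + 4), k ≠ n + 3 → u ⟨k, hk⟩ = v k := fun k hk hne => if_neg hne
    have ufork : ∀ (hk : n + 3 < n + 4), u ⟨n + 3, hk⟩ = vf := fun hk => if_pos rfl
    -- first node
    have e0 : -((Qn : ℂ) + 1) * A 0 + (Qn : ℂ) * A 1 = 0 := by
      have hs := hsum 0 (by omega)
      rw [← Finset.sum_subset (Finset.subset_univ ({⟨0, by omega⟩, ⟨1, by omega⟩} : Finset (Fin (n + 4)))) ?_,
        Finset.sum_pair (by simp), hself' ⟨0, by omega⟩, uval 1 (by omega) (by omega),
        show R 0 (v 1) = (Qn : ℂ) • v 0 from (hstep 0 (by omega)).2,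
        uval 0 (by omega) (by omega), smul_smul, smul_smul, ← add_smul] at hs
      · have h2 := (smul_eq_zero.1 hs).resolve_right (hvk 0 (by omega)).1
        rw [← hA, ← hA] at h2
        linear_combination h2
      · intro i _ hi
        simp only [Finset.mem_insert, Finset.mem_singleton, Fin.ext_iff] at hi
        rw [horth ⟨0, by omega⟩ i (fun e => hi (Or.inl (congrArg Fin.val e.symm))) (by unfold Adj; simp only; omega),
          smul_zero]
    -- inner nodes
    have ein : ∀ j, j + 1 ≤ n → A j + -((Qn : ℂ) + 1) * A (j + 1) + (Qn : ℂ) * A (j + 2) = 0 := by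
      intro j hj
      have hs := hsum (j + 1) (by omega)
      rw [← Finset.sum_subset (Finset.subset_univ
          ({⟨j, by omega⟩, ⟨j + 1, by omega⟩, ⟨j + 2, by omega⟩} : Finset (Fin (n + 4)))) ?_,
        Finset.sum_insert (by simp), Finset.sum_pair (by simp), hself' ⟨j + 1, by omega⟩,
        uval j (by omega) (by omega), uval (j + 1) (by omega) (by omega), uval (j + 2) (by omega) (by omega),
        (hstep j (by omega)).1,
        show R (j + 1) (v (j + 2)) = (Qn : ℂ) • v (j + 1) from (hstep (j + 1) (by omega)).2, smul_smul, smul_smul, ← add_smul, ← add_smul] at hs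
      · have h2 := (smul_eq_zero.1 hs).resolve_right (hvk (j + 1) (by omega)).1
        rw [← hA, ← hA, ← hA] at h2
        linear_combination h2
      · intro i _ hi
        simp only [Finset.mem_insert, Finset.mem_singleton, Fin.ext_iff] at hi
        rw [horth ⟨j + 1, by omega⟩ i (fun e => hi (Or.inr (Or.inl (congrArg Fin.val e.symm))))
          (by unfold Adj; simp only; omega), smul_zero]
    -- the branching node
    have eb : A n + -((Qn : ℂ) + 1) * A (n + 1) + (Qn : ℂ) * A (n + 2) + (Qn : ℂ) * A (n + 3) = 0 := by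
      have hs := hsum (n + 1) (by omega)
      rw [← Finset.sum_subset (Finset.subset_univ
          ({⟨n, by omega⟩, ⟨n + 1, by omega⟩, ⟨n + 2, by omega⟩, ⟨n + 3, by omega⟩} : Finset (Fin (n + 4)))) ?_,
        Finset.sum_insert (by simp), Finset.sum_insert (by simp), Finset.sum_pair (by simp),
        hself' ⟨n + 1, by omega⟩, uval n (by omega) (by omega), uval (n + 1) (by omega) (by omega),
        uval (n + 2) (by omega) (by omega), ufork, (hstep n (by omega)).1,
        show R (n + 1) (v (n + 2)) = (Qn : ℂ) • v (n + 1) from (hstep (n + 1) (by omega)).2, hfork,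
        smul_smul, smul_smul, smul_smul, ← add_smul, ← add_smul, ← add_smul] at hs
      · have h2 := (smul_eq_zero.1 hs).resolve_right (hvk (n + 1) (by omega)).1
        rw [← hA, ← hA, ← hA, ← hA] at h2
        linear_combination h2
      · intro i _ hi
        simp only [Finset.mem_insert, Finset.mem_singleton, Fin.ext_iff] at hi
        rw [horth ⟨n + 1, by omega⟩ i (fun e => hi (Or.inr (Or.inl (congrArg Fin.val e.symm))))
          (by unfold Adj; simp only; omega), smul_zero]
    -- the two ends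
    have el : A (n + 1) + -((Qn : ℂ) + 1) * A (n + 2) = 0 := by
      have hs := hsum (n + 2) (by omega)
      rw [← Finset.sum_subset (Finset.subset_univ ({⟨n + 1, by omega⟩, ⟨n + 2, by omega⟩} : Finset (Fin (n + 4)))) ?_,
        Finset.sum_pair (by simp), hself' ⟨n + 2, by omega⟩, uval (n + 1) (by omega) (by omega),
        show R (n + 2) (v (n + 1)) = v (n + 2) from (hstep (n + 1) (by omega)).1, uval (n + 2) (by omega) (by omega),
        smul_smul, ← add_smul] at hs
      · have h2 := (smul_eq_zero.1 hs).resolve_right (hvk (n + 2) (by omega)).1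
        rw [← hA, ← hA] at h2
        linear_combination h2
      · intro i _ hi
        simp only [Finset.mem_insert, Finset.mem_singleton, Fin.ext_iff] at hi
        rw [horth ⟨n + 2, by omega⟩ i (fun e => hi (Or.inr (congrArg Fin.val e.symm))) (by unfold Adj; simp only; omega),
          smul_zero]
    have ef : A (n + 1) + -((Qn : ℂ) + 1) * A (n + 3) = 0 := by
      have hs := hsum (n + 3) le_rfl
      rw [← Finset.sum_subset (Finset.subset_univ ({⟨n + 1, by omega⟩, ⟨n + 3, by omega⟩} : Finset (Fin (n + 4)))) ?_,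
        Finset.sum_pair (by simp), hself' ⟨n + 3, by omega⟩, uval (n + 1) (by omega) (by omega), ufork,
        smul_smul] at hs
      · have e : R (n + 3) (v (n + 1)) = vf := rfl
        rw [e, ← add_smul] at hs
        have h2 := (smul_eq_zero.1 hs).resolve_right hvf.1
        rw [← hA, ← hA] at h2
        linear_combination h2
      · intro i _ hi
        simp only [Finset.mem_insert, Finset.mem_singleton, Fin.ext_iff] at hi
        rw [horth ⟨n + 3, by omega⟩ i (fun e => hi (Or.inr (congrArg Fin.val e.symm))) (by unfold Adj; simp only; omega),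
          smul_zero]
    -- solve
    obtain ⟨g, hg0, hgs⟩ := exists_geom Qn
    have hgC : ∀ k, ((g (k + 1) : ℕ) : ℂ) = (Qn : ℂ) * g k + 1 := fun k => by rw [hgs]; push_cast; ring
    have hpow : ∀ j, j ≤ n + 1 → (Qn : ℂ) ^ j * A j = g j * A 0 := by
      intro j
      induction j using Nat.twoStepInduction with
      | zero => intro _; simp [hg0]
      | one =>
        intro _
        rw [pow_one, hgC 0, hg0]
        push_cast
        linear_combination e0
      | more j ih1 ih2 =>
        intro hj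
        have h1 := ih1 (by omega)
        have h2 := ih2 (by omega)
        have h3 := ein j (by omega)
        rw [hgC (j + 1), hgC j]
        rw [hgC j] at h2
        rw [pow_succ, pow_succ]
        rw [pow_succ] at h2
        linear_combination (Qn : ℂ) ^ j * (Qn : ℂ) * h3 + ((Qn : ℂ) + 1) * h2 - (Qn : ℂ) * h1
    have hlt : Qn * (Qn + 1) * g n < (Qn * Qn + 1) * g (n + 1) := by
      rw [hgs]
      nlinarith [Nat.mul_le_mul_right (g n) (Nat.mul_le_mul_left Qn hQn)]
    have hA0 : A 0 = 0 := by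
      have h1 := hpow n (by omega)
      have h2 := hpow (n + 1) le_rfl
      rw [pow_succ] at h2
      have key2 : (((Qn * Qn + 1) * g (n + 1) : ℕ) : ℂ) * A 0 - ((Qn * (Qn + 1) * g n : ℕ) : ℂ) * A 0 = 0 := by
        push_cast
        linear_combination (-(Qn : ℂ) ^ n * Qn * ((Qn : ℂ) + 1)) * eb + ((Qn : ℂ) * (Qn + 1)) * h1 +
          (-((Qn : ℂ) * Qn + 1)) * h2 + (-(Qn : ℂ) ^ n * Qn * Qn) * el + (-(Qn : ℂ) ^ n * Qn * Qn) * ef
      rw [← sub_mul, mul_eq_zero, sub_eq_zero, Nat.cast_inj] at key2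
      exact key2.resolve_left hlt.ne'
    have hall : ∀ j, j ≤ n + 1 → A j = 0 := fun j hj => by
      have := hpow j hj
      rw [hA0, mul_zero, mul_eq_zero] at this
      exact this.resolve_left (pow_ne_zero _ hq)
    intro i
    rw [← hA]
    rcases Nat.lt_or_ge i.val (n + 2) with hi | hi
    · exact hall _ (by omega)
    have h1 := hall (n + 1) le_rfl
    rw [h1, zero_add, mul_eq_zero, neg_eq_zero] at el ef
    rcases (show i.val = n + 2 ∨ i.val = n + 3 by omega) with hi' | hi' <;> rw [hi']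
    exacts [el.resolve_left hq1, ef.resolve_left hq1]
  have := hli.fintype_card_le_finrank
  rwa [Fintype.card_fin] at this

end CfsgLib.Classical.OrthMin.RankOne
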