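/-
The weights when the complement vanishes: enough vectors fixed by the Siegel radical.
-/
import Cfsg.Agent.Lib.Classical.OrthMin.Hecke
import Cfsg.Agent.Lib.Classical.OrthMin.Odd
import Cfsg.Agent.Lib.Classical.OrthMin.RankOne

set_option autoImplicit false

namespace CfsgLib.Classical.OrthMin

open Matrix Module Cfsg.Geo CfsgLib.Perm.Trans CfsgLib.Perm.Trans.Quad

variable {ι : Type} [Fintype ι] [DecidableEq ι] {F : Type*} [Field F] [Fintype F]
variable {Q : (ι → F) → F} {m : ℕ}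
variable {V : Type*} [AddCommGroup V] [Module ℂ V]

local notation "pol" => QuadraticMap.polar

namespace Fr

variable {S : Fr Q m} {ρ : Representation ℂ ↥(Cfsg.Omega F Q) V} {ψ : AddChar F ℂ}

theorem IsPlus.sg_one (hp : S.IsPlus) (a : Fˣ) : S.sg a = 1 := by
  haveI : Subsingleton ↥S.K :=
    ⟨fun x y => Subtype.ext ((hp.bot _ x.2).trans (hp.bot _ y.2).symm)⟩
  show ((Equiv.Perm.sign (MulAction.toPermHom Fˣ ↥S.K a) : ℤ) : ℂ) = 1
  rw [Subsingleton.elim (MulAction.toPermHom Fˣ ↥S.K a) 1, map_one]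
  simp

variable (H : S.Small ρ ψ) (hp : S.IsPlus)
include H hp

/-- A vector moved at a node has trivial weight. -/
theorem Small.weight_one_of_rem {i j : Fin m} (hij : i ≠ j) (hj : (j : ℕ) = i + 1) {b : V} (hb : b ∈ S.VU ρ)
    (hb0 : b ≠ 0) {χ : ↥(sqDet F m) → ℂ} (hχ : ∀ d, ρ (S.tor d) b = χ d • b) (hrem : rem S ρ hij b ≠ 0) :
    ∀ d, χ d = 1 := by
  have hw : IsWeight S ρ χ := ⟨b, hb, hb0, hχ⟩
  have h4 := hp.four
  have hflip : ∀ {a c : Fin m} (hac : a ≠ c), (c : ℕ) = a + 1 →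
      rem S ρ hac b ≠ 0 → ∀ d : ↥(sqDet F m), d.1 a = d.1 c → χ d = 1 := fun hac hc hr d hd => by
    rw [H.flip hac hc hb hχ hr d hd, hp.sg_one]
  have hfixed : ∀ {a c : Fin m} (hac : a ≠ c), (c : ℕ) = a + 1 → rem S ρ hac b = 0 → ∀ x, χ (hmn a c x) = 1 :=
    fun {a c} hac hc hr x => by
      refine smul_left_injective ℂ hb0 ?_
      show χ (hmn a c x) • b = (1 : ℂ) • b
      rw [← hχ, one_smul, tor_hmn_eq S hac]
      have hx := fun t => xr_fix_VU (S := S) (ρ := ρ) hac (Fin.lt_def.2 (by omega)) hb t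
      have hy := fun t => rem_zero_fix hac hr t
      simp only [xr] at hx hy
      simp only [wel, _root_.map_mul, Module.End.mul_apply, hx, hy]
  -- a neighbouring node
  obtain ⟨k, hk⟩ : ∃ k : Fin m, (k : ℕ) = j + 1 ∨ (k : ℕ) + 1 = i := by
    by_cases h : (j : ℕ) + 1 < m
    · exact ⟨⟨j + 1, h⟩, Or.inl rfl⟩
    · exact ⟨⟨i - 1, by omega⟩, Or.inr (by simp only; omega)⟩
  have hki : k ≠ i := fun e => by rw [e] at hk; omega
  have hkj : k ≠ j := fun e => by rw [e] at hk; omega
  have hdecomp : ∀ d : ↥(sqDet F m), χ d = χ (hmn j k ((d.1 i)⁻¹ * d.1 j)) := fun d => by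
    have e : d = hmn j k ((d.1 i)⁻¹ * d.1 j) * ((hmn j k ((d.1 i)⁻¹ * d.1 j))⁻¹ * d) :=
      (mul_inv_cancel_left _ _).symm
    conv_lhs => rw [e]
    rw [hw.map_mul, hflip hij hj hrem ((hmn j k ((d.1 i)⁻¹ * d.1 j))⁻¹ * d) ?_, mul_one]
    have hv : ((hmn j k ((d.1 i)⁻¹ * d.1 j))⁻¹ * d).1 i = d.1 i := by simp [hmn_val, hij, hki.symm]
    rw [hv]
    simp [hmn_val, hkj.symm, mul_comm]
  suffices key : ∀ a, χ (hmn j k a) = 1 from fun d => by rw [hdecomp, key]
  intro a
  obtain ⟨l, hli, hlj, hlk⟩ : ∃ l : Fin m, l ≠ i ∧ l ≠ j ∧ l ≠ k := by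
    by_contra h
    push Not at h
    have hsub : (Finset.univ : Finset (Fin m)) ⊆ {i, j, k} := fun l _ => by
      rcases eq_or_ne l i with e | e
      · simp [e]
      rcases eq_or_ne l j with e' | e'
      · simp [e']
      · simp [h l e e']
    have h2 := (Finset.card_le_card hsub).trans Finset.card_le_three
    rw [Finset.card_univ, Fintype.card_fin] at h2
    omega
  rcases hk with hk | hk
  · by_cases hr : rem S ρ hkj.symm b = 0
    · exact hfixed hkj.symm hk hr a
    · have h1 := hflip hkj.symm hk hr (hmn i l a⁻¹) (by simp [hmn_val, hij.symm, hlj.symm, hki, hlk.symm])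
      rw [hdecomp] at h1
      simpa [hmn_val, hij, hij.symm, hli.symm, hlj.symm] using h1
  · by_cases hr : rem S ρ hki b = 0
    · have h1 := hfixed hki hk.symm hr a
      rw [hdecomp] at h1
      simpa [hmn_val, hki, hki.symm, hkj.symm, hij.symm] using h1
    · have h1 := hflip hki hk.symm hr (hmn j l a) (by simp [hmn_val, hkj, hlk.symm, hij, hli.symm])
      rw [hdecomp] at h1
      simpa [hmn_val, hij, hij.symm, hlj.symm, hli.symm] using h1

omit H in
theorem hK_plus : ∀ k ∈ S.K, k = 0 := hp.bot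

/-- A vector moved at no node vanishes. -/
theorem Small.eq_zero_of_rems {I L : Fin m} (hIL : I ≠ L) (hL : (L : ℕ) + 1 = m) (hI : (L : ℕ) = I + 1) {b : V}
    (hb : b ∈ S.VU ρ) (h1 : ∀ (i j : Fin m) (hij : i ≠ j), (j : ℕ) = i + 1 → rem S ρ hij b = 0)
    (h2 : rem S (S.tw L ρ) hIL b = 0) : b = 0 := by
  have h4 := hp.four
  have hlow : ∀ (i j : Fin m) (hij : i ≠ j), (j : ℕ) = i + 1 → ∀ t, ρ (S.xr hij.symm t) b = b :=
    fun i j hij hj t => rem_zero_fix hij (h1 i j hij hj) t
  set o : Fin m := ⟨0, by omega⟩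
  have hIo : o ≠ I := fun e => by have := congrArg Fin.val e; simp [o] at this; omega
  have hoL : o ≠ L := fun e => by have := congrArg Fin.val e; simp [o] at this; omega
  have hpff : ∀ a c : Fin m, ∀ t : F, pol Q (S.f a) (t • S.f c) = 0 := fun a c t => by
    rw [psmul_right S.hQ, S.pff, mul_zero]
  have hIbase : ∀ t : F, eich Q (S.f I) (t • S.f L) ∈ stab ρ b := fun t => by
    have h := rem_zero_fix hIL h2 t
    rw [xr, tw_apply, twist_trv_first S L hIL.symm] at h
    have h0 : pol Q (S.f I) (t • S.f L) = 0 := hpff I L t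
    have e : eich Q (S.f L) ((-t) • S.f I) = eich Q (S.f I) (t • S.f L) := by
      rw [S.eich_swap (S.qf I) (by rw [Quad.qsmul S.hQ, S.qf, mul_zero]) h0,
        S.eich_smul_left (S.qf L) (by rw [pneg_right S.hQ, S.pff, neg_zero]), smul_neg, neg_smul]
    rw [e] at h
    exact h
  have hobase : ∀ t : F, eich Q (S.f o) (t • S.f L) ∈ stab ρ b := fun t => by
    have h := S.eich_conj (S.qf I) (hpff I L t) (S.nd hIo)
    have e1 := act_nd_f (S := S) hIo
    have e2 : act (S.nd hIo) (t • S.f L) = t • S.f L := by rw [act_smul, act_nd_f_fix hIo hoL.symm hIL.symm]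
    rw [e1, e2] at h
    rw [← h]
    exact mul_mem (mul_mem (nd_mem_stab hb hlow hIo) (hIbase t)) (inv_mem (nd_mem_stab hb hlow hIo))
  refine H.eq_zero_of_fixed hb hlow L o (fun k hk => ?_) fun l hlo t => ?_
  · rw [hp.bot k hk, S.eich_zero (S.qf L), _root_.map_one, Module.End.one_apply]
  · show eich Q (S.f o) (t • S.f l) ∈ stab ρ b
    rcases eq_or_ne l L with rfl | hlL
    · exact hobase t
    have h := S.eich_conj (S.qf o) (hpff o L t) (S.nd hlL)
    have e1 : act (S.nd hlL) (S.f o) = S.f o := act_nd_f_fix hlL hlo.symm hoL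
    have e2 : act (S.nd hlL) (t • S.f L) = t • S.f l := by rw [act_smul, act_nd_f]
    rw [e1, e2] at h
    rw [← h]
    exact mul_mem (mul_mem (nd_mem_stab hb hlow hlL) (hobase t)) (inv_mem (nd_mem_stab hb hlow hlL))

/-- All weights are trivial. -/
theorem Small.weight_one {L : Fin m} (hL : (L : ℕ) + 1 = m) {χ : ↥(sqDet F m) → ℂ} (h : IsWeight S ρ χ)
    (d : ↥(sqDet F m)) : χ d = 1 := by
  obtain ⟨b, hb, hb0, hχ⟩ := h
  have h4 := hp.four
  have hb' : b ∈ S.VU (S.tw L ρ) := by rwa [VU_tw L hp.bot hL]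
  have hχ' : ∀ d, S.tw L ρ (S.tor d) b = χ (twd L d) • b := fun d => by rw [tw_apply, twist_tor, hχ]
  set I : Fin m := ⟨m - 2, by omega⟩
  have hIL : I ≠ L := fun e => by have := congrArg Fin.val e; simp [I] at this; omega
  by_cases h1 : ∃ (i j : Fin m) (hij : i ≠ j), (j : ℕ) = i + 1 ∧ rem S ρ hij b ≠ 0
  · obtain ⟨i, j, hij, hj, hr⟩ := h1
    exact H.weight_one_of_rem hp hij hj hb hb0 hχ hr d
  push Not at h1
  by_cases h2 : rem S (S.tw L ρ) hIL b = 0
  · exact absurd (H.eq_zero_of_rems hp hIL hL (by simp [I]; omega) hb h1 h2) hb0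
  · have h3 := (H.twisted L).weight_one_of_rem hp hIL (by simp [I]; omega) hb' hb0 hχ' h2 (twd L d)
    rwa [twd_twd] at h3

/-- The torus fixes all highest vectors. -/
theorem Small.torus_fix {b : V} (hb : b ∈ S.VU ρ) (d : ↥(sqDet F m)) : ρ (S.tor d) b = b := by
  classical
  haveI : Fintype (Additive ↥(sqDet F m)) := Fintype.ofFinite _
  have hm := S.hm
  set L : Fin m := ⟨m - 1, by omega⟩
  have h := (S.Tact ρ).apply_eq_sum (Additive.ofMul d) b
  conv_rhs => rw [← (S.Tact ρ).sum_proj_apply b]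
  refine h.trans (Finset.sum_congr rfl fun χ _ => ?_)
  rcases eq_or_ne ((S.Tact ρ).proj χ b) 0 with h0 | h0
  · rw [h0, smul_zero]
  have hmem : (S.Tact ρ).proj χ b ∈ S.VU ρ := by
    rw [Act.proj, LinearMap.smul_apply, LinearMap.sum_apply]
    exact Submodule.smul_mem _ _ (Submodule.sum_mem _ fun a _ => Submodule.smul_mem _ _ (W_tor _ hb))
  have hw : IsWeight S ρ fun d => χ (Additive.ofMul d) :=
    ⟨_, hmem, h0, fun d => (S.Tact ρ).proj_mem χ b (Additive.ofMul d)⟩
  have h1 := H.weight_one hp (L := L) (by simp [L]; omega) hw d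
  beta_reduce at h1
  rw [h1, one_smul]

/-- Elements away from an axis fix its row eigenspace. -/
theorem Small.trv_fix_Sp {i j a c : Fin m} (hij : i ≠ j) (hlt : i < j) (hia : i < a) (hic : i < c) (hja : a ≠ j)
    (hjc : c ≠ j) (hac : a ≠ c) (t : F) {x : F} (hx : x ≠ 0) {p : V} (hp' : p ∈ S.Sp ρ ψ i (Pi.single j x)) :
    ρ (S.le (trv hac t)) p = p := by
  let r : ↥(RowSp F i) := ⟨Pi.single j x, fun l hl => Pi.single_eq_of_ne (hl.trans_lt hlt).ne _⟩
  have hr : r.1 ≠ 0 := fun e => hx (by simpa [r] using congrFun e j)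
  have hgp : ρ (S.le (trv hac t)) p ∈ S.Sp ρ ψ i r.1 := by
    refine Sp_le _ (fun y hy => ⟨1, ?_⟩) (a := 1) ?_ ?_ hp'
    · rw [trv_mulVec, Pi.single_eq_of_ne (hy.trans_lt hic).ne']
      simp
    · rw [trv_mulVec, Pi.single_eq_of_ne hic.ne']
      simp
    · rw [trv_mulVec, Pi.single_eq_of_ne hjc]
      simp [r]
  have hv : S.vec (-r.1) 0 0 = (-x) • S.e j := by simp [r, vec, Pi.single_apply]
  have hF : S.Fix i (S.le (trv hac t)) := S.le_trv_fix hac hia.ne hic.ne t
  have hP := S.proj_move ρ ψ hF (S.vec (-r.1) 0 0) p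
  have hv' : act (S.le (trv hac t)) (S.vec (-r.1) 0 0) = S.vec (-r.1) 0 0 := by
    rw [hv, act_smul, act_trv_e, if_neg hjc.symm]
  rw [hv'] at hP
  have hmem : (S.R ρ i).proj (S.chi ψ i (S.vec (-r.1) 0 0)) p ∈ S.Eg ρ ψ i ((-x) • S.e j) := by
    rw [← hv]; exact (S.R ρ i).proj_mem _ _
  rw [(H.away_trv hij hia.ne' hja hic.ne' hjc hac t _ (neg_ne_zero.2 hx)).2 _ hmem] at hP
  refine sub_eq_zero.1 (H.Sp_inj hr (Submodule.sub_mem _ hgp hp') ?_)
  rw [map_sub, ← hP, sub_self]

omit hp in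
theorem Small.Rop_mem {i j : Fin m} (hij : i ≠ j) (hj : (j : ℕ) = i + 1) {b : V} (hb : b ∈ S.VU ρ) :
    S.Rop ρ hij b ∈ S.VU ρ := by
  rw [Rop_apply]
  exact Submodule.sub_mem _ (Top_mem hij hj hb) (Submodule.smul_mem _ _ hb)

omit H hp in
theorem Rop_zero_of_nd {i j : Fin m} (hij : i ≠ j) (hlt : i < j) {b : V} (hb : b ∈ S.VU ρ)
    (hn : ρ (S.nd hij) b = b) : S.Rop ρ hij b = 0 := by
  rw [Rop_apply, Top_apply, Finset.sum_congr rfl fun t _ => by rw [hn, xr_fix_VU hij hlt hb t], Finset.sum_const,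
    Finset.card_univ, ← Nat.cast_smul_eq_nsmul ℂ, sub_self]

/-- Distant nodes are orthogonal. -/
theorem Small.Rop_orth {i j k l : Fin m} (hij : i ≠ j) (hkl : k ≠ l) (hj : (j : ℕ) = i + 1) (hl : (l : ℕ) = k + 1)
    (hdist : (i : ℕ) + 1 < k) {b : V} (hb : b ∈ S.VU ρ) :
    S.Rop ρ hkl (S.Rop ρ hij b) = 0 ∧ S.Rop ρ hij (S.Rop ρ hkl b) = 0 := by
  have hki : k ≠ i := fun e => by rw [e] at hdist; omega
  have hkj : k ≠ j := fun e => by rw [e] at hdist; omega
  have hli : l ≠ i := fun e => by rw [e] at hl; omega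
  have hlj : l ≠ j := fun e => by rw [e] at hl; omega
  have hlt : i < j := Fin.lt_def.2 (by omega)
  have hik : i < k := Fin.lt_def.2 (by omega)
  have hil : i < l := Fin.lt_def.2 (by omega)
  have hcomm : S.nd hkl * S.nd hij = S.nd hij * S.nd hkl := by
    simp only [nd, ← _root_.map_mul]
    congr 1
    refine sl_ext fun v => ?_
    simp only [sl_mul_mulVec, wel_one_mulVec]
    funext x
    rcases eq_or_ne x i with rfl | hxi
    · simp [Function.update_apply, hij, hij.symm, hki, hki.symm, hkj, hkj.symm, hli, hli.symm, hlj, hlj.symm]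
    rcases eq_or_ne x j with rfl | hxj
    · simp [Function.update_apply, hij, hij.symm, hki, hki.symm, hkj, hkj.symm, hli, hli.symm, hlj, hlj.symm]
    rcases eq_or_ne x k with rfl | hxk
    · simp [Function.update_apply, hij, hki, hki.symm, hkj, hkj.symm, hli, hli.symm, hlj, hlj.symm, hkl, hkl.symm]
    rcases eq_or_ne x l with rfl | hxl
    · simp [Function.update_apply, hij, hki, hki.symm, hkj, hkj.symm, hli, hli.symm, hlj, hlj.symm, hkl, hkl.symm]
    · simp [hxi, hxj, hxk, hxl]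
  have hfix : ∀ c : F, c ≠ 0 → ∀ p ∈ S.Sp ρ ψ i (Pi.single j c), ρ (S.nd hkl) p = p := fun c hc p hp' => by
    have h1 := fun t => H.trv_fix_Sp hp hij hlt hik hil hkj hlj hkl t hc hp'
    have h2 := fun t => H.trv_fix_Sp hp hij hlt hil hik hlj hkj hkl.symm t hc hp'
    simp only [nd_eq, _root_.map_mul, Module.End.mul_apply, xr, h1, h2]
  have h1 : S.Rop ρ hkl (S.Rop ρ hij b) = 0 :=
    Rop_zero_of_nd hkl (Fin.lt_def.2 (by omega)) (H.Rop_mem hij hj hb)
      (H.fix_Rop (fun b hb d => H.torus_fix hp hb d) hij hj hfix hcomm hb)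
  refine ⟨h1, ?_⟩
  have h2 := congrArg (fun T : Module.End ℂ V => T b) (S.Top_comm ρ hij hkl hki hkj hli hlj)
  simp only [Module.End.mul_apply] at h2
  rw [← h1]
  simp only [Rop_apply, map_sub, map_smul, h2]
  module

omit H hp in
theorem Top_tw {L : Fin m} {i j : Fin m} (hij : i ≠ j) (hi : i ≠ L) (hj : j ≠ L) :
    S.Top (S.tw L ρ) hij = S.Top ρ hij := by
  refine Finset.sum_congr rfl fun t _ => ?_
  simp only [_root_.map_mul, nd_eq, xr, tw_apply, twist_trv S L hij hi hj, twist_trv S L hij.symm hj hi]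

omit H hp in
theorem Rop_tw {L : Fin m} {i j : Fin m} (hij : i ≠ j) (hi : i ≠ L) (hj : j ≠ L) :
    S.Rop (S.tw L ρ) hij = S.Rop ρ hij := by
  rw [Rop, Rop, Top_tw hij hi hj]

omit H hp in
theorem act_nd_e {i j : Fin m} (hij : i ≠ j) : act (S.nd hij) (S.e j) = S.e i := by
  rw [nd_eq, act_mul, act_mul]
  simp only [xr, act_trv_e, if_neg hij, if_neg hij.symm, if_true, act_add, act_smul]
  module

omit H hp in
theorem act_nd_e_fix {i j l : Fin m} (hij : i ≠ j) (hli : l ≠ i) (hlj : l ≠ j) :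
    act (S.nd hij) (S.e l) = S.e l := by
  rw [nd_eq, act_mul, act_mul]
  simp only [xr, act_trv_e, if_neg hli, if_neg hlj]

omit H hp in
theorem nd_mul_zel_single {I L l : Fin m} (hIL : I ≠ L) (hlI : l ≠ I) (hlL : l ≠ L) (t : F) :
    S.nd hIL * S.zel (single L l t) = S.zel (single I l t) * S.nd hIL := by
  rw [zel_single, zel_single]
  have h := S.eich_conj (S.qe L) (show pol Q (S.e L) (t • S.e l) = 0 by rw [psmul_right S.hQ, S.pee, mul_zero])
    (S.nd hIL)
  have e1 := act_nd_e (S := S) hIL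
  have e2 : act (S.nd hIL) (t • S.e l) = t • S.e l := by rw [act_smul, act_nd_e_fix hIL hlI hlL]
  rw [e1, e2] at h
  exact mul_inv_eq_iff_eq_mul.1 h

omit H hp in
theorem zel_comm_trv {I L a c : Fin m} (hIL : I ≠ L) (hac : a ≠ c) (h : (a = I ∧ c = L) ∨ (a = L ∧ c = I))
    (s t : F) : Commute (S.zel (single I L t)) (S.le (trv hac s)) := by
  show S.zel _ * S.le _ = S.le _ * S.zel _
  rw [le_mul_zel]
  congr 1
  have hd : ∀ (b : Fin m) (y : F), S.zel (single b b y) = 1 := fun b y => by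
    rw [S.zel_congr (N := 0) (fun p q => by simp only [single_apply, Matrix.zero_apply, sub_zero, and_comm, sub_self]),
      zel_zero]
  rw [trv_val, transvection, transpose_add, transpose_one, transpose_single]
  rcases h with ⟨rfl, rfl⟩ | ⟨rfl, rfl⟩
  · rw [Matrix.add_mul, Matrix.one_mul, single_mul_single_of_ne _ _ _ _ hac.symm, add_zero, Matrix.mul_add,
      Matrix.mul_one, single_mul_single_same, zel_add, hd, mul_one]
  · rw [Matrix.add_mul, Matrix.one_mul, single_mul_single_same, Matrix.mul_add, Matrix.mul_one, Matrix.add_mul,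
      single_mul_single_of_ne _ _ _ _ hac, zero_add, single_mul_single_of_ne _ _ _ _ hac, add_zero, zel_add, hd, mul_one]

omit H hp in
theorem eich_f_shift {L I : Fin m} (hIL : L ≠ I) (a s : F) :
    S.le (trv hIL s) * eich Q (S.f L) (a • S.f I) = eich Q (S.f L) (a • S.f I) * S.le (trv hIL s) := by
  have hua : pol Q (S.f L) (a • S.f I) = 0 := by rw [psmul_right S.hQ, S.pff, mul_zero]
  have h := S.eich_conj (S.qf L) hua (S.le (trv hIL s))
  have e1 : act (S.le (trv hIL s)) (S.f L) = S.f L + (-s) • S.f I := by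
    rw [act_trv_f, if_pos rfl, neg_smul, sub_eq_add_neg]
  have e2 : act (S.le (trv hIL s)) (a • S.f I) = a • S.f I := by rw [act_smul, act_trv_f, if_neg hIL.symm]
  have e3 : eich Q (S.f L + (-s) • S.f I) (a • S.f I) = eich Q (S.f L) (a • S.f I) := by
    refine S.eich_eq ?_ ?_ fun x => ?_
    · rw [Quad.qadd S.hQ, Quad.qsmul S.hQ, S.qf, S.qf, psmul_right S.hQ, S.pff]; ring
    · rw [padd_left S.hQ, psmul_left S.hQ, psmul_right S.hQ, psmul_right S.hQ, S.pff, S.pff]; ring
    · rw [S.eich_spec (S.qf L) hua]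
      simp only [padd_right S.hQ, psmul_right S.hQ, Quad.qsmul S.hQ, S.qf]
      match_scalars <;> ring
  rw [e1, e2, e3] at h
  exact mul_inv_eq_iff_eq_mul.1 h

omit H hp in
/-- The twisted node commutes with the last node. -/
theorem nd_comm_twist {I L : Fin m} (hIL : I ≠ L) :
    S.twist L (S.nd hIL) * S.nd hIL = S.nd hIL * S.twist L (S.nd hIL) := by
  have hy : ∀ s t : F, Commute (S.twist L (S.le (trv hIL.symm t))) (S.le (trv hIL.symm s)) := fun s t => by
    rw [twist_trv_first S L hIL.symm]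
    exact (eich_f_shift hIL.symm (-t) s).symm
  have hx : ∀ s t : F, Commute (S.twist L (S.le (trv hIL t))) (S.le (trv hIL s)) ∧
      Commute (S.twist L (S.le (trv hIL t))) (S.le (trv hIL.symm s)) := fun s t => by
    rw [twist_trv_last S L hIL]
    exact ⟨zel_comm_trv hIL hIL (Or.inl ⟨rfl, rfl⟩) s _, zel_comm_trv hIL hIL.symm (Or.inr ⟨rfl, rfl⟩) s _⟩
  have hyx : ∀ s t : F, Commute (S.twist L (S.le (trv hIL.symm t))) (S.le (trv hIL s)) := fun s t => by
    have h := ((hx t s).2.map (S.twist L))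
    rw [twist_twist] at h
    exact h.symm
  show Commute _ _
  simp only [nd_eq, xr, _root_.map_mul]
  exact Commute.mul_left (Commute.mul_left
    (Commute.mul_right (Commute.mul_right (hx _ _).1 (hx _ _).2) (hx _ _).1)
    (Commute.mul_right (Commute.mul_right (hyx _ _) (hy _ _)) (hyx _ _)))
    (Commute.mul_right (Commute.mul_right (hx _ _).1 (hx _ _).2) (hx _ _).1)

/-- The twisted node fixes the axis components of the last node. -/
theorem Small.twist_fix_Sp {I L : Fin m} (hIL : I ≠ L) (hL : (L : ℕ) + 1 = m) (hI : (L : ℕ) = I + 1) {x : F}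
    (hx : x ≠ 0) {p : V} (hp' : p ∈ S.Sp ρ ψ I (Pi.single L x)) : ρ (S.twist L (S.nd hIL)) p = p := by
  classical
  haveI := H.fd
  obtain ⟨hpW, hpr⟩ := (S.mem_Sp ρ ψ).1 hp'
  set g := S.twist L (S.nd hIL)
  have hxfix : ∀ t : F, ρ (S.twist L (S.le (trv hIL t))) p = p := fun t => by
    rw [twist_trv_last S L hIL]; exact hpW.1.1 _
  set w := ρ g p with hw
  have hzel : ∀ l, l ≠ L → ∀ t : F, ρ (eich Q (S.e I) (t • S.e l)) w = w := by
    intro l hlL t
    rw [← zel_single]
    rcases eq_or_ne l I with rfl | hlI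
    · rw [S.zel_congr (N := 0) (fun a b => by simp only [single_apply, Matrix.zero_apply, sub_zero, and_comm, sub_self]),
        zel_zero, _root_.map_one, Module.End.one_apply]
    have hlt : l < I := Fin.lt_def.2 (by
      have := fun e => hlI (Fin.ext e)
      have := fun e => hlL (Fin.ext e)
      omega)
    have h := nd_mul_zel_single (S := S) hIL hlI hlL t
    have e : S.zel (single I l t) * g = g * S.le (trv hlL t) := by
      have h' := congrArg (S.twist L) h
      rw [_root_.map_mul, _root_.map_mul, twist_zel S L hIL hlL] at h'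
      have e2 : S.twist L (S.zel (single L l t)) = S.le (trv hlL t) := by
        rw [S.zel_congr (N := single l L (-t)) (fun a b => by simp only [single_apply, and_comm]; split_ifs <;> simp),
          twist_zel_last S L hlL, neg_neg]
      rw [e2] at h'
      exact h'.symm
    rw [hw, ← Module.End.mul_apply, ← _root_.map_mul, e, _root_.map_mul, Module.End.mul_apply]
    congr 1
    have hmem : (Pi.single L t : Fin m → F) ∈ RowSp F l := fun y hy => Pi.single_eq_of_ne (hy.trans_lt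
      (hlt.trans (Fin.lt_def.2 (by omega)))).ne _
    have := hpW.2 l hlt ⟨_, hmem⟩
    rwa [rowE, ← trv_eq_tv hlL] at this
  have hxr : ∀ t : F, ρ (eich Q (S.e I) (t • S.f L)) w = ψ (-(t * x)) • w := by
    intro t
    rw [S.eich_ef hIL, hw, ← Module.End.mul_apply, ← _root_.map_mul]
    have hc : Commute g (S.le (trv hIL (-t))) := by
      have hy : ∀ s : F, Commute (S.twist L (S.le (trv hIL s))) (S.le (trv hIL (-t))) ∧
          Commute (S.twist L (S.le (trv hIL.symm s))) (S.le (trv hIL (-t))) := fun s => by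
        constructor
        · rw [twist_trv_last S L hIL]
          exact zel_comm_trv hIL hIL (Or.inl ⟨rfl, rfl⟩) _ _
        · have h0 : Commute (S.twist L (S.le (trv hIL (-t)))) (S.le (trv hIL.symm s)) := by
            rw [twist_trv_last S L hIL]
            exact zel_comm_trv hIL hIL.symm (Or.inr ⟨rfl, rfl⟩) _ _
          have h1 := h0.map (S.twist L)
          rw [twist_twist] at h1
          exact h1.symm
      show Commute (S.twist L (S.nd hIL)) _
      rw [nd_eq, _root_.map_mul, _root_.map_mul]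
      exact Commute.mul_left (Commute.mul_left (hy _).1 (hy _).2) (hy _).1
    rw [← hc.eq, _root_.map_mul, Module.End.mul_apply]
    have hmem : (Pi.single L (-t) : Fin m → F) ∈ RowSp F I := fun y hy => Pi.single_eq_of_ne (hy.trans_lt
      (Fin.lt_def.2 (by omega))).ne _
    have h := hpr ⟨_, hmem⟩
    rw [rowE, ← trv_eq_tv hIL, single_dotProduct, Pi.single_eq_same, neg_mul] at h
    rw [h, map_smul]
  have hwfix : ∀ t : F, ρ (eich Q (S.e I) (t • S.e L)) w = w := by
    intro t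
    have ha : t • S.e L ∈ S.P I := (S.P I).smul_mem t (S.e_mem_P hIL.symm)
    show (S.R ρ I).τ ⟨_, ha⟩ w = w
    rw [(S.R ρ I).apply_eq_sum]
    conv_rhs => rw [← (S.R ρ I).sum_proj_apply w]
    refine Finset.sum_congr rfl fun χ _ => ?_
    obtain ⟨⟨v, hv⟩, rfl⟩ := S.chi_surj H.hψ I χ
    set q := (S.R ρ I).proj (S.chi ψ I v) w with hq
    rcases eq_or_ne q 0 with hq0 | hq0
    · rw [hq0, smul_zero]
    have hqE : q ∈ S.Eg ρ ψ I v := (S.R ρ I).proj_mem _ w
    have hQv : Q v = 0 := S.singular_of_Eg ρ H.hψ H.hq H.hV hv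
      (fun e => hq0 (by rwa [e, Submodule.mem_bot] at hqE))
    have hscal : ∀ a ∈ S.P I, ∀ s : ℂ, ρ (eich Q (S.e I) a) w = s • w → ψ (pol Q a v) = s := by
      intro a ha' s hs
      have h1 := congrArg (fun T : Module.End ℂ V => T w)
        ((S.R ρ I).proj_comm (g := (S.R ρ I).τ ⟨a, ha'⟩) (fun b => by rw [← (S.R ρ I).add, ← (S.R ρ I).add, add_comm])
          (S.chi ψ I v))
      simp only [Module.End.mul_apply] at h1
      rw [show (S.R ρ I).τ ⟨a, ha'⟩ w = s • w from hs, map_smul, ← hq] at h1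
      exact smul_left_injective ℂ hq0 (((S.mem_Eg ρ ψ).1 hqE a ha').symm.trans h1)
    have hbe : ∀ l, l ≠ L → S.be v l = 0 := fun l hlL => by
      rcases eq_or_ne l I with rfl | hlI
      · exact hv.1
      refine eq_zero_of_psi H.hψ fun s => ?_
      have h := hscal _ ((S.P I).smul_mem s (S.e_mem_P hlI)) 1 (by rw [one_smul]; exact hzel l hlL s)
      rwa [psmul_left S.hQ, pcomm _ v, ← be_apply] at h
    have hal : S.al v L + x = 0 := eq_zero_of_psi H.hψ fun s => by
      have h := hscal _ ((S.P I).smul_mem s (S.f_mem_P hIL.symm)) _ (hxr s)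
      rw [psmul_left S.hQ, pcomm _ v, ← al_apply] at h
      rw [mul_add, AddChar.map_add_eq_mul, h, ← AddChar.map_add_eq_mul, neg_add_cancel, AddChar.map_zero_eq_one]
    rw [S.q_coords, hp.bot _ (S.kp_mem v), qzero S.hQ, add_zero, dotProduct,
      Finset.sum_eq_single L (fun l _ hl => by rw [hbe l hl, mul_zero]) (by simp)] at hQv
    have hbeL : S.be v L = 0 := (mul_eq_zero.1 hQv).resolve_left fun e => hx (by rwa [e, zero_add] at hal)
    rw [chi_apply, psmul_left S.hQ, pcomm _ v, ← be_apply, hbeL, mul_zero, AddChar.map_zero_eq_one, one_smul]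
  -- conjugate back
  have hlow : ∀ t : F, ρ (S.twist L (S.le (trv hIL.symm t))) p = p := by
    intro t
    have h1 := S.xr_lower hIL t
    have h2 := congrArg (S.twist L) h1
    rw [_root_.map_mul, _root_.map_mul] at h2
    have h3 : S.twist L (S.xr hIL.symm t) * g = g * S.twist L (S.xr hIL (-t)) := h2.symm
    have hgi : ρ g⁻¹ w = p := by
      rw [hw, ← Module.End.mul_apply, ← _root_.map_mul, inv_mul_cancel, _root_.map_one, Module.End.one_apply]
    have hw2 : ρ (S.twist L (S.xr hIL (-t))) w = w := by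
      rw [xr, twist_trv_last S L hIL, zel_single]; exact hwfix _
    have h4 : S.twist L (S.xr hIL.symm t) = g⁻¹ * S.twist L (S.xr hIL (-t)) * g := by
      have hnn : Commute (g * g) (S.twist L (S.xr hIL (-t))) := by
        show Commute (S.twist L (S.nd hIL) * S.twist L (S.nd hIL)) _
        rw [← _root_.map_mul]
        refine Commute.map ?_ _
        show S.nd hIL * S.nd hIL * _ = _ * (S.nd hIL * S.nd hIL)
        rw [nd_mul_nd, tor_xr]
        congr 2
        simp [hmn_val, hIL, hIL.symm]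
      calc S.twist L (S.xr hIL.symm t) = g * S.twist L (S.xr hIL (-t)) * g⁻¹ := by rw [← h3]; group
        _ = g⁻¹ * (g * g * S.twist L (S.xr hIL (-t))) * g⁻¹ := by group
        _ = g⁻¹ * S.twist L (S.xr hIL (-t)) * g := by rw [hnn.eq]; group
    show ρ (S.twist L (S.xr hIL.symm t)) p = p
    rw [h4, _root_.map_mul, _root_.map_mul, Module.End.mul_apply, Module.End.mul_apply, ← hw, hw2, hgi]
  show ρ (S.twist L (S.nd hIL)) p = p
  simp only [nd_eq, xr, _root_.map_mul, Module.End.mul_apply, hxfix, hlow]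

/-- The two last nodes are orthogonal. -/
theorem Small.Rop_fork {I L : Fin m} (hIL : I ≠ L) (hL : (L : ℕ) + 1 = m) (hI : (L : ℕ) = I + 1) {b : V}
    (hb : b ∈ S.VU ρ) :
    S.Rop (S.tw L ρ) hIL (S.Rop ρ hIL b) = 0 := by
  have hmem := H.Rop_mem hIL hI hb
  refine Rop_zero_of_nd hIL (Fin.lt_def.2 (by omega)) (by rwa [VU_tw L hp.bot hL]) ?_
  exact H.fix_Rop (fun b hb d => H.torus_fix hp hb d) hIL hI (fun c hc p hp' => H.twist_fix_Sp hp hIL hL hI hc hp')
    (nd_comm_twist hIL) hb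

end Fr

end CfsgLib.Classical.OrthMin
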