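/-
The lower bound for the dimension of a small representation.
-/
import Cfsg.Agent.Lib.Classical.OrthMin.Plus
import Cfsg.Agent.Lib.Classical.WeilOmega.Alt

set_option autoImplicit false

namespace CfsgLib.Classical.OrthMin

open Matrix Module Cfsg.Geo CfsgLib.Perm.Trans CfsgLib.Perm.Trans.Quad

variable {ι : Type} [Fintype ι] [DecidableEq ι] {F : Type*} [Field F] [Fintype F]
variable {Q : (ι → F) → F} {m : ℕ}
variable {V : Type*} [AddCommGroup V] [Module ℂ V]

local notation "pol" => QuadraticMap.polar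

namespace Fr

variable {S : Fr Q m} {ρ : Representation ℂ ↥(Cfsg.Omega F Q) V} {ψ : AddChar F ℂ} (H : S.Small ρ ψ)
include H

theorem Small.plus_count (hp : S.IsPlus) :
    Fintype.card F ^ m ≤ (Fintype.card F - 1) * finrank ℂ (S.VS ρ) + 1 := by
  classical
  haveI := H.fd
  obtain ⟨n, rfl⟩ : ∃ n, m = n + 4 := ⟨m - 4, by have := hp.four; omega⟩
  let nI : Fin (n + 4) := ⟨n + 2, by omega⟩
  let nL : Fin (n + 4) := ⟨n + 3, by omega⟩
  have hIL : nI ≠ nL := by simp [nI, nL]
  have hne : ∀ k (hk : k ≤ n + 2), (⟨k, by omega⟩ : Fin (n + 4)) ≠ ⟨k + 1, by omega⟩ := fun k hk => by simp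
  have hLlast : (nL : ℕ) + 1 = n + 4 := rfl
  have hVU : S.VU (S.tw nL ρ) = S.VU ρ := VU_tw nL hp.bot hLlast
  have hT : ∀ b ∈ S.VU ρ, ∀ d, ρ (S.tor d) b = b := fun b hb d => H.torus_fix hp hb d
  have hT' : ∀ b ∈ S.VU (S.tw nL ρ), ∀ d, S.tw nL ρ (S.tor d) b = b := fun b hb d =>
    (H.twisted nL).torus_fix hp hb d
  let op : ℕ → Module.End ℂ V := fun k =>
    if hk : k ≤ n + 2 then S.Rop ρ (hne k hk) else S.Rop (S.tw nL ρ) hIL
  have opc : ∀ k (hk : k ≤ n + 2), op k = S.Rop ρ (hne k hk) := fun k hk => dif_pos hk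
  have opf : op (n + 3) = S.Rop (S.tw nL ρ) hIL := dif_neg (by omega)
  have hmem : ∀ k, ∀ b ∈ S.VU ρ, op k b ∈ S.VU ρ := by
    intro k b hb
    by_cases hk : k ≤ n + 2
    · rw [opc k hk]
      exact H.Rop_mem (hne k hk) rfl hb
    · rw [show op k = S.Rop (S.tw nL ρ) hIL from dif_neg hk, ← hVU]
      exact (H.twisted nL).Rop_mem hIL rfl (by rwa [hVU])
  let R : ℕ → Module.End ℂ ↥(S.VU ρ) := fun k => (op k).restrict (hmem k)
  have hR : ∀ k (x : ↥(S.VU ρ)), (R k x : V) = op k x.1 := fun k x => rfl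
  have hfork : ∀ k, k ≤ n + 3 → ¬ k ≤ n + 2 → k = n + 3 := fun k h h' => by omega
  have hrel : RankOne.Rel n ((Fintype.card F : ℂ)) R := by
    refine ⟨fun k hk => LinearMap.ext fun x => Subtype.ext ?_, fun k hk => ?_, fun i hi j hj hij hna => ?_,
      fun i hi j hj ha => ?_, ?_⟩
    · show op k (op k x.1) = (-((Fintype.card F : ℂ) + 1)) • op k x.1
      by_cases h : k ≤ n + 2
      · rw [opc k h]
        exact H.Rop_sq hT (hne k h) (Fin.lt_def.2 (by simp)) x.2
      · rw [hfork k hk h, opf]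
        exact (H.twisted nL).Rop_sq hT' hIL (Fin.lt_def.2 (by simp [nI, nL])) (by rw [hVU]; exact x.2)
    · by_cases h : k ≤ n + 2
      · obtain ⟨u, hu, hline⟩ := H.Rop_line hT (hne k h) rfl
        refine ⟨⟨u, hu⟩, fun x => ?_⟩
        obtain ⟨a, ha⟩ := hline x.1 x.2
        exact ⟨a, Subtype.ext (by rw [hR, opc k h]; exact ha)⟩
      · obtain ⟨u, hu, hline⟩ := (H.twisted nL).Rop_line hT' hIL rfl
        refine ⟨⟨u, by rwa [hVU] at hu⟩, fun x => ?_⟩
        obtain ⟨a, ha⟩ := hline x.1 (by rw [hVU]; exact x.2)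
        exact ⟨a, Subtype.ext (by rw [hR, hfork k hk h, opf]; exact ha)⟩
    · refine LinearMap.ext fun x => Subtype.ext ?_
      show op i (op j x.1) = 0
      unfold RankOne.Adj at hna
      -- a chain node and the fork node
      have mix : ∀ k, k ≤ n → op (n + 3) (op k x.1) = 0 ∧ op k (op (n + 3) x.1) = 0 := fun k hk => by
        have he : op k = S.Rop (S.tw nL ρ) (hne k (by omega)) := by
          rw [opc k (by omega), Rop_tw (L := nL) (hne k (by omega)) (by simp [nL]; omega) (by simp [nL]; omega)]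
        rw [opf, he]
        exact (H.twisted nL).Rop_orth hp (hne k (by omega)) hIL rfl rfl (by simp [nI]; omega) (by rw [hVU]; exact x.2)
      have fork2 : op (n + 3) (op (n + 2) x.1) = 0 ∧ op (n + 2) (op (n + 3) x.1) = 0 := by
        rw [opf, opc (n + 2) le_rfl]
        refine ⟨H.Rop_fork hp (I := nI) (L := nL) hIL hLlast rfl x.2, ?_⟩
        have h := (H.twisted nL).Rop_fork hp (I := nI) (L := nL) hIL hLlast rfl (b := x.1) (by rw [hVU]; exact x.2)
        rwa [tw_tw] at h
      by_cases h1 : i ≤ n + 2 <;> by_cases h2 : j ≤ n + 2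
      · rw [opc i h1, opc j h2]
        rcases Nat.lt_or_ge i j with h | h
        · exact (H.Rop_orth hp (hne i h1) (hne j h2) rfl rfl (show i + 1 < j by omega) x.2).2
        · exact (H.Rop_orth hp (hne j h2) (hne i h1) rfl rfl (show j + 1 < i by omega) x.2).1
      · obtain rfl : j = n + 3 := by omega
        rcases eq_or_ne i (n + 2) with rfl | hi2
        exacts [fork2.2, (mix i (by omega)).2]
      · obtain rfl : i = n + 3 := by omega
        rcases eq_or_ne j (n + 2) with rfl | hj2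
        exacts [fork2.1, (mix j (by omega)).1]
      · omega
    · refine LinearMap.ext fun x => Subtype.ext ?_
      show op i (op j (op i x.1)) - (Fintype.card F : ℂ) • op i x.1 =
        op j (op i (op j x.1)) - (Fintype.card F : ℂ) • op j x.1
      have chain : ∀ k, k + 1 ≤ n + 2 → op k (op (k + 1) (op k x.1)) - (Fintype.card F : ℂ) • op k x.1 =
          op (k + 1) (op k (op (k + 1) x.1)) - (Fintype.card F : ℂ) • op (k + 1) x.1 := fun k hk => by
        rw [opc k (by omega), opc (k + 1) hk]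
        exact H.Rop_braid hT (hne k (by omega)) (hne (k + 1) hk) rfl rfl x.2
      have forkb : op (n + 1) (op (n + 3) (op (n + 1) x.1)) - (Fintype.card F : ℂ) • op (n + 1) x.1 =
          op (n + 3) (op (n + 1) (op (n + 3) x.1)) - (Fintype.card F : ℂ) • op (n + 3) x.1 := by
        have he : op (n + 1) = S.Rop (S.tw nL ρ) (hne (n + 1) (by omega)) := by
          rw [opc (n + 1) (by omega), Rop_tw (L := nL) (hne (n + 1) (by omega)) (by simp [nL]) (by simp [nL])]
        rw [opf, he]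
        exact (H.twisted nL).Rop_braid hT' (hne (n + 1) (by omega)) hIL rfl rfl (by rw [hVU]; exact x.2)
      rcases ha with ⟨h1, h2⟩ | ⟨h1, h2⟩ | ⟨rfl, rfl⟩ | ⟨rfl, rfl⟩
      · subst h1; exact chain i h2
      · subst h1; exact (chain j h2).symm
      · exact forkb
      · exact forkb.symm
    · obtain ⟨b, hb, hb0⟩ := Submodule.exists_mem_ne_zero_of_ne_bot H.VU_ne
      by_contra hno
      push Not at hno
      refine hb0 (H.eq_zero_of_rems hp hIL hLlast rfl hb (fun i j hij hj => ?_) ?_)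
      · have hi : i.val ≤ n + 2 := by omega
        have e : ∀ (a c : Fin (n + 4)) (h : a ≠ c), (c : ℕ) = a + 1 → op a.val = S.Rop ρ h := by
          rintro ⟨a, ha⟩ ⟨c, hc⟩ h (rfl : c = a + 1)
          exact opc a (by omega)
        refine H.rem_zero_of_Rop hT hij (Fin.lt_def.2 (by omega)) hb ?_
        have := congrArg Subtype.val (LinearMap.congr_fun (hno i.val (by omega)) ⟨b, hb⟩)
        rwa [hR, e i j hij hj] at this
      · refine (H.twisted nL).rem_zero_of_Rop hT' hIL (Fin.lt_def.2 (by simp [nI, nL])) (by rwa [hVU]) ?_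
        have := congrArg Subtype.val (LinearMap.congr_fun (hno (n + 3) le_rfl) ⟨b, hb⟩)
        rwa [hR, opf] at this
  have hq0 : ((Fintype.card F : ℂ)) ≠ 0 := Nat.cast_ne_zero.2 Fintype.card_ne_zero
  have hq1 : ((Fintype.card F : ℂ)) + 1 ≠ 0 := Nat.cast_add_one_ne_zero _
  have hdim : n + 4 ≤ finrank ℂ (S.VU ρ) := hrel.count hq0 hq1 Fintype.one_lt_card rfl
  have hSp : ∀ j : Fin (n + 4), ∀ r : ↥(RowSp F j), r.1 ≠ 0 → S.Sp ρ ψ j r.1 ≠ ⊥ := by
    intro j r hr
    obtain ⟨l, hl⟩ := Function.ne_iff.1 hr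
    have hjl : j < l := not_le.1 fun h => hl (r.2 l h)
    have hj2 : j.val ≤ n + 2 := by have := Fin.lt_def.1 hjl; omega
    obtain ⟨x, hx⟩ : ∃ x, R j.val x ≠ 0 := by
      by_contra hno
      push Not at hno
      exact hrel.all_ne_zero hq0 (i := j.val) (by omega) (LinearMap.ext hno)
    refine H.Sp_of_rem (hne j.val hj2) rfl x.2 (fun h0 => hx (Subtype.ext ?_)) r hr
    rw [hR, opc j.val hj2]
    exact H.Rop_of_rem_zero hT (hne j.val hj2) (Fin.lt_def.2 (by simp)) x.2 h0
  have hl := H.W_lower hSp (n + 4) le_rfl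
  rw [Nat.sub_self, W_zero, mul_add] at hl
  have := Nat.mul_le_mul_left (Fintype.card F - 1) hdim
  omega

theorem Small.VS_count : Fintype.card F ^ m ≤ (Fintype.card F - 1) * finrank ℂ (S.VS ρ) + 1 := by
  rcases H.hkind with hp | ⟨z, hz⟩
  exacts [H.plus_count hp, H.odd_count hz]

/-- The dimension bound. -/
theorem Small.bound :
    Fintype.card ↥S.K * ((Fintype.card F ^ m - 1) * (Fintype.card F ^ (m - 1) - 1)) +
      (Fintype.card F + 1) * (Fintype.card F ^ m - 1) ≤ (Fintype.card F ^ 2 - 1) * finrank ℂ V := by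
  classical
  haveI := H.fd
  have hm := S.hm
  set d0 := Fintype.card ↥S.K
  set T : Finset (Matrix (Fin m) (Fin m) F) :=
    Finset.univ.filter fun B => B ≠ 0 ∧ d0 ≤ finrank ℂ ((S.Zact ρ).eig (chiM ψ B)) with hT
  have hinv : ∀ g : SpecialLinearGroup (Fin m) F, ∀ B ∈ T, g.1ᵀ * B * g.1 ∈ T := by
    intro g B hB
    rw [hT, Finset.mem_filter] at hB ⊢
    obtain ⟨-, hB0, hBd⟩ := hB
    have e : g.1 * (g⁻¹).1 = 1 := by
      rw [show g.1 * (g⁻¹).1 = (g * g⁻¹).1 from rfl, mul_inv_cancel]; rfl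
    have e' : ((g⁻¹).1)ᵀ * g.1ᵀ = 1 := by rw [← transpose_mul, e, transpose_one]
    have hback : ((g⁻¹).1)ᵀ * (g.1ᵀ * B * g.1) * (g⁻¹).1 = B := by
      rw [← Matrix.mul_assoc, ← Matrix.mul_assoc, e', Matrix.one_mul, Matrix.mul_assoc, e, Matrix.mul_one]
    refine ⟨Finset.mem_univ _, fun h => hB0 (by rw [← hback, h]; simp), hBd.trans ?_⟩
    set h := g⁻¹ with hh
    have hinj : Function.Injective fun M : Matrix (Fin m) (Fin m) F => h.1 * M * h.1ᵀ := fun M N hMN => by
      have h1 := congrArg (fun X => g.1 * X * g.1ᵀ) hMN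
      have e2 : h.1ᵀ * g.1ᵀ = 1 := e'
      simp only [Matrix.mul_assoc, e2, Matrix.mul_one] at h1
      simpa only [← Matrix.mul_assoc, e, Matrix.one_mul] using h1
    refine LinearMap.finrank_le_finrank_of_injective (f := (ρ (S.le h)).restrict (fun x hx => ?_))
      (fun x y hxy => Subtype.ext (rho_injective ρ (S.le h) (congrArg Subtype.val hxy)))
    refine (S.Zact ρ).eig_map (g := ρ (S.le h)) (Finite.surjective_of_injective hinj) (fun M => ?_)
      (χ := chiM ψ B) (fun M => ?_) hx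
    · show ρ (S.le h) * ρ (S.zel M) = ρ (S.zel _) * ρ (S.le h)
      rw [← map_mul, ← map_mul, le_mul_zel]
    · have tr : ∀ A C : Matrix (Fin m) (Fin m) F, ∑ i, ∑ j, A i j * C i j = Matrix.trace (Aᵀ * C) := fun A C => by
        rw [Finset.sum_comm]
        simp [Matrix.trace, Matrix.mul_apply]
      rw [chiM_apply, chiM_apply, tr, tr]
      congr 1
      have key : ∀ C : Matrix (Fin m) (Fin m) F,
          Matrix.trace (Cᵀ * (h.1 * M * h.1ᵀ)) = Matrix.trace ((h.1ᵀ * C * h.1)ᵀ * M) := fun C => by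
        rw [transpose_mul, transpose_mul, transpose_transpose, ← Matrix.mul_assoc Cᵀ, Matrix.trace_mul_comm]
        simp only [Matrix.mul_assoc]
      rw [key, hback]
  let i₀ : Fin m := ⟨0, by omega⟩
  let i₁ : Fin m := ⟨1, by omega⟩
  have h01 : i₀ ≠ i₁ := by simp [i₀, i₁]
  have hwedge : WeilOmega.wedge (Pi.single i₀ (1 : F)) (Pi.single i₁ 1) = base2 i₀ i₁ (1 : F) := by
    ext a b
    simp only [WeilOmega.wedge_apply, base2, Matrix.sub_apply, single_apply, Pi.single_apply]
    split_ifs <;> grind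
  have hb0 : base2 i₀ i₁ (1 : F) ≠ 0 := fun e => by
    have := congrFun (congrFun e i₀) i₁
    simp [base2, h01] at this
  have hmemT : base2 i₀ i₁ (1 : F) ∈ T := by
    rw [hT, Finset.mem_filter]
    exact ⟨Finset.mem_univ _, hb0, (H.finrank_E0 h01 one_ne_zero).ge⟩
  have hcount := WeilOmega.card_rank_two hm T hinv (by rw [hwedge]; exact hmemT) (by rw [hwedge]; exact hb0)
  have h0T : (0 : Matrix (Fin m) (Fin m) F) ∉ T := by rw [hT, Finset.mem_filter]; simp
  have hsum := (S.Zact ρ).sum_finrank_le ((insert 0 T).map ⟨chiM ψ, chiM_injective H.hψ⟩)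
  rw [Finset.sum_map, Finset.sum_insert h0T] at hsum
  have hVS : finrank ℂ (S.VS ρ) ≤ finrank ℂ ((S.Zact ρ).eig (chiM ψ (0 : Matrix (Fin m) (Fin m) F))) := by
    refine Submodule.finrank_mono fun x hx => fun M => ?_
    rw [chiM_apply]
    simp only [Matrix.zero_apply, zero_mul, Finset.sum_const_zero, AddChar.map_zero_eq_one, one_smul]
    exact hx.1 M
  have hlow : T.card * d0 ≤ ∑ B ∈ T, finrank ℂ ((S.Zact ρ).eig (chiM ψ B)) := by
    rw [← smul_eq_mul]
    exact Finset.card_nsmul_le_sum _ _ _ fun B hB => by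
      rw [hT, Finset.mem_filter] at hB; exact hB.2.2
  simp only [Function.Embedding.coeFn_mk] at hsum
  have hq2 : Fintype.card F ^ 2 - 1 = (Fintype.card F + 1) * (Fintype.card F - 1) := by
    simpa using Nat.sq_sub_sq (Fintype.card F) 1
  have h1 := Nat.mul_le_mul_left d0 hcount
  have h2 : (Fintype.card F + 1) * (Fintype.card F ^ m - 1) ≤
      (Fintype.card F ^ 2 - 1) * finrank ℂ (S.VS ρ) := by
    rw [hq2, mul_assoc]
    exact Nat.mul_le_mul_left _ (by have := H.VS_count; omega)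
  calc d0 * ((Fintype.card F ^ m - 1) * (Fintype.card F ^ (m - 1) - 1)) +
        (Fintype.card F + 1) * (Fintype.card F ^ m - 1)
      ≤ d0 * ((Fintype.card F ^ 2 - 1) * T.card) + (Fintype.card F ^ 2 - 1) * finrank ℂ (S.VS ρ) :=
        add_le_add h1 h2
    _ = (Fintype.card F ^ 2 - 1) * (finrank ℂ (S.VS ρ) + T.card * d0) := by ring
    _ ≤ _ := Nat.mul_le_mul_left _ (by omega)

end Fr

end CfsgLib.Classical.OrthMin
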