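/-
The smallest degree of an irreducible representation.
-/
import Cfsg.Agent.Lib.Classical.OrthMin.Main
import Cfsg.Agent.Lib.Perm.Trans.QuadStd
import Cfsg.Agent.Lib.MinDeg.SubgroupEigen
import Cfsg.Agent.Lib.LinDeg.Spectral

set_option autoImplicit false

namespace CfsgLib.Classical.OrthMin

open Matrix Module Cfsg.Geo CfsgLib.Perm.Trans CfsgLib.Perm.Trans.Quad

local notation "pol" => QuadraticMap.polar

theorem bound_of_irreducible {ι : Type} [Fintype ι] [DecidableEq ι] {F : Type*} [Field F] [Fintype F]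
    {Q : (ι → F) → F} {m : ℕ} (S : Fr Q m) (hkind : S.Kind) (hq : 3 < Fintype.card F) {k : ℕ}
    (ρ : Representation ℂ ↥(Cfsg.Omega F Q) (Fin k → ℂ)) (hρ : ρ.IsIrreducible) (hk : 2 ≤ k) :
    2 * S.famCard ≤ k ∨
      Fintype.card ↥S.K * ((Fintype.card F ^ m - 1) * (Fintype.card F ^ (m - 1) - 1)) +
        (Fintype.card F + 1) * (Fintype.card F ^ m - 1) ≤ (Fintype.card F ^ 2 - 1) * k := by
  rcases le_or_gt (2 * S.famCard) k with h | h
  · exact Or.inl h
  obtain ⟨ψ, hψ⟩ := CfsgLib.LinDeg.exists_primitiveChar F ℂ (by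
    rw [ringChar.eq_zero]
    exact fun h => CharP.ringChar_ne_zero_of_finite F h.symm)
  have hfix : ∀ x : Fin k → ℂ, (∀ g, ρ g x = x) → x = 0 := fun x hx =>
    CfsgLib.MinDeg.SubgroupEigen.no_fixed hρ (by rw [Module.finrank_fin_fun]; exact hk) (S := Set.univ)
      Subgroup.closure_univ (fun g _ => hx g)
  have hne : ∃ g, ρ g ≠ 1 := by
    by_contra hno
    push Not at hno
    have h1 := hfix (fun _ => 1) fun g => by rw [hno g]; rfl
    exact one_ne_zero (congrFun h1 ⟨0, by omega⟩)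
  have H : S.Small ρ ψ :=
    ⟨inferInstance, hψ, hq, by rw [Module.finrank_fin_fun]; exact h, hne, hfix, hkind⟩
  have := H.bound
  rw [Module.finrank_fin_fun] at this
  exact Or.inr this

variable {F : Type*} [Field F] [Fintype F]

theorem polar_odd (m : ℕ) (x y : Unit ⊕ (Fin m ⊕ Fin m) → F) :
    pol (Cfsg.quadFormOdd m F) x y = 2 * x (.inl ()) * y (.inl ()) +
      ∑ i, (x (.inr (.inl i)) * y (.inr (.inr i)) + x (.inr (.inr i)) * y (.inr (.inl i))) := by
  simp only [QuadraticMap.polar, Cfsg.quadFormOdd, Pi.add_apply]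
  rw [Finset.sum_congr rfl fun i (_ : i ∈ Finset.univ) => show (x (Sum.inr (Sum.inl i)) + y (Sum.inr (Sum.inl i))) *
      (x (Sum.inr (Sum.inr i)) + y (Sum.inr (Sum.inr i))) = x (Sum.inr (Sum.inl i)) * x (Sum.inr (Sum.inr i)) +
      y (Sum.inr (Sum.inl i)) * y (Sum.inr (Sum.inr i)) + (x (Sum.inr (Sum.inl i)) * y (Sum.inr (Sum.inr i)) +
      x (Sum.inr (Sum.inr i)) * y (Sum.inr (Sum.inl i))) by ring]
  rw [Finset.sum_add_distrib, Finset.sum_add_distrib]
  ring

theorem polar_plus (m : ℕ) (x y : Fin m ⊕ Fin m → F) :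
    pol (Cfsg.quadFormPlus m F) x y = ∑ i, (x (.inl i) * y (.inr i) + x (.inr i) * y (.inl i)) := by
  simp only [QuadraticMap.polar, Cfsg.quadFormPlus, Pi.add_apply]
  rw [Finset.sum_congr rfl fun i (_ : i ∈ Finset.univ) => show (x (Sum.inl i) + y (Sum.inl i)) *
      (x (Sum.inr i) + y (Sum.inr i)) = x (Sum.inl i) * x (Sum.inr i) +
      y (Sum.inl i) * y (Sum.inr i) + (x (Sum.inl i) * y (Sum.inr i) +
      x (Sum.inr i) * y (Sum.inl i)) by ring]
  rw [Finset.sum_add_distrib, Finset.sum_add_distrib]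
  ring

/-- The standard frame in odd dimension. -/
noncomputable def frOdd {n : ℕ} (hn : 3 ≤ n) (h2 : (2 : F) ≠ 0) : Fr (Cfsg.quadFormOdd n F) n where
  hQ := quadFormOdd_nd h2
  hm := hn
  hι := by simp [Fintype.card_sum]; omega
  e i := Pi.single (.inr (.inl i)) 1
  f i := Pi.single (.inr (.inr i)) 1
  qe i := by simp [Cfsg.quadFormOdd, Pi.single_apply]
  qf i := by simp [Cfsg.quadFormOdd, Pi.single_apply]
  pee i j := by simp [polar_odd, Pi.single_apply]
  pff i j := by simp [polar_odd, Pi.single_apply]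
  pef i j := by simp [polar_odd, Pi.single_apply, eq_comm]
  aniso k he hf hk := by
    have h1 : ∀ i, k (.inr (.inr i)) = 0 := fun i => by simpa [polar_odd, Pi.single_apply] using he i
    have h1' : ∀ i, k (.inr (.inl i)) = 0 := fun i => by simpa [polar_odd, Pi.single_apply] using hf i
    have h0 : k (.inl ()) = 0 := by
      simp only [Cfsg.quadFormOdd, h1, mul_zero, Finset.sum_const_zero, add_zero] at hk
      exact pow_eq_zero_iff (n := 2) two_ne_zero |>.1 hk
    funext x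
    rcases x with ⟨⟩ | x | x
    exacts [h0, h1' x, h1 x]

theorem frOdd_isOdd {n : ℕ} (hn : 3 ≤ n) (h2 : (2 : F) ≠ 0) :
    (frOdd hn h2).IsOdd (Pi.single (Sum.inl ()) 1) where
  mem := ⟨fun i => by simp [frOdd, polar_odd, Pi.single_apply], fun i => by simp [frOdd, polar_odd, Pi.single_apply]⟩
  qne := by simp [Cfsg.quadFormOdd, Pi.single_apply]
  span k hk := ⟨k (.inl ()), by
    funext x
    rcases x with ⟨⟩ | x | x
    · simp
    · simpa [frOdd, polar_odd, Pi.single_apply] using hk.2 x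
    · simpa [frOdd, polar_odd, Pi.single_apply] using hk.1 x⟩

/-- The standard frame of plus type. -/
noncomputable def frPlus {n : ℕ} (hn : 4 ≤ n) : Fr (Cfsg.quadFormPlus n F) n where
  hQ := quadFormPlus_nd
  hm := by omega
  hι := by simp [Fintype.card_sum]; omega
  e i := Pi.single (.inl i) 1
  f i := Pi.single (.inr i) 1
  qe i := by simp [Cfsg.quadFormPlus, Pi.single_apply]
  qf i := by simp [Cfsg.quadFormPlus, Pi.single_apply]
  pee i j := by simp [polar_plus, Pi.single_apply]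
  pff i j := by simp [polar_plus, Pi.single_apply]
  pef i j := by simp [polar_plus, Pi.single_apply, eq_comm]
  aniso k he hf _ := by
    funext x
    rcases x with x | x
    · simpa [polar_plus, Pi.single_apply] using hf x
    · simpa [polar_plus, Pi.single_apply] using he x

theorem frPlus_isPlus {n : ℕ} (hn : 4 ≤ n) : (frPlus (F := F) hn).IsPlus where
  bot k hk := by
    funext x
    rcases x with x | x
    · simpa [frPlus, polar_plus, Pi.single_apply] using hk.2 x
    · simpa [frPlus, polar_plus, Pi.single_apply] using hk.1 x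
  four := hn

/-- The bound in odd dimension. -/
theorem odd_min_degree (n : ℕ) (hn : 3 ≤ n) (hodd : Odd (Fintype.card F)) (h3 : 3 < Fintype.card F) {k : ℕ}
    (ρ : Representation ℂ ↥(Cfsg.Omega F (Cfsg.quadFormOdd n F)) (Fin k → ℂ)) (hρ : ρ.IsIrreducible) (hk : 2 ≤ k) :
    (Fintype.card F ^ (2 * n) - 1) / (Fintype.card F ^ 2 - 1) ≤ k := by
  have h2 : (2 : F) ≠ 0 := fun h2 => by
    haveI : CharP F 2 := CharTwo.of_one_ne_zero_of_two_eq_zero one_ne_zero h2
    have := FiniteField.even_card_of_char_two (F := F) (ringChar.eq F 2)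
    rw [Nat.odd_iff] at hodd
    omega
  set S := frOdd (F := F) hn h2
  have hKind : S.Kind := Or.inr ⟨_, frOdd_isOdd hn h2⟩
  have hK : Fintype.card ↥S.K = Fintype.card F := by
    rcases Fr.card_K (S := S) hKind with h | ⟨h, -⟩
    · exfalso
      have hz := frOdd_isOdd (F := F) hn h2
      have h0 : (⟨_, hz.mem⟩ : ↥S.K) = 0 := Fintype.card_le_one_iff.1 h.le _ _
      exact hz.qne (by rw [show (Pi.single (Sum.inl ()) 1 : Unit ⊕ (Fin n ⊕ Fin n) → F) = 0 from
        congrArg Subtype.val h0]; exact qzero S.hQ)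
    · exact h
  refine Nat.div_le_of_le_mul ?_
  set q := Fintype.card F with hq
  obtain ⟨r, rfl⟩ : ∃ r, n = r + 2 := ⟨n - 2, by omega⟩
  rcases bound_of_irreducible S hKind h3 ρ hρ hk with h | h
  · refine le_trans ?_ (Nat.mul_le_mul_left _ h)
    have hf : S.famCard = (q - 1) * (q ^ (2 * r) * q) := by
      rw [Fr.famCard, Nat.card_eq_fintype_card, hK, Nat.add_sub_cancel]
    rw [hf, show 2 * (r + 2) = 2 * r + 4 by ring, pow_add]
    obtain ⟨c, hc⟩ : ∃ c, q = c + 1 := ⟨q - 1, by omega⟩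
    have hc3 : 3 ≤ c := by omega
    have e : q ^ 2 - 1 = c * (c + 2) := by rw [hc]; ring_nf; omega
    rw [e, show q - 1 = c by omega]
    refine (Nat.sub_le _ _).trans ?_
    have key : q ^ 3 ≤ c * (c + 2) * (2 * c) := by rw [hc]; nlinarith [Nat.mul_le_mul hc3 hc3]
    calc q ^ (2 * r) * q ^ 4 = q ^ (2 * r) * q * q ^ 3 := by ring
      _ ≤ q ^ (2 * r) * q * (c * (c + 2) * (2 * c)) := Nat.mul_le_mul_left _ key
      _ = _ := by ring
  · rw [hK] at h
    refine le_trans (le_of_eq ?_) h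
    have h1 : 1 ≤ q ^ (r + 1) := Nat.one_le_pow _ _ (by omega)
    have h1' : 1 ≤ q ^ (r + 2) := Nat.one_le_pow _ _ (by omega)
    rw [show r + 2 - 1 = r + 1 from rfl, show 2 * (r + 2) = (r + 2) + (r + 2) by ring, pow_add]
    obtain ⟨a, ha⟩ : ∃ a, q ^ (r + 1) = a + 1 := ⟨q ^ (r + 1) - 1, by omega⟩
    have hb : q ^ (r + 2) = q * (a + 1) := by rw [pow_succ, ha]; ring
    obtain ⟨b, hb'⟩ : ∃ b, q ^ (r + 2) = b + 1 := ⟨q ^ (r + 2) - 1, by omega⟩
    rw [hb', ha, Nat.add_sub_cancel, Nat.add_sub_cancel]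
    have : b + 1 = q * (a + 1) := hb'.symm.trans hb
    have e : (b + 1) * (b + 1) - 1 = b * (b + 2) := by ring_nf; omega
    rw [e, show b + 2 = q * a + (q + 1) by rw [show b + 2 = b + 1 + 1 from rfl, this]; ring]
    ring

/-- The bound in plus type. -/
theorem plus_min_degree (n : ℕ) (hn : 4 ≤ n) (h3 : 3 < Fintype.card F) {k : ℕ}
    (ρ : Representation ℂ ↥(Cfsg.Omega F (Cfsg.quadFormPlus n F)) (Fin k → ℂ)) (hρ : ρ.IsIrreducible) (hk : 2 ≤ k) :
    (Fintype.card F ^ n - 1) * (Fintype.card F ^ (n - 1) + Fintype.card F) / (Fintype.card F ^ 2 - 1) ≤ k := by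
  set S := frPlus (F := F) hn
  have hp := frPlus_isPlus (F := F) hn
  have hK : Fintype.card ↥S.K = 1 :=
    Fintype.card_eq_one_iff.2 ⟨0, fun k => Subtype.ext (hp.bot _ k.2)⟩
  refine Nat.div_le_of_le_mul ?_
  set q := Fintype.card F with hq
  obtain ⟨r, rfl⟩ : ∃ r, n = r + 2 := ⟨n - 2, by omega⟩
  rcases bound_of_irreducible S (Or.inl hp) h3 ρ hρ hk with h | h
  · refine le_trans ?_ (Nat.mul_le_mul_left _ h)
    have hf : S.famCard = (q - 1) * q ^ (2 * r) := by
      rw [Fr.famCard, Nat.card_eq_fintype_card, hK, Nat.add_sub_cancel, mul_one]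
    rw [hf, show r + 2 - 1 = r + 1 from rfl]
    obtain ⟨c, hc⟩ : ∃ c, q = c + 1 := ⟨q - 1, by omega⟩
    have hc3 : 3 ≤ c := by omega
    have e : q ^ 2 - 1 = c * (c + 2) := by rw [hc]; ring_nf; omega
    rw [e, show q - 1 = c by omega]
    have key : q ^ 3 + q ≤ c * (c + 2) * (2 * c) := by rw [hc]; nlinarith [Nat.mul_le_mul hc3 hc3]
    have hle : q ^ (r + 2) * q ≤ q ^ (2 * r) * q := Nat.mul_le_mul_right _ (Nat.pow_le_pow_right (by omega) (by omega))
    calc (q ^ (r + 2) - 1) * (q ^ (r + 1) + q) ≤ q ^ (r + 2) * (q ^ (r + 1) + q) :=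
          Nat.mul_le_mul_right _ (Nat.sub_le _ _)
      _ = q ^ (2 * r) * q ^ 3 + q ^ (r + 2) * q := by ring
      _ ≤ q ^ (2 * r) * q ^ 3 + q ^ (2 * r) * q := Nat.add_le_add_left hle _
      _ = q ^ (2 * r) * (q ^ 3 + q) := by ring
      _ ≤ q ^ (2 * r) * (c * (c + 2) * (2 * c)) := Nat.mul_le_mul_left _ key
      _ = _ := by ring
  · rw [hK, one_mul] at h
    refine le_trans (le_of_eq ?_) h
    rw [show r + 2 - 1 = r + 1 from rfl]
    obtain ⟨a, ha⟩ : ∃ a, q ^ (r + 1) = a + 1 := ⟨q ^ (r + 1) - 1, by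
      have h1 : 1 ≤ q ^ (r + 1) := Nat.one_le_pow _ _ (by omega)
      omega⟩
    rw [ha, Nat.add_sub_cancel]
    ring

end CfsgLib.Classical.OrthMin
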